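import Cfsg.Agent.H334.Ore.Mat

/-!
# Representatives of the classes of `M22` (data)
-/

set_option autoImplicit false
set_option Elab.async false

namespace Cfsg.Agent.H334.Ore.M22Data

open Cfsg.Agent.H334.Ore.Mat

def F : List ℕ := [23, 0]

def f0_0 : Fib where
  b := 1
  e := []

def f0_1 : Fib where
  b := 5
  e := [⟨0, [(1, 0), (2, 0), (4, 0), (5, 0), (6, 0), (3, 0), (4, 1), (7, 0), (8, 0), (9, 0), (6, 1), (10, 0), (11, 0), (2, 1), (7, 1), (12, 0), (5, 1), (13, 0), (14, 0), (14, 1), (15, 0), (9, 1), (8, 1), (0, 0)],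
    [(23, [23], []),
    (0, [0], []),
    (1, [1], []),
    (5, [0], []),
    (2, List.range 24, []),
    (3, List.range 24, []),
    (4, List.range 24, []),
    (7, List.range 24, [[(2, 0), (4, 0), (5, 0), (4, 1), (7, 0), (2, 1), (7, 1), (5, 1)]]),
    (8, List.range 24, [[(2, 0), (6, 0), (7, 0), (8, 0), (6, 1), (2, 1), (7, 1), (8, 1)], [(1, 0), (2, 0), (5, 0), (4, 1), (8, 0), (6, 1), (2, 1), (0, 0)]]),
    (9, List.range 24, [[(1, 0), (2, 0), (3, 0), (4, 1), (7, 0), (9, 0), (6, 1), (7, 1)], [(2, 0), (4, 0), (6, 0), (4, 1), (9, 0), (6, 1), (2, 1), (9, 1)]]),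
    (11, List.range 24, [[(2, 0), (4, 0), (5, 0), (6, 0), (3, 0), (8, 0), (10, 0), (2, 1)]]),
    (12, List.range 24, [[(1, 0), (2, 0), (4, 0), (5, 0), (6, 0), (7, 0), (6, 1), (11, 0)]]),
    (15, List.range 24, [[(2, 0), (4, 0), (4, 1), (7, 0), (8, 0), (6, 1), (10, 0), (12, 0)]]),
    (17, List.range 24, [[(1, 0), (5, 0), (6, 0), (3, 0), (7, 0), (9, 0), (10, 0), (13, 0)]]),
    (18, List.range 24, [[(1, 0), (4, 0), (5, 0), (3, 0), (4, 1), (7, 0), (8, 0), (14, 0)], [(2, 0), (5, 0), (6, 0), (4, 1), (7, 0), (8, 0), (9, 0), (14, 1)]]),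
    (20, List.range 24, [[(4, 0), (6, 0), (3, 0), (7, 0), (8, 0), (9, 0), (6, 1), (15, 0)]])]⟩,
    ⟨23, [(1, 0), (2, 0), (4, 0), (5, 0), (6, 0), (3, 0), (4, 1), (7, 0), (8, 0), (9, 0), (6, 1), (10, 0), (11, 0), (2, 1), (7, 1), (12, 0), (5, 1), (13, 0), (14, 0), (14, 1), (15, 0), (9, 1), (8, 1), (0, 0)],
    [(23, [23], []),
    (0, [0], []),
    (1, [1], []),
    (5, [23], []),
    (2, List.range 24, []),
    (3, List.range 24, []),
    (4, List.range 24, []),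
    (7, List.range 24, [[(2, 0), (4, 0), (5, 0), (4, 1), (7, 0), (2, 1), (7, 1), (5, 1)]]),
    (8, List.range 24, [[(2, 0), (6, 0), (7, 0), (8, 0), (6, 1), (2, 1), (7, 1), (8, 1)], [(1, 0), (2, 0), (5, 0), (4, 1), (8, 0), (6, 1), (2, 1), (0, 0)]]),
    (9, List.range 24, [[(1, 0), (2, 0), (3, 0), (4, 1), (7, 0), (9, 0), (6, 1), (7, 1)], [(2, 0), (4, 0), (6, 0), (4, 1), (9, 0), (6, 1), (2, 1), (9, 1)]]),
    (11, List.range 24, [[(2, 0), (4, 0), (5, 0), (6, 0), (3, 0), (8, 0), (10, 0), (2, 1)]]),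
    (12, List.range 24, [[(1, 0), (2, 0), (4, 0), (5, 0), (6, 0), (7, 0), (6, 1), (11, 0)]]),
    (15, List.range 24, [[(2, 0), (4, 0), (4, 1), (7, 0), (8, 0), (6, 1), (10, 0), (12, 0)]]),
    (17, List.range 24, [[(1, 0), (5, 0), (6, 0), (3, 0), (7, 0), (9, 0), (10, 0), (13, 0)]]),
    (18, List.range 24, [[(1, 0), (4, 0), (5, 0), (3, 0), (4, 1), (7, 0), (8, 0), (14, 0)], [(2, 0), (5, 0), (6, 0), (4, 1), (7, 0), (8, 0), (9, 0), (14, 1)]]),
    (20, List.range 24, [[(4, 0), (6, 0), (3, 0), (7, 0), (8, 0), (9, 0), (6, 1), (15, 0)]])]⟩]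

def f0_2 : Fib where
  b := 12
  e := [⟨0, [(1, 0), (3, 0), (5, 0), (6, 0), (7, 0), (2, 0), (5, 1), (8, 0), (9, 0), (10, 0), (7, 1), (11, 0), (4, 0), (3, 1), (8, 1), (12, 0), (6, 1), (13, 0), (14, 0), (14, 1), (15, 0), (10, 1), (9, 1), (0, 0)],
    [(23, [23], []),
    (0, [0], []),
    (5, [5], []),
    (1, [1], []),
    (12, [0], []),
    (2, List.range 24, []),
    (3, List.range 24, []),
    (4, List.range 24, []),
    (7, List.range 24, [[(1, 0), (3, 0), (5, 0), (6, 0), (7, 0), (8, 0), (7, 1), (4, 0)], [(3, 0), (5, 0), (6, 0), (5, 1), (8, 0), (3, 1), (8, 1), (6, 1)]]),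
    (8, List.range 24, [[(3, 0), (7, 0), (8, 0), (9, 0), (7, 1), (3, 1), (8, 1), (9, 1)], [(1, 0), (3, 0), (6, 0), (5, 1), (9, 0), (7, 1), (3, 1), (0, 0)]]),
    (9, List.range 24, [[(1, 0), (3, 0), (2, 0), (5, 1), (8, 0), (10, 0), (7, 1), (8, 1)], [(3, 0), (5, 0), (7, 0), (5, 1), (10, 0), (7, 1), (3, 1), (10, 1)]]),
    (11, List.range 24, [[(3, 0), (5, 0), (6, 0), (7, 0), (2, 0), (9, 0), (11, 0), (3, 1)]]),
    (15, List.range 24, [[(3, 0), (5, 0), (5, 1), (8, 0), (9, 0), (7, 1), (11, 0), (12, 0)]]),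
    (17, List.range 24, [[(1, 0), (6, 0), (7, 0), (2, 0), (8, 0), (10, 0), (11, 0), (13, 0)]]),
    (18, List.range 24, [[(1, 0), (5, 0), (6, 0), (2, 0), (5, 1), (8, 0), (9, 0), (14, 0)], [(3, 0), (6, 0), (7, 0), (5, 1), (8, 0), (9, 0), (10, 0), (14, 1)]]),
    (20, List.range 24, [[(5, 0), (7, 0), (2, 0), (8, 0), (9, 0), (10, 0), (7, 1), (15, 0)]])]⟩,
    ⟨11, [(1, 0), (3, 0), (7, 0), (8, 0), (9, 0), (2, 0), (7, 1), (10, 0), (6, 0), (11, 0), (9, 1), (12, 0), (4, 0), (3, 1), (10, 1), (13, 0), (8, 1), (5, 0), (14, 0), (14, 1), (15, 0), (11, 1), (6, 1), (0, 0)],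
    [(23, [23], []),
    (0, [0], []),
    (5, [5], []),
    (1, [1], []),
    (12, [11], []),
    (17, List.range 24, []),
    (8, List.range 24, [[(3, 0), (2, 0), (6, 0), (4, 0), (3, 1), (5, 0), (6, 1), (0, 0)]]),
    (2, List.range 24, []),
    (3, List.range 24, []),
    (4, List.range 24, [[(1, 0), (7, 0), (9, 0), (2, 0), (6, 0), (4, 0), (8, 1), (5, 0)], [(7, 0), (8, 0), (9, 0), (7, 1), (6, 0), (9, 1), (8, 1), (6, 1)]]),
    (7, List.range 24, [[(1, 0), (3, 0), (7, 0), (8, 0), (9, 0), (10, 0), (9, 1), (4, 0)], [(3, 0), (7, 0), (8, 0), (7, 1), (10, 0), (3, 1), (10, 1), (8, 1)]]),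
    (9, List.range 24, [[(1, 0), (3, 0), (2, 0), (7, 1), (10, 0), (11, 0), (9, 1), (10, 1)], [(3, 0), (7, 0), (9, 0), (7, 1), (11, 0), (9, 1), (3, 1), (11, 1)]]),
    (11, List.range 24, [[(3, 0), (7, 0), (8, 0), (9, 0), (2, 0), (6, 0), (12, 0), (3, 1)]]),
    (15, List.range 24, [[(3, 0), (7, 0), (7, 1), (10, 0), (6, 0), (9, 1), (12, 0), (13, 0)]]),
    (18, List.range 24, [[(1, 0), (7, 0), (8, 0), (2, 0), (7, 1), (10, 0), (6, 0), (14, 0)], [(3, 0), (8, 0), (9, 0), (7, 1), (10, 0), (6, 0), (11, 0), (14, 1)]]),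
    (20, List.range 24, [[(7, 0), (9, 0), (2, 0), (10, 0), (6, 0), (11, 0), (9, 1), (15, 0)]])]⟩,
    ⟨23, [(1, 0), (3, 0), (5, 0), (6, 0), (7, 0), (2, 0), (5, 1), (8, 0), (9, 0), (10, 0), (7, 1), (11, 0), (4, 0), (3, 1), (8, 1), (12, 0), (6, 1), (13, 0), (14, 0), (14, 1), (15, 0), (10, 1), (9, 1), (0, 0)],
    [(23, [23], []),
    (0, [0], []),
    (5, [5], []),
    (1, [1], []),
    (12, [23], []),
    (2, List.range 24, []),
    (3, List.range 24, []),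
    (4, List.range 24, []),
    (7, List.range 24, [[(1, 0), (3, 0), (5, 0), (6, 0), (7, 0), (8, 0), (7, 1), (4, 0)], [(3, 0), (5, 0), (6, 0), (5, 1), (8, 0), (3, 1), (8, 1), (6, 1)]]),
    (8, List.range 24, [[(3, 0), (7, 0), (8, 0), (9, 0), (7, 1), (3, 1), (8, 1), (9, 1)], [(1, 0), (3, 0), (6, 0), (5, 1), (9, 0), (7, 1), (3, 1), (0, 0)]]),
    (9, List.range 24, [[(1, 0), (3, 0), (2, 0), (5, 1), (8, 0), (10, 0), (7, 1), (8, 1)], [(3, 0), (5, 0), (7, 0), (5, 1), (10, 0), (7, 1), (3, 1), (10, 1)]]),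
    (11, List.range 24, [[(3, 0), (5, 0), (6, 0), (7, 0), (2, 0), (9, 0), (11, 0), (3, 1)]]),
    (15, List.range 24, [[(3, 0), (5, 0), (5, 1), (8, 0), (9, 0), (7, 1), (11, 0), (12, 0)]]),
    (17, List.range 24, [[(1, 0), (6, 0), (7, 0), (2, 0), (8, 0), (10, 0), (11, 0), (13, 0)]]),
    (18, List.range 24, [[(1, 0), (5, 0), (6, 0), (2, 0), (5, 1), (8, 0), (9, 0), (14, 0)], [(3, 0), (6, 0), (7, 0), (5, 1), (8, 0), (9, 0), (10, 0), (14, 1)]]),
    (20, List.range 24, [[(5, 0), (7, 0), (2, 0), (8, 0), (9, 0), (10, 0), (7, 1), (15, 0)]])]⟩]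

def r0 : Rec where
  p := 2
  c := 966158389308529030942218518639679904
  a := 963308691966458969401412646073909536
  b := 976704800380817189629205540512213280
  t := [966158389308529030942218518639679904, 984818244535754528103549039458486304, 984818244535754528103549039458486304, 984818244535754528103549039458486304]
  wd := [(1, 0), (4, 0), (12, 0), (8, 0), (13, 0), (3, 0), (12, 1), (15, 0), (6, 0), (9, 0), (13, 1), (7, 0), (2, 0), (4, 1), (15, 1), (11, 0), (8, 1), (5, 0), (14, 0), (14, 1), (10, 0), (9, 1), (6, 1), (0, 0)]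
  sts := [(23, [23], []),
    (0, [0], []),
    (12, [12], []),
    (5, [5], []),
    (1, [1], []),
    (17, List.range 24, []),
    (8, List.range 24, [[(4, 0), (3, 0), (6, 0), (2, 0), (4, 1), (5, 0), (6, 1), (0, 0)]]),
    (11, List.range 24, []),
    (3, List.range 24, [[(1, 0), (4, 0), (8, 0), (7, 0), (2, 0), (4, 1), (8, 1), (5, 0)]]),
    (9, List.range 24, [[(4, 0), (8, 0), (6, 0), (9, 0), (4, 1), (8, 1), (9, 1), (6, 1)]]),
    (20, List.range 24, [[(1, 0), (4, 0), (8, 0), (3, 0), (6, 0), (9, 0), (2, 0), (10, 0)]]),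
    (15, List.range 24, [[(4, 0), (3, 0), (6, 0), (7, 0), (2, 0), (11, 0), (8, 1), (9, 1)]]),
    (2, List.range 24, [[(1, 0), (4, 0), (12, 0), (3, 0), (12, 1), (2, 0), (4, 1), (11, 0)]]),
    (4, List.range 24, [[(4, 0), (12, 0), (8, 0), (13, 0), (3, 0), (6, 0), (7, 0), (4, 1)], [(1, 0), (4, 0), (13, 0), (6, 0), (9, 0), (13, 1), (7, 0), (8, 1)]]),
    (18, List.range 24, [[(4, 0), (13, 0), (3, 0), (12, 1), (6, 0), (13, 1), (2, 0), (14, 0)], [(1, 0), (12, 0), (12, 1), (6, 0), (9, 0), (13, 1), (2, 0), (14, 1)]]),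
    (7, List.range 24, [[(1, 0), (4, 0), (12, 0), (8, 0), (13, 0), (15, 0), (13, 1), (2, 0)], [(1, 0), (4, 0), (3, 0), (12, 1), (15, 0), (9, 0), (13, 1), (15, 1)]])]
  fib := [f0_0, f0_1, f0_2]
  n := 384

def f1_0 : Fib where
  b := 2
  e := [⟨7, [(1, 0), (5, 0), (2, 0), (5, 1), (6, 0), (2, 1), (2, 2), (7, 0), (8, 0), (4, 0), (9, 0), (10, 0), (8, 2), (11, 0), (7, 1), (7, 2), (11, 2), (4, 2), (11, 1), (5, 2), (3, 0), (4, 1), (8, 1), (0, 0)],
    [(23, [23], []),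
    (0, [0], []),
    (2, [7], []),
    (20, List.range 24, []),
    (9, List.range 24, [[(1, 0), (2, 0), (2, 1), (2, 2), (4, 0), (4, 2), (3, 0), (4, 1)]]),
    (1, List.range 24, []),
    (4, List.range 24, []),
    (7, List.range 24, [[(5, 0), (2, 0), (2, 2), (4, 0), (7, 1), (7, 2), (4, 2), (5, 2)], [(1, 0), (5, 0), (5, 1), (2, 2), (7, 0), (7, 2), (4, 2), (3, 0)], [(1, 0), (5, 0), (2, 0), (5, 1), (2, 1), (7, 1), (4, 2), (0, 0)]]),
    (8, List.range 24, [[(2, 0), (5, 1), (6, 0), (2, 1), (2, 2), (4, 0), (8, 2), (7, 1)], [(2, 1), (2, 2), (7, 0), (8, 0), (4, 0), (8, 2), (7, 2), (4, 2)], [(5, 0), (2, 0), (6, 0), (8, 0), (4, 0), (8, 2), (7, 2), (8, 1)]]),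
    (10, List.range 24, [[(1, 0), (5, 0), (2, 0), (5, 1), (6, 0), (7, 0), (9, 0), (8, 2)]]),
    (11, List.range 24, [[(5, 0), (2, 0), (2, 2), (7, 0), (8, 0), (9, 0), (10, 0), (7, 2)]]),
    (13, List.range 24, [[(5, 0), (2, 0), (5, 1), (6, 0), (2, 1), (8, 0), (10, 0), (11, 0)], [(1, 0), (5, 0), (6, 0), (8, 0), (4, 0), (9, 0), (10, 0), (11, 2)], [(1, 0), (2, 0), (5, 1), (2, 1), (2, 2), (7, 0), (8, 0), (11, 1)]])]⟩,
    ⟨9, [(1, 0), (5, 0), (2, 0), (5, 1), (6, 0), (2, 1), (2, 2), (4, 0), (7, 0), (8, 0), (9, 0), (10, 0), (7, 2), (11, 0), (4, 1), (4, 2), (11, 2), (8, 2), (11, 1), (5, 2), (3, 0), (8, 1), (7, 1), (0, 0)],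
    [(23, [23], []),
    (0, [0], []),
    (2, [9], []),
    (20, List.range 24, []),
    (7, List.range 24, [[(2, 0), (2, 1), (2, 2), (4, 0), (4, 1), (4, 2), (3, 0), (0, 0)]]),
    (1, List.range 24, []),
    (4, List.range 24, []),
    (8, List.range 24, [[(5, 0), (2, 0), (2, 1), (4, 0), (7, 0), (7, 2), (4, 1), (5, 2)], [(1, 0), (5, 0), (2, 0), (6, 0), (2, 2), (7, 0), (4, 1), (3, 0)], [(5, 0), (5, 1), (2, 1), (2, 2), (7, 0), (4, 1), (4, 2), (7, 1)]]),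
    (9, List.range 24, [[(2, 0), (5, 1), (6, 0), (2, 1), (2, 2), (8, 0), (7, 2), (4, 1)], [(2, 1), (2, 2), (4, 0), (7, 0), (8, 0), (7, 2), (4, 2), (8, 2)], [(5, 0), (2, 0), (5, 1), (2, 1), (4, 0), (8, 0), (4, 2), (8, 1)]]),
    (10, List.range 24, [[(1, 0), (5, 0), (2, 0), (5, 1), (6, 0), (4, 0), (9, 0), (7, 2)]]),
    (11, List.range 24, [[(5, 0), (2, 0), (2, 2), (4, 0), (7, 0), (9, 0), (10, 0), (4, 2)]]),
    (13, List.range 24, [[(5, 0), (2, 0), (5, 1), (6, 0), (2, 1), (7, 0), (10, 0), (11, 0)], [(1, 0), (5, 0), (6, 0), (7, 0), (8, 0), (9, 0), (10, 0), (11, 2)], [(1, 0), (2, 0), (5, 1), (2, 1), (2, 2), (4, 0), (7, 0), (11, 1)]])]⟩,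
    ⟨14, [(1, 0), (5, 0), (2, 0), (5, 1), (6, 0), (2, 1), (2, 2), (7, 0), (8, 0), (4, 0), (9, 0), (10, 0), (8, 2), (11, 0), (7, 1), (7, 2), (11, 2), (4, 2), (11, 1), (5, 2), (3, 0), (4, 1), (8, 1), (0, 0)],
    [(23, [23], []),
    (0, [0], []),
    (2, [14], []),
    (20, List.range 24, []),
    (9, List.range 24, [[(1, 0), (2, 0), (2, 1), (2, 2), (4, 0), (4, 2), (3, 0), (4, 1)]]),
    (1, List.range 24, []),
    (4, List.range 24, []),
    (7, List.range 24, [[(5, 0), (2, 0), (2, 2), (4, 0), (7, 1), (7, 2), (4, 2), (5, 2)], [(1, 0), (5, 0), (5, 1), (2, 2), (7, 0), (7, 2), (4, 2), (3, 0)], [(1, 0), (5, 0), (2, 0), (5, 1), (2, 1), (7, 1), (4, 2), (0, 0)]]),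
    (8, List.range 24, [[(2, 0), (5, 1), (6, 0), (2, 1), (2, 2), (4, 0), (8, 2), (7, 1)], [(2, 1), (2, 2), (7, 0), (8, 0), (4, 0), (8, 2), (7, 2), (4, 2)], [(5, 0), (2, 0), (6, 0), (8, 0), (4, 0), (8, 2), (7, 2), (8, 1)]]),
    (10, List.range 24, [[(1, 0), (5, 0), (2, 0), (5, 1), (6, 0), (7, 0), (9, 0), (8, 2)]]),
    (11, List.range 24, [[(5, 0), (2, 0), (2, 2), (7, 0), (8, 0), (9, 0), (10, 0), (7, 2)]]),
    (13, List.range 24, [[(5, 0), (2, 0), (5, 1), (6, 0), (2, 1), (8, 0), (10, 0), (11, 0)], [(1, 0), (5, 0), (6, 0), (8, 0), (4, 0), (9, 0), (10, 0), (11, 2)], [(1, 0), (2, 0), (5, 1), (2, 1), (2, 2), (7, 0), (8, 0), (11, 1)]])]⟩,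
    ⟨15, [(1, 0), (5, 0), (2, 0), (5, 1), (6, 0), (2, 1), (2, 2), (7, 0), (8, 0), (4, 0), (9, 0), (10, 0), (8, 2), (11, 0), (7, 1), (7, 2), (11, 2), (4, 2), (11, 1), (5, 2), (3, 0), (4, 1), (8, 1), (0, 0)],
    [(23, [23], []),
    (0, [0], []),
    (2, [15], []),
    (20, List.range 24, []),
    (9, List.range 24, [[(1, 0), (2, 0), (2, 1), (2, 2), (4, 0), (4, 2), (3, 0), (4, 1)]]),
    (1, List.range 24, []),
    (4, List.range 24, []),
    (7, List.range 24, [[(5, 0), (2, 0), (2, 2), (4, 0), (7, 1), (7, 2), (4, 2), (5, 2)], [(1, 0), (5, 0), (5, 1), (2, 2), (7, 0), (7, 2), (4, 2), (3, 0)], [(1, 0), (5, 0), (2, 0), (5, 1), (2, 1), (7, 1), (4, 2), (0, 0)]]),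
    (8, List.range 24, [[(2, 0), (5, 1), (6, 0), (2, 1), (2, 2), (4, 0), (8, 2), (7, 1)], [(2, 1), (2, 2), (7, 0), (8, 0), (4, 0), (8, 2), (7, 2), (4, 2)], [(5, 0), (2, 0), (6, 0), (8, 0), (4, 0), (8, 2), (7, 2), (8, 1)]]),
    (10, List.range 24, [[(1, 0), (5, 0), (2, 0), (5, 1), (6, 0), (7, 0), (9, 0), (8, 2)]]),
    (11, List.range 24, [[(5, 0), (2, 0), (2, 2), (7, 0), (8, 0), (9, 0), (10, 0), (7, 2)]]),
    (13, List.range 24, [[(5, 0), (2, 0), (5, 1), (6, 0), (2, 1), (8, 0), (10, 0), (11, 0)], [(1, 0), (5, 0), (6, 0), (8, 0), (4, 0), (9, 0), (10, 0), (11, 2)], [(1, 0), (2, 0), (5, 1), (2, 1), (2, 2), (7, 0), (8, 0), (11, 1)]])]⟩,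
    ⟨17, [(1, 0), (5, 0), (2, 0), (5, 1), (6, 0), (2, 1), (2, 2), (4, 0), (7, 0), (8, 0), (9, 0), (10, 0), (7, 2), (11, 0), (4, 1), (4, 2), (11, 2), (8, 2), (11, 1), (5, 2), (3, 0), (8, 1), (7, 1), (0, 0)],
    [(23, [23], []),
    (0, [0], []),
    (2, [17], []),
    (20, List.range 24, []),
    (7, List.range 24, [[(2, 0), (2, 1), (2, 2), (4, 0), (4, 1), (4, 2), (3, 0), (0, 0)]]),
    (1, List.range 24, []),
    (4, List.range 24, []),
    (8, List.range 24, [[(5, 0), (2, 0), (2, 1), (4, 0), (7, 0), (7, 2), (4, 1), (5, 2)], [(1, 0), (5, 0), (2, 0), (6, 0), (2, 2), (7, 0), (4, 1), (3, 0)], [(5, 0), (5, 1), (2, 1), (2, 2), (7, 0), (4, 1), (4, 2), (7, 1)]]),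
    (9, List.range 24, [[(2, 0), (5, 1), (6, 0), (2, 1), (2, 2), (8, 0), (7, 2), (4, 1)], [(2, 1), (2, 2), (4, 0), (7, 0), (8, 0), (7, 2), (4, 2), (8, 2)], [(5, 0), (2, 0), (5, 1), (2, 1), (4, 0), (8, 0), (4, 2), (8, 1)]]),
    (10, List.range 24, [[(1, 0), (5, 0), (2, 0), (5, 1), (6, 0), (4, 0), (9, 0), (7, 2)]]),
    (11, List.range 24, [[(5, 0), (2, 0), (2, 2), (4, 0), (7, 0), (9, 0), (10, 0), (4, 2)]]),
    (13, List.range 24, [[(5, 0), (2, 0), (5, 1), (6, 0), (2, 1), (7, 0), (10, 0), (11, 0)], [(1, 0), (5, 0), (6, 0), (7, 0), (8, 0), (9, 0), (10, 0), (11, 2)], [(1, 0), (2, 0), (5, 1), (2, 1), (2, 2), (4, 0), (7, 0), (11, 1)]])]⟩,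
    ⟨21, [(1, 0), (5, 0), (2, 0), (5, 1), (6, 0), (2, 1), (2, 2), (4, 0), (7, 0), (8, 0), (9, 0), (10, 0), (7, 2), (11, 0), (4, 1), (4, 2), (11, 2), (8, 2), (11, 1), (5, 2), (3, 0), (8, 1), (7, 1), (0, 0)],
    [(23, [23], []),
    (0, [0], []),
    (2, [21], []),
    (20, List.range 24, []),
    (7, List.range 24, [[(2, 0), (2, 1), (2, 2), (4, 0), (4, 1), (4, 2), (3, 0), (0, 0)]]),
    (1, List.range 24, []),
    (4, List.range 24, []),
    (8, List.range 24, [[(5, 0), (2, 0), (2, 1), (4, 0), (7, 0), (7, 2), (4, 1), (5, 2)], [(1, 0), (5, 0), (2, 0), (6, 0), (2, 2), (7, 0), (4, 1), (3, 0)], [(5, 0), (5, 1), (2, 1), (2, 2), (7, 0), (4, 1), (4, 2), (7, 1)]]),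
    (9, List.range 24, [[(2, 0), (5, 1), (6, 0), (2, 1), (2, 2), (8, 0), (7, 2), (4, 1)], [(2, 1), (2, 2), (4, 0), (7, 0), (8, 0), (7, 2), (4, 2), (8, 2)], [(5, 0), (2, 0), (5, 1), (2, 1), (4, 0), (8, 0), (4, 2), (8, 1)]]),
    (10, List.range 24, [[(1, 0), (5, 0), (2, 0), (5, 1), (6, 0), (4, 0), (9, 0), (7, 2)]]),
    (11, List.range 24, [[(5, 0), (2, 0), (2, 2), (4, 0), (7, 0), (9, 0), (10, 0), (4, 2)]]),
    (13, List.range 24, [[(5, 0), (2, 0), (5, 1), (6, 0), (2, 1), (7, 0), (10, 0), (11, 0)], [(1, 0), (5, 0), (6, 0), (7, 0), (8, 0), (9, 0), (10, 0), (11, 2)], [(1, 0), (2, 0), (5, 1), (2, 1), (2, 2), (4, 0), (7, 0), (11, 1)]])]⟩]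

def r1 : Rec where
  p := 3
  c := 971674527269832880431752993353340000
  a := 958024731874762109918187463328088608
  b := 959726450250151003265118002802236928
  t := [966631849086277357753315706047483072, 971337530596106747084300337098591392, 984818244535754528103549039458486304, 984818244535754528103549039458486304]
  wd := [(1, 0), (7, 0), (2, 0), (7, 1), (9, 0), (2, 1), (2, 2), (5, 0), (6, 0), (4, 0), (10, 0), (11, 0), (6, 2), (8, 0), (5, 1), (5, 2), (8, 2), (4, 2), (8, 1), (7, 2), (3, 0), (4, 1), (6, 1), (0, 0)]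
  sts := [(23, [23], []),
    (0, [0], []),
    (2, [2], []),
    (20, List.range 24, []),
    (9, List.range 24, [[(1, 0), (2, 0), (2, 1), (2, 2), (4, 0), (4, 2), (3, 0), (4, 1)]]),
    (7, List.range 24, [[(2, 0), (2, 1), (2, 2), (5, 0), (5, 1), (5, 2), (3, 0), (0, 0)]]),
    (8, List.range 24, [[(2, 1), (2, 2), (5, 0), (6, 0), (4, 0), (6, 2), (5, 2), (4, 2)], [(1, 0), (2, 2), (4, 0), (6, 2), (5, 1), (5, 2), (3, 0), (6, 1)]]),
    (1, List.range 24, [[(7, 0), (2, 0), (2, 1), (5, 0), (6, 0), (6, 2), (5, 1), (7, 2)], [(1, 0), (7, 0), (7, 1), (2, 1), (6, 0), (4, 0), (6, 2), (3, 0)]]),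
    (13, List.range 24, [[(1, 0), (7, 0), (2, 0), (2, 1), (2, 2), (6, 2), (8, 0), (5, 2)], [(7, 0), (2, 0), (7, 1), (2, 2), (5, 0), (8, 0), (5, 1), (8, 2)], [(1, 0), (2, 0), (7, 1), (2, 1), (2, 2), (5, 0), (6, 0), (8, 1)]]),
    (4, List.range 24, [[(2, 0), (7, 1), (9, 0), (2, 1), (2, 2), (4, 0), (6, 2), (5, 1)]]),
    (10, List.range 24, [[(1, 0), (7, 0), (2, 0), (7, 1), (9, 0), (5, 0), (10, 0), (6, 2)]]),
    (11, List.range 24, [[(7, 0), (2, 0), (7, 1), (9, 0), (2, 1), (6, 0), (11, 0), (8, 0)]])]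
  fib := [f1_0]
  n := 36

def r2 : Rec where
  p := 4
  c := 976721369067768948096133406861728160
  a := 964836884573763795133280541652507168
  b := 982129111478908961202207307898163776
  t := [981940260449521198767676458684353088, 978325340827054090073317635410827488, 984818244535754528103549039458486304, 984818244535754528103549039458486304]
  wd := [(1, 0), (9, 0), (7, 0), (6, 0), (5, 0), (5, 1), (7, 1), (8, 0), (4, 0), (4, 3), (2, 0), (3, 0), (4, 1), (9, 1), (6, 2), (6, 3), (8, 3), (9, 2), (8, 1), (4, 2), (9, 3), (6, 1), (8, 2), (0, 0)]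
  sts := [(23, [23], []),
    (0, [0], []),
    (10, List.range 24, []),
    (11, List.range 24, []),
    (8, List.range 24, []),
    (4, List.range 24, [[(5, 0), (5, 1), (4, 0), (4, 3), (3, 0), (4, 1), (4, 2), (0, 0)]]),
    (3, List.range 24, [[(1, 0), (6, 0), (5, 0), (5, 1), (4, 0), (2, 0), (6, 2), (4, 2)], [(1, 0), (5, 0), (5, 1), (4, 3), (2, 0), (4, 1), (6, 3), (6, 1)]]),
    (2, List.range 24, [[(7, 0), (6, 0), (5, 0), (5, 1), (7, 1), (4, 3), (4, 1), (6, 2)], [(1, 0), (6, 0), (5, 0), (7, 1), (4, 0), (3, 0), (4, 1), (6, 3)]]),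
    (7, List.range 24, [[(7, 0), (6, 0), (8, 0), (4, 0), (4, 3), (3, 0), (4, 1), (8, 3)], [(1, 0), (7, 0), (6, 0), (5, 1), (7, 1), (8, 0), (4, 0), (8, 1)], [(5, 0), (7, 1), (8, 0), (4, 3), (2, 0), (3, 0), (4, 1), (8, 2)]]),
    (1, List.range 24, [[(1, 0), (9, 0), (7, 0), (6, 0), (5, 0), (8, 0), (2, 0), (4, 1)], [(9, 0), (7, 0), (6, 0), (5, 0), (5, 1), (4, 0), (3, 0), (9, 1)], [(1, 0), (6, 0), (5, 0), (5, 1), (8, 0), (4, 3), (3, 0), (9, 2)], [(7, 0), (5, 0), (5, 1), (8, 0), (4, 0), (4, 3), (2, 0), (9, 3)]])]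
  fib := []
  n := 16

def r3 : Rec where
  p := 4
  c := 968617185868928776273660872791459424
  a := 966063913364347907258615288729024896
  b := 967782039983107010455843646109523136
  t := [984194560199829098639614076839364832, 969240639698959892833163127799783008, 984818244535754528103549039458486304, 984818244535754528103549039458486304]
  wd := [(1, 0), (5, 0), (5, 3), (4, 0), (6, 0), (7, 0), (9, 0), (5, 2), (6, 3), (2, 0), (8, 0), (4, 3), (6, 1), (7, 3), (7, 2), (7, 1), (3, 0), (4, 1), (4, 2), (5, 1), (6, 2), (9, 1), (8, 1), (0, 0)]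
  sts := [(23, [23], []),
    (0, [0], []),
    (9, List.range 24, []),
    (16, List.range 24, []),
    (3, List.range 24, []),
    (1, List.range 24, [[(5, 0), (5, 3), (4, 0), (5, 2), (4, 3), (4, 1), (4, 2), (5, 1)], [(1, 0), (5, 0), (4, 0), (5, 2), (2, 0), (3, 0), (4, 2), (0, 0)]]),
    (4, List.range 24, [[(5, 3), (4, 0), (5, 2), (6, 3), (2, 0), (4, 3), (6, 1), (3, 0)], [(5, 0), (6, 0), (5, 2), (6, 3), (4, 3), (6, 1), (4, 1), (6, 2)]]),
    (5, List.range 24, [[(5, 0), (5, 3), (4, 0), (6, 0), (7, 0), (6, 3), (4, 3), (7, 3)], [(1, 0), (5, 3), (7, 0), (6, 3), (2, 0), (4, 3), (7, 2), (7, 1)], [(1, 0), (4, 0), (6, 0), (7, 0), (5, 2), (2, 0), (4, 3), (4, 1)], [(1, 0), (6, 0), (5, 2), (6, 3), (2, 0), (6, 1), (7, 2), (4, 2)]]),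
    (10, List.range 24, [[(1, 0), (5, 0), (5, 3), (4, 0), (6, 0), (5, 2), (8, 0), (6, 1)], [(5, 3), (4, 0), (7, 0), (5, 2), (8, 0), (4, 3), (7, 2), (8, 1)]]),
    (6, List.range 24, [[(1, 0), (5, 0), (7, 0), (9, 0), (5, 2), (2, 0), (8, 0), (7, 2)], [(4, 0), (7, 0), (9, 0), (6, 3), (2, 0), (8, 0), (4, 3), (9, 1)]])]
  fib := []
  n := 32

def r4 : Rec where
  p := 5
  c := 963956304443641300529522121529536576
  a := 977533120643199375094181956072869152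
  b := 957436664390909697062839374473386464
  t := [984067557695403189637163205127740896, 970196953300861677930843264073707744, 984818244535754528103549039458486304, 984818244535754528103549039458486304]
  wd := [(1, 0), (7, 0), (7, 1), (5, 0), (4, 0), (6, 0), (4, 4), (7, 3), (6, 2), (6, 3), (6, 1), (4, 2), (7, 2), (5, 4), (5, 3), (7, 4), (3, 0), (2, 0), (6, 4), (5, 2), (4, 1), (5, 1), (4, 3), (0, 0)]
  sts := [(23, [23], []),
    (0, [0], []),
    (17, List.range 24, []),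
    (16, List.range 24, []),
    (4, List.range 24, [[(1, 0), (4, 0), (4, 4), (4, 2), (3, 0), (2, 0), (4, 1), (4, 3)]]),
    (3, List.range 24, [[(1, 0), (5, 0), (5, 4), (5, 3), (3, 0), (5, 2), (5, 1), (0, 0)]]),
    (5, List.range 24, [[(1, 0), (5, 0), (4, 4), (6, 2), (6, 3), (5, 3), (3, 0), (2, 0)], [(4, 0), (6, 0), (6, 3), (6, 1), (4, 2), (5, 4), (5, 3), (6, 4)], [(1, 0), (5, 0), (4, 0), (6, 0), (6, 2), (6, 1), (5, 3), (5, 2)], [(1, 0), (5, 0), (6, 0), (4, 4), (4, 2), (5, 4), (5, 3), (4, 1)], [(5, 0), (6, 0), (4, 4), (6, 2), (6, 3), (6, 1), (4, 2), (5, 1)]]),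
    (1, List.range 24, [[(1, 0), (7, 0), (7, 1), (5, 0), (4, 0), (7, 3), (6, 1), (7, 2)], [(7, 0), (7, 1), (5, 0), (4, 0), (6, 0), (6, 2), (4, 2), (5, 4)], [(1, 0), (7, 0), (6, 0), (4, 4), (7, 3), (6, 3), (6, 1), (5, 3)], [(7, 0), (7, 1), (4, 4), (7, 3), (6, 2), (6, 1), (4, 2), (7, 4)], [(1, 0), (7, 0), (4, 0), (6, 2), (6, 3), (6, 1), (4, 2), (3, 0)]])]
  fib := []
  n := 5

def r5 : Rec where
  p := 6
  c := 974265648109078940214804430252913312
  a := 971095748680487318554151696990353984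
  b := 963215800885813202539522981773025728
  t := [973606461760135017242396451293777568, 984650895008759490611503713509263392, 984818244535754528103549039458486304, 984818244535754528103549039458486304]
  wd := [(1, 0), (7, 0), (4, 0), (2, 0), (2, 4), (2, 5), (3, 0), (2, 2), (5, 0), (4, 2), (2, 3), (4, 3), (4, 1), (3, 1), (6, 0), (2, 1), (5, 2), (7, 2), (4, 4), (4, 5), (5, 1), (7, 1), (6, 1), (0, 0)]
  sts := [(23, [23], []),
    (0, [0], []),
    (3, List.range 24, []),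
    (6, List.range 24, [[(2, 0), (2, 4), (2, 5), (3, 0), (2, 2), (2, 3), (3, 1), (2, 1)]]),
    (2, List.range 24, [[(4, 0), (2, 0), (3, 0), (2, 3), (4, 3), (4, 1), (3, 1), (4, 4)], [(4, 0), (2, 5), (3, 0), (2, 2), (4, 2), (4, 3), (3, 1), (4, 5)], [(1, 0), (4, 0), (2, 4), (2, 5), (3, 0), (2, 3), (4, 3), (0, 0)]]),
    (8, List.range 24, [[(1, 0), (2, 5), (2, 2), (5, 0), (2, 3), (4, 3), (4, 1), (3, 1)], [(4, 0), (2, 0), (2, 2), (5, 0), (4, 2), (4, 3), (4, 1), (5, 2)], [(4, 0), (2, 4), (2, 5), (2, 2), (5, 0), (4, 2), (2, 3), (5, 1)]]),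
    (14, List.range 24, [[(4, 0), (2, 0), (2, 4), (2, 5), (3, 0), (4, 2), (4, 1), (6, 0)], [(2, 4), (3, 0), (2, 2), (4, 2), (2, 3), (4, 3), (4, 1), (6, 1)]]),
    (1, List.range 24, [[(1, 0), (7, 0), (4, 0), (2, 0), (2, 4), (2, 2), (2, 3), (4, 1)], [(1, 0), (2, 0), (2, 4), (2, 5), (2, 2), (4, 2), (4, 3), (7, 2)], [(2, 0), (2, 5), (3, 0), (5, 0), (4, 2), (2, 3), (4, 3), (7, 1)]])]
  fib := []
  n := 12

def r6 : Rec where
  p := 7
  c := 961068877354262454538544732454554656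
  a := 961940324688536376250042232131300960
  b := 973125302396616786144685540391437344
  t := [960884477435128931241433760505432096, 978288180344178655415768347585978720, 984047037291180602505319756197188640, 967924247449819227785617513283564992]
  wd := [(1, 0), (2, 0), (5, 0), (5, 1), (3, 0), (3, 4), (4, 0), (3, 5), (5, 5), (5, 2), (5, 6), (3, 1), (4, 6), (3, 2), (5, 3), (4, 1), (4, 3), (4, 2), (5, 4), (4, 4), (3, 3), (4, 5), (3, 6), (0, 0)]
  sts := [(23, [23], []),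
    (0, [0], []),
    (1, List.range 24, []),
    (4, List.range 24, [[(3, 0), (3, 4), (3, 5), (3, 1), (3, 2), (3, 3), (3, 6), (0, 0)]]),
    (6, List.range 24, [[(1, 0), (3, 0), (3, 4), (3, 1), (3, 2), (4, 1), (4, 3), (4, 4)], [(4, 0), (3, 5), (3, 1), (4, 6), (3, 2), (4, 1), (4, 3), (3, 3)], [(3, 0), (3, 4), (4, 0), (3, 1), (4, 6), (3, 2), (4, 2), (4, 5)], [(1, 0), (3, 0), (3, 5), (4, 6), (3, 2), (4, 1), (4, 2), (3, 6)]]),
    (2, List.range 24, [[(1, 0), (2, 0), (5, 0), (5, 1), (3, 0), (3, 5), (5, 6), (4, 6)], [(2, 0), (5, 0), (5, 1), (3, 0), (3, 4), (5, 5), (3, 1), (3, 2)], [(1, 0), (2, 0), (3, 4), (4, 0), (3, 5), (5, 2), (5, 6), (5, 3)], [(2, 0), (5, 0), (4, 0), (3, 5), (5, 5), (5, 6), (3, 1), (4, 1)], [(1, 0), (2, 0), (3, 0), (5, 5), (5, 2), (5, 6), (3, 1), (4, 3)], [(1, 0), (5, 1), (3, 0), (3, 4), (3, 5), (5, 2), (3, 1), (4, 2)], [(1, 0), (5, 0), (5, 1), (3, 4), (4, 0), (3, 5), (5, 5),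 (5, 4)]])]
  fib := []
  n := 7

def r7 : Rec where
  p := 7
  c := 972301492090467176557215791638463008
  a := 970214834983256241005328025581234240
  b := 958202687267880581578388907572450624
  t := [984802378476862084643019760215902752, 973122887587861701392823884636653600, 984511178447253103018526886167072800, 978305709576370163022008173360465952]
  wd := [(1, 0), (5, 0), (3, 0), (4, 0), (4, 4), (3, 2), (5, 5), (4, 5), (4, 6), (2, 0), (4, 2), (4, 3), (3, 3), (5, 4), (5, 2), (3, 4), (3, 1), (5, 1), (4, 1), (3, 5), (3, 6), (5, 6), (5, 3), (0, 0)]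
  sts := [(23, [23], []),
    (0, [0], []),
    (9, List.range 24, []),
    (2, List.range 24, [[(3, 0), (3, 2), (2, 0), (3, 3), (3, 4), (3, 1), (3, 5), (3, 6)]]),
    (3, List.range 24, [[(3, 0), (4, 0), (4, 5), (4, 6), (2, 0), (4, 3), (3, 3), (3, 1)], [(3, 0), (4, 4), (3, 2), (4, 5), (4, 3), (3, 3), (3, 4), (4, 1)], [(3, 0), (4, 0), (4, 4), (2, 0), (4, 2), (4, 3), (3, 4), (3, 5)], [(3, 0), (4, 0), (3, 2), (4, 6), (4, 2), (3, 3), (3, 4), (0, 0)]]),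
    (1, List.range 24, [[(1, 0), (5, 0), (3, 0), (4, 0), (4, 4), (4, 5), (4, 2), (3, 3)], [(5, 0), (3, 0), (4, 0), (4, 4), (3, 2), (4, 6), (4, 3), (5, 4)], [(1, 0), (5, 0), (3, 2), (5, 5), (4, 5), (2, 0), (4, 2), (5, 2)], [(5, 0), (3, 0), (5, 5), (4, 5), (4, 6), (4, 2), (4, 3), (3, 4)], [(1, 0), (4, 0), (4, 4), (3, 2), (4, 5), (2, 0), (4, 3), (5, 1)], [(4, 0), (3, 2), (5, 5), (4, 6), (2, 0), (4, 2), (4, 3), (5, 6)], [(1, 0), (5, 0), (3, 0), (4, 0), (5, 5), (2, 0), (4, 3), (5, 3)]])]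
  fib := []
  n := 7

def r8 : Rec where
  p := 8
  c := 971068790014835402623168903417832896
  a := 958412522476133252206722636352360064
  b := 959948187747593066336673665568548896
  t := [962263927365024076866113962913140928, 973725587531049923986923607544630880, 979605670025608069816178973830392160, 970516589341703275024746955868852800]
  wd := [(1, 0), (2, 0), (4, 0), (5, 0), (5, 1), (2, 2), (3, 0), (2, 5), (4, 2), (4, 1), (2, 7), (2, 4), (3, 5), (2, 6), (2, 1), (3, 6), (2, 3), (3, 2), (3, 1), (3, 7), (3, 3), (4, 3), (3, 4), (0, 0)]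
  sts := [(23, [23], []),
    (0, [0], []),
    (1, List.range 24, []),
    (6, List.range 24, [[(2, 0), (2, 2), (2, 5), (2, 4), (2, 6), (2, 1), (3, 6), (3, 2)], [(2, 0), (2, 5), (2, 7), (2, 4), (3, 5), (2, 1), (2, 3), (3, 1)], [(2, 2), (3, 0), (2, 7), (2, 4), (3, 5), (2, 1), (3, 6), (3, 7)], [(3, 0), (2, 5), (2, 4), (3, 5), (2, 6), (3, 6), (2, 3), (3, 3)], [(2, 0), (2, 2), (3, 0), (2, 7), (2, 4), (2, 6), (2, 3), (3, 4)], [(1, 0), (2, 0), (3, 0), (2, 4), (2, 1), (3, 6), (2, 3), (0, 0)]]),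
    (2, List.range 24, [[(1, 0), (2, 2), (2, 5), (4, 2), (2, 7), (2, 4), (3, 5), (2, 6)], [(1, 0), (2, 0), (2, 2), (3, 0), (2, 5), (4, 1), (2, 7), (2, 1)], [(2, 0), (4, 0), (3, 0), (2, 5), (4, 2), (2, 7), (2, 4), (3, 6)], [(4, 0), (2, 2), (3, 0), (2, 5), (2, 7), (3, 5), (2, 3), (4, 3)]]),
    (3, List.range 24, [[(1, 0), (2, 0), (4, 0), (5, 0), (5, 1), (2, 5), (2, 7), (3, 5)], [(1, 0), (2, 0), (5, 1), (4, 2), (4, 1), (2, 7), (2, 4), (2, 3)]])]
  fib := []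
  n := 8

def r9 : Rec where
  p := 11
  c := 973927421301535459106453854890594400
  a := 979246597933553336670317313738853792
  b := 981752791284690327151456701781714272
  t := [967943061867697167667550076567734304, 984555825605089698432431076887901216, 984721978136738731986858641841030208, 983559493361839570066624664967418912]
  wd := [(1, 0), (2, 0), (2, 5), (2, 1), (2, 6), (2, 10), (2, 4), (3, 0), (3, 6), (3, 2), (3, 9), (2, 2), (3, 8), (3, 10), (2, 8), (3, 7), (2, 3), (3, 4), (3, 3), (3, 5), (2, 9), (3, 1), (2, 7), (0, 0)]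
  sts := [(23, [23], []),
    (0, [0], []),
    (1, List.range 24, [[(2, 0), (2, 5), (2, 1), (2, 6), (2, 10), (2, 4), (2, 2), (2, 8), (2, 3), (2, 9), (2, 7), (0, 0)]]),
    (7, List.range 24, [[(1, 0), (2, 0), (2, 5), (2, 1), (2, 6), (3, 0), (3, 9), (3, 8)], [(2, 0), (2, 5), (2, 1), (2, 6), (2, 10), (3, 6), (2, 2), (3, 10)], [(1, 0), (2, 0), (2, 10), (2, 4), (3, 0), (3, 2), (3, 9), (2, 8)], [(2, 0), (2, 5), (2, 4), (3, 0), (3, 6), (3, 9), (2, 2), (3, 7)], [(1, 0), (2, 0), (2, 6), (3, 6), (3, 2), (3, 9), (2, 2), (2, 3)], [(1, 0), (2, 1), (2, 6), (2, 10), (3, 0), (3, 2), (2, 2), (3, 4)], [(1, 0), (2, 5), (2, 1), (2, 10), (2, 4), (3, 0), (3, 6), (3, 3)], [(2, 0), (2, 1), (2, 6), (2, 4), (3, 0), (3, 6), (3, 2), (3, 5)], [(2, 5), (2, 6), (2, 10), (3, 0), (3, 6), (3, 2), (3, 9), (2, 9)], [(2, 1), (2, 10), (2, 4), (3, 6), (3, 2), (3, 9), (2, 2), (3, 1)], [(1, 0), (2, 0), (2, 5), (2, 1), (2, 4), (3,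 2), (2, 2), (2, 7)]])]
  fib := []
  n := 11

def r10 : Rec where
  p := 11
  c := 968530233104700586423409967985410496
  a := 975310780396649886609434996583421024
  b := 963877470596527958470716610518270624
  t := [970050117505640693923058692703490368, 979034672736082565694602575684522304, 969021416083764133459847312754444672, 984232233431490913630068531325373600]
  wd := [(1, 0), (2, 0), (2, 6), (3, 0), (3, 5), (2, 9), (3, 7), (2, 8), (3, 6), (3, 8), (2, 4), (3, 2), (2, 10), (2, 5), (2, 1), (3, 3), (2, 7), (2, 2), (3, 1), (3, 9), (3, 10), (3, 4), (2, 3), (0, 0)]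
  sts := [(23, [23], []),
    (0, [0], []),
    (1, List.range 24, [[(1, 0), (2, 0), (2, 6), (2, 9), (2, 8), (2, 4), (2, 10), (2, 5), (2, 1), (2, 7), (2, 2), (2, 3)]]),
    (3, List.range 24, [[(1, 0), (2, 0), (2, 6), (3, 0), (3, 5), (2, 8), (2, 4), (2, 10)], [(2, 0), (2, 6), (3, 0), (3, 5), (2, 9), (3, 6), (3, 2), (2, 5)], [(1, 0), (2, 0), (2, 9), (3, 7), (2, 8), (3, 8), (2, 4), (2, 1)], [(2, 0), (2, 6), (3, 7), (2, 8), (3, 6), (2, 4), (3, 2), (3, 3)], [(1, 0), (2, 0), (3, 5), (3, 6), (3, 8), (2, 4), (3, 2), (2, 7)], [(1, 0), (3, 0), (3, 5), (2, 9), (2, 8), (3, 8), (3, 2), (2, 2)], [(1, 0), (2, 6), (3, 0), (2, 9), (3, 7), (2, 8), (3, 6), (3, 1)], [(2, 0), (3, 0), (3, 5), (3, 7), (2, 8), (3, 6), (3, 8), (3, 9)], [(2, 6), (3, 5), (2, 9), (2, 8), (3, 6), (3, 8), (2, 4), (3, 10)], [(3, 0), (2, 9), (3, 7), (3, 6), (3, 8), (2, 4), (3, 2), (3, 4)], [(1, 0), (2, 6), (3, 5), (2, 9), (3, 7), (2, 4),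 (3, 2), (0, 0)]])]
  fib := []
  n := 11

def D : List Rec := [r0, r1, r2, r3, r4, r5, r6, r7, r8, r9, r10]

end Cfsg.Agent.H334.Ore.M22Data
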