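import Cfsg.Agent.H334.Ore.Mat

/-!
# Representatives of the classes of `M23` (data)
-/

set_option autoImplicit false
set_option Elab.async false

namespace Cfsg.Agent.H334.Ore.M23Data

open Cfsg.Agent.H334.Ore.Mat

def F : List ℕ := [23]

def f0_0 : Fib where
  b := 0
  e := []

def f0_1 : Fib where
  b := 1
  e := []

def f0_2 : Fib where
  b := 4
  e := []

def r0 : Rec where
  p := 2
  c := 980300456624277555258171200517441699
  a := 975393859852248717195392948855445088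
  b := 980599620966186387815863212268993577
  t := [980300456624277555258171200517441699, 984818244535754528103549039458486304, 984818244535754528103549039458486304, 984818244535754528103549039458486304]
  wd := [(3, 0), (2, 0), (15, 0), (3, 1), (1, 0), (2, 1), (4, 0), (11, 0), (5, 0), (10, 0), (13, 0), (9, 0), (10, 1), (11, 1), (12, 0), (14, 0), (1, 1), (6, 0), (8, 0), (7, 0), (5, 1), (4, 1), (7, 1), (0, 0)]
  sts := [(23, [23], []),
    (4, [4], []),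
    (1, [1], []),
    (0, [0], []),
    (6, List.range 24, [[(3, 0), (2, 0), (3, 1), (1, 0), (2, 1), (4, 0), (1, 1), (4, 1)]]),
    (8, List.range 24, []),
    (17, List.range 24, [[(3, 1), (1, 0), (2, 1), (4, 0), (5, 0), (6, 0), (5, 1), (0, 0)]]),
    (19, List.range 24, [[(2, 0), (1, 0), (2, 1), (5, 0), (1, 1), (7, 0), (5, 1), (7, 1)]]),
    (18, List.range 24, [[(3, 0), (3, 1), (2, 1), (1, 1), (6, 0), (8, 0), (7, 0), (5, 1)]]),
    (11, List.range 24, [[(3, 0), (2, 0), (2, 1), (4, 0), (5, 0), (9, 0), (6, 0), (7, 0)]]),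
    (9, List.range 24, [[(3, 0), (2, 1), (4, 0), (10, 0), (9, 0), (10, 1), (1, 1), (8, 0)]]),
    (7, List.range 24, [[(2, 0), (1, 0), (2, 1), (11, 0), (10, 0), (10, 1), (11, 1), (1, 1)], [(3, 0), (3, 1), (1, 0), (2, 1), (11, 0), (10, 0), (9, 0), (6, 0)]]),
    (14, List.range 24, [[(2, 0), (4, 0), (5, 0), (10, 0), (9, 0), (10, 1), (11, 1), (12, 0)]]),
    (10, List.range 24, [[(3, 0), (2, 1), (11, 0), (5, 0), (13, 0), (9, 0), (10, 1), (11, 1)]]),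
    (15, List.range 24, [[(3, 0), (3, 1), (1, 0), (4, 0), (5, 0), (9, 0), (10, 1), (14, 0)]]),
    (2, List.range 24, [[(3, 0), (2, 0), (15, 0), (3, 1), (1, 0), (11, 0), (13, 0), (10, 1)]])]
  fib := [f0_0, f0_1, f0_2]
  n := 2688

def f1_0 : Fib where
  b := 6
  e := [⟨0, [(3, 0), (5, 0), (6, 0), (6, 1), (7, 0), (4, 0), (1, 0), (6, 2), (8, 0), (5, 1), (9, 0), (3, 2), (1, 1), (3, 1), (8, 2), (10, 0), (11, 0), (8, 1), (9, 1), (2, 0), (9, 2), (5, 2), (1, 2), (0, 0)],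
    [(23, [23], []),
    (6, [0], []),
    (19, List.range 24, []),
    (0, List.range 24, [[(3, 0), (1, 0), (3, 2), (1, 1), (3, 1), (2, 0), (1, 2), (0, 0)]]),
    (5, List.range 24, []),
    (1, List.range 24, [[(5, 0), (4, 0), (1, 0), (5, 1), (1, 1), (2, 0), (5, 2), (1, 2)]]),
    (2, List.range 24, [[(6, 0), (4, 0), (1, 0), (6, 2), (5, 1), (3, 2), (3, 1), (2, 0)], [(3, 0), (6, 1), (1, 0), (6, 2), (5, 1), (1, 1), (3, 1), (5, 2)]]),
    (4, List.range 24, []),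
    (8, List.range 24, [[(5, 0), (6, 0), (6, 1), (7, 0), (4, 0), (8, 0), (3, 2), (3, 1)], [(6, 0), (6, 1), (7, 0), (4, 0), (1, 0), (5, 1), (1, 1), (8, 2)], [(3, 0), (6, 1), (7, 0), (4, 0), (6, 2), (5, 1), (3, 2), (8, 1)]]),
    (10, List.range 24, [[(3, 0), (5, 0), (6, 0), (6, 1), (7, 0), (6, 2), (9, 0), (1, 1)], [(3, 0), (6, 0), (6, 1), (4, 0), (1, 0), (6, 2), (8, 0), (9, 1)], [(6, 0), (7, 0), (4, 0), (6, 2), (8, 0), (5, 1), (9, 0), (9, 2)]]),
    (15, List.range 24, [[(5, 0), (6, 0), (1, 0), (6, 2), (8, 0), (9, 0), (3, 2), (10, 0)]]),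
    (16, List.range 24, [[(3, 0), (5, 0), (7, 0), (8, 0), (5, 1), (9, 0), (3, 2), (11, 0)]])]⟩,
    ⟨11, [(5, 0), (6, 0), (4, 0), (4, 1), (7, 0), (8, 0), (1, 0), (4, 2), (9, 0), (6, 1), (10, 0), (5, 2), (1, 1), (5, 1), (9, 2), (2, 0), (11, 0), (9, 1), (10, 1), (3, 0), (10, 2), (6, 2), (1, 2), (0, 0)],
    [(23, [23], []),
    (6, [11], []),
    (15, List.range 24, []),
    (19, List.range 24, []),
    (2, List.range 24, [[(4, 0), (4, 1), (1, 0), (4, 2), (1, 1), (2, 0), (3, 0), (1, 2)]]),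
    (0, List.range 24, [[(5, 0), (4, 0), (4, 1), (4, 2), (5, 2), (5, 1), (2, 0), (0, 0)]]),
    (1, List.range 24, [[(5, 0), (6, 0), (4, 2), (6, 1), (5, 2), (1, 1), (2, 0), (3, 0)], [(5, 0), (4, 1), (1, 0), (4, 2), (6, 1), (1, 1), (5, 1), (6, 2)]]),
    (4, List.range 24, []),
    (5, List.range 24, [[(5, 0), (6, 0), (4, 0), (8, 0), (1, 0), (1, 1), (5, 1), (2, 0)]]),
    (8, List.range 24, [[(6, 0), (4, 0), (4, 1), (7, 0), (8, 0), (9, 0), (5, 2), (5, 1)], [(4, 0), (4, 1), (7, 0), (8, 0), (1, 0), (6, 1), (1, 1), (9, 2)], [(5, 0), (4, 1), (7, 0), (8, 0), (4, 2), (6, 1), (5, 2), (9, 1)]]),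
    (10, List.range 24, [[(5, 0), (6, 0), (4, 0), (4, 1), (7, 0), (4, 2), (10, 0), (1, 1)], [(5, 0), (4, 0), (4, 1), (8, 0), (1, 0), (4, 2), (9, 0), (10, 1)], [(4, 0), (7, 0), (8, 0), (4, 2), (9, 0), (6, 1), (10, 0), (10, 2)]]),
    (16, List.range 24, [[(5, 0), (6, 0), (7, 0), (9, 0), (6, 1), (10, 0), (5, 2), (11, 0)]])]⟩,
    ⟨13, [(5, 0), (4, 0), (6, 0), (6, 1), (7, 0), (2, 0), (1, 0), (6, 2), (8, 0), (4, 1), (9, 0), (5, 2), (1, 1), (5, 1), (8, 2), (10, 0), (11, 0), (8, 1), (9, 1), (3, 0), (9, 2), (4, 2), (1, 2), (0, 0)],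
    [(23, [23], []),
    (6, [13], []),
    (5, List.range 24, []),
    (19, List.range 24, []),
    (1, List.range 24, [[(4, 0), (2, 0), (1, 0), (4, 1), (1, 1), (3, 0), (4, 2), (1, 2)]]),
    (0, List.range 24, [[(5, 0), (4, 0), (2, 0), (4, 1), (5, 2), (5, 1), (4, 2), (0, 0)]]),
    (2, List.range 24, [[(6, 0), (2, 0), (1, 0), (6, 2), (4, 1), (5, 2), (5, 1), (3, 0)], [(5, 0), (6, 1), (1, 0), (6, 2), (4, 1), (1, 1), (5, 1), (4, 2)]]),
    (4, List.range 24, []),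
    (8, List.range 24, [[(4, 0), (6, 0), (6, 1), (7, 0), (2, 0), (8, 0), (5, 2), (5, 1)], [(6, 0), (6, 1), (7, 0), (2, 0), (1, 0), (4, 1), (1, 1), (8, 2)], [(5, 0), (6, 1), (7, 0), (2, 0), (6, 2), (4, 1), (5, 2), (8, 1)]]),
    (10, List.range 24, [[(5, 0), (4, 0), (6, 0), (6, 1), (7, 0), (6, 2), (9, 0), (1, 1)], [(5, 0), (6, 0), (6, 1), (2, 0), (1, 0), (6, 2), (8, 0), (9, 1)], [(6, 0), (7, 0), (2, 0), (6, 2), (8, 0), (4, 1), (9, 0), (9, 2)]]),
    (15, List.range 24, [[(4, 0), (6, 0), (1, 0), (6, 2), (8, 0), (9, 0), (5, 2), (10, 0)]]),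
    (16, List.range 24, [[(5, 0), (4, 0), (7, 0), (8, 0), (4, 1), (9, 0), (5, 2), (11, 0)]])]⟩]

def f1_1 : Fib where
  b := 1
  e := [⟨0, [(4, 0), (2, 0), (5, 0), (5, 1), (6, 0), (7, 0), (1, 0), (5, 2), (8, 0), (2, 1), (9, 0), (4, 2), (1, 1), (4, 1), (8, 2), (10, 0), (11, 0), (8, 1), (9, 1), (3, 0), (9, 2), (2, 2), (1, 2), (0, 0)],
    [(23, [23], []),
    (6, [6], []),
    (1, [0], []),
    (19, List.range 24, []),
    (0, List.range 24, [[(4, 0), (1, 0), (4, 2), (1, 1), (4, 1), (3, 0), (1, 2), (0, 0)]]),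
    (2, List.range 24, [[(4, 0), (5, 1), (1, 0), (5, 2), (2, 1), (1, 1), (4, 1), (2, 2)], [(4, 0), (2, 0), (5, 0), (5, 1), (1, 0), (2, 1), (4, 2), (1, 2)]]),
    (4, List.range 24, []),
    (5, List.range 24, [[(5, 0), (7, 0), (1, 0), (5, 2), (2, 1), (4, 2), (4, 1), (3, 0)]]),
    (8, List.range 24, [[(2, 0), (5, 0), (5, 1), (6, 0), (7, 0), (8, 0), (4, 2), (4, 1)], [(5, 0), (5, 1), (6, 0), (7, 0), (1, 0), (2, 1), (1, 1), (8, 2)], [(4, 0), (5, 1), (6, 0), (7, 0), (5, 2), (2, 1), (4, 2), (8, 1)]]),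
    (10, List.range 24, [[(4, 0), (2, 0), (5, 0), (5, 1), (6, 0), (5, 2), (9, 0), (1, 1)], [(4, 0), (5, 0), (5, 1), (7, 0), (1, 0), (5, 2), (8, 0), (9, 1)], [(5, 0), (6, 0), (7, 0), (5, 2), (8, 0), (2, 1), (9, 0), (9, 2)]]),
    (15, List.range 24, [[(2, 0), (5, 0), (1, 0), (5, 2), (8, 0), (9, 0), (4, 2), (10, 0)]]),
    (16, List.range 24, [[(4, 0), (2, 0), (6, 0), (8, 0), (2, 1), (9, 0), (4, 2), (11, 0)]])]⟩,
    ⟨11, [(4, 0), (2, 0), (5, 0), (5, 1), (6, 0), (7, 0), (1, 0), (5, 2), (8, 0), (2, 1), (9, 0), (4, 2), (1, 1), (4, 1), (8, 2), (10, 0), (11, 0), (8, 1), (9, 1), (3, 0), (9, 2), (2, 2), (1, 2), (0, 0)],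
    [(23, [23], []),
    (6, [6], []),
    (1, [11], []),
    (19, List.range 24, []),
    (0, List.range 24, [[(4, 0), (1, 0), (4, 2), (1, 1), (4, 1), (3, 0), (1, 2), (0, 0)]]),
    (2, List.range 24, [[(4, 0), (5, 1), (1, 0), (5, 2), (2, 1), (1, 1), (4, 1), (2, 2)], [(4, 0), (2, 0), (5, 0), (5, 1), (1, 0), (2, 1), (4, 2), (1, 2)]]),
    (4, List.range 24, []),
    (5, List.range 24, [[(5, 0), (7, 0), (1, 0), (5, 2), (2, 1), (4, 2), (4, 1), (3, 0)]]),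
    (8, List.range 24, [[(2, 0), (5, 0), (5, 1), (6, 0), (7, 0), (8, 0), (4, 2), (4, 1)], [(5, 0), (5, 1), (6, 0), (7, 0), (1, 0), (2, 1), (1, 1), (8, 2)], [(4, 0), (5, 1), (6, 0), (7, 0), (5, 2), (2, 1), (4, 2), (8, 1)]]),
    (10, List.range 24, [[(4, 0), (2, 0), (5, 0), (5, 1), (6, 0), (5, 2), (9, 0), (1, 1)], [(4, 0), (5, 0), (5, 1), (7, 0), (1, 0), (5, 2), (8, 0), (9, 1)], [(5, 0), (6, 0), (7, 0), (5, 2), (8, 0), (2, 1), (9, 0), (9, 2)]]),
    (15, List.range 24, [[(2, 0), (5, 0), (1, 0), (5, 2), (8, 0), (9, 0), (4, 2), (10, 0)]]),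
    (16, List.range 24, [[(4, 0), (2, 0), (6, 0), (8, 0), (2, 1), (9, 0), (4, 2), (11, 0)]])]⟩,
    ⟨13, [(4, 0), (2, 0), (5, 0), (5, 1), (6, 0), (7, 0), (1, 0), (5, 2), (8, 0), (2, 1), (9, 0), (4, 2), (1, 1), (4, 1), (8, 2), (10, 0), (11, 0), (8, 1), (9, 1), (3, 0), (9, 2), (2, 2), (1, 2), (0, 0)],
    [(23, [23], []),
    (6, [6], []),
    (1, [13], []),
    (19, List.range 24, []),
    (0, List.range 24, [[(4, 0), (1, 0), (4, 2), (1, 1), (4, 1), (3, 0), (1, 2), (0, 0)]]),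
    (2, List.range 24, [[(4, 0), (5, 1), (1, 0), (5, 2), (2, 1), (1, 1), (4, 1), (2, 2)], [(4, 0), (2, 0), (5, 0), (5, 1), (1, 0), (2, 1), (4, 2), (1, 2)]]),
    (4, List.range 24, []),
    (5, List.range 24, [[(5, 0), (7, 0), (1, 0), (5, 2), (2, 1), (4, 2), (4, 1), (3, 0)]]),
    (8, List.range 24, [[(2, 0), (5, 0), (5, 1), (6, 0), (7, 0), (8, 0), (4, 2), (4, 1)], [(5, 0), (5, 1), (6, 0), (7, 0), (1, 0), (2, 1), (1, 1), (8, 2)], [(4, 0), (5, 1), (6, 0), (7, 0), (5, 2), (2, 1), (4, 2), (8, 1)]]),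
    (10, List.range 24, [[(4, 0), (2, 0), (5, 0), (5, 1), (6, 0), (5, 2), (9, 0), (1, 1)], [(4, 0), (5, 0), (5, 1), (7, 0), (1, 0), (5, 2), (8, 0), (9, 1)], [(5, 0), (6, 0), (7, 0), (5, 2), (8, 0), (2, 1), (9, 0), (9, 2)]]),
    (15, List.range 24, [[(2, 0), (5, 0), (1, 0), (5, 2), (8, 0), (9, 0), (4, 2), (10, 0)]]),
    (16, List.range 24, [[(4, 0), (2, 0), (6, 0), (8, 0), (2, 1), (9, 0), (4, 2), (11, 0)]])]⟩]

def r1 : Rec where
  p := 3
  c := 963225086571282922171847167606754605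
  a := 978099487047851927231643476464867909
  b := 980779190316750372479551764244671158
  t := [963481139728807783278611692890661995, 984085544616153778179666379140662349, 984818244535754528103549039458486304, 984818244535754528103549039458486304]
  wd := [(4, 0), (1, 0), (5, 0), (5, 1), (9, 0), (8, 0), (2, 0), (5, 2), (7, 0), (1, 1), (6, 0), (4, 2), (2, 1), (4, 1), (7, 2), (11, 0), (10, 0), (7, 1), (6, 1), (3, 0), (6, 2), (1, 2), (2, 2), (0, 0)]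
  sts := [(23, [23], []),
    (1, [1], []),
    (6, [6], []),
    (19, List.range 24, []),
    (0, List.range 24, [[(4, 0), (2, 0), (4, 2), (2, 1), (4, 1), (3, 0), (2, 2), (0, 0)]]),
    (2, List.range 24, [[(4, 0), (5, 1), (2, 0), (5, 2), (1, 1), (2, 1), (4, 1), (1, 2)], [(4, 0), (1, 0), (5, 0), (5, 1), (2, 0), (1, 1), (4, 2), (2, 2)]]),
    (10, List.range 24, [[(5, 0), (5, 1), (2, 0), (6, 0), (4, 2), (2, 1), (4, 1), (6, 1)], [(1, 0), (5, 1), (5, 2), (1, 1), (6, 0), (4, 2), (4, 1), (6, 2)]]),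
    (8, List.range 24, [[(1, 0), (2, 0), (7, 0), (1, 1), (4, 2), (2, 1), (4, 1), (7, 2)], [(4, 0), (1, 0), (5, 0), (5, 2), (7, 0), (1, 1), (4, 1), (7, 1)], [(4, 0), (5, 0), (2, 0), (7, 0), (1, 1), (6, 0), (2, 1), (3, 0)]]),
    (5, List.range 24, [[(4, 0), (8, 0), (5, 2), (7, 0), (6, 0), (4, 2), (2, 1), (4, 1)]]),
    (4, List.range 24, [[(4, 0), (1, 0), (5, 0), (5, 1), (9, 0), (5, 2), (6, 0), (2, 1)]]),
    (16, List.range 24, [[(4, 0), (1, 0), (9, 0), (7, 0), (1, 1), (6, 0), (4, 2), (10, 0)]]),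
    (15, List.range 24, [[(1, 0), (5, 0), (2, 0), (5, 2), (7, 0), (6, 0), (4, 2), (11, 0)]])]
  fib := [f1_0, f1_1]
  n := 180

def f2_0 : Fib where
  b := 0
  e := []

def r2 : Rec where
  p := 4
  c := 969690129507075176546547461736478156
  a := 963375491356705849993171907835564557
  b := 974216114877594775520782205484147349
  t := [957185469389529535991130241363982016, 964470986680713043474844892638841493, 984818244535754528103549039458486304, 984818244535754528103549039458486304]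
  wd := [(1, 0), (3, 0), (6, 0), (7, 0), (2, 0), (2, 1), (3, 2), (3, 3), (4, 0), (2, 3), (1, 2), (5, 0), (1, 1), (6, 1), (3, 1), (2, 2), (9, 0), (8, 0), (4, 1), (5, 1), (5, 2), (1, 3), (5, 3), (0, 0)]
  sts := [(23, [23], []),
    (0, [0], []),
    (4, List.range 24, [[(1, 0), (2, 0), (2, 1), (2, 3), (1, 2), (1, 1), (2, 2), (1, 3)]]),
    (1, List.range 24, [[(1, 0), (3, 0), (2, 1), (3, 2), (3, 3), (2, 3), (1, 2), (3, 1)]]),
    (8, List.range 24, [[(3, 0), (2, 0), (2, 1), (3, 2), (4, 0), (1, 2), (1, 1), (4, 1)], [(1, 0), (3, 0), (2, 0), (2, 1), (3, 3), (4, 0), (2, 2), (0, 0)]]),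
    (11, List.range 24, [[(1, 0), (3, 0), (3, 3), (2, 3), (5, 0), (1, 1), (2, 2), (5, 1)], [(3, 0), (2, 0), (2, 1), (3, 2), (2, 3), (5, 0), (2, 2), (5, 2)], [(2, 0), (3, 2), (3, 3), (2, 3), (1, 2), (5, 0), (1, 1), (5, 3)]]),
    (2, List.range 24, [[(1, 0), (2, 1), (3, 3), (4, 0), (1, 2), (5, 0), (1, 1), (6, 1)], [(3, 0), (6, 0), (3, 2), (3, 3), (4, 0), (1, 2), (5, 0), (2, 2)]]),
    (3, List.range 24, [[(1, 0), (3, 0), (6, 0), (7, 0), (2, 0), (3, 3), (1, 2), (1, 1)]]),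
    (17, List.range 24, [[(1, 0), (7, 0), (2, 0), (2, 1), (3, 3), (2, 3), (5, 0), (8, 0)]]),
    (16, List.range 24, [[(1, 0), (3, 0), (2, 0), (4, 0), (2, 3), (1, 2), (5, 0), (9, 0)]])]
  fib := [f2_0]
  n := 32

def f3_0 : Fib where
  b := 0
  e := [⟨5, [(1, 0), (3, 0), (4, 0), (4, 3), (5, 0), (6, 0), (6, 1), (1, 3), (5, 3), (7, 0), (1, 2), (1, 1), (6, 4), (5, 1), (4, 1), (4, 4), (4, 2), (1, 4), (5, 2), (6, 3), (5, 4), (6, 2), (2, 0), (0, 0)],
    [(23, [23], []),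
    (0, [5], []),
    (22, List.range 24, []),
    (1, List.range 24, [[(1, 0), (3, 0), (1, 3), (1, 2), (1, 1), (1, 4), (2, 0), (0, 0)]]),
    (2, List.range 24, []),
    (4, List.range 24, [[(4, 3), (5, 3), (1, 2), (1, 1), (5, 1), (4, 1), (4, 4), (4, 2)], [(4, 0), (4, 3), (5, 0), (1, 3), (5, 3), (4, 1), (4, 4), (1, 4)], [(1, 0), (4, 0), (5, 0), (5, 3), (1, 2), (5, 1), (4, 4), (5, 2)], [(1, 0), (5, 0), (1, 3), (1, 2), (1, 1), (4, 1), (4, 4), (5, 4)], [(3, 0), (5, 0), (1, 3), (5, 3), (1, 2), (5, 1), (4, 1), (2, 0)]]),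
    (5, List.range 24, [[(1, 0), (3, 0), (4, 0), (4, 3), (5, 0), (1, 3), (1, 2), (6, 4)], [(3, 0), (4, 0), (4, 3), (5, 0), (6, 0), (5, 3), (1, 1), (5, 1)], [(3, 0), (4, 0), (6, 1), (1, 3), (5, 3), (1, 2), (1, 1), (4, 4)], [(1, 0), (4, 3), (5, 0), (6, 0), (5, 3), (1, 2), (4, 1), (6, 3)], [(1, 0), (3, 0), (4, 3), (1, 3), (5, 3), (1, 1), (4, 1), (6, 2)]]),
    (9, List.range 24, [[(1, 0), (3, 0), (6, 0), (6, 1), (1, 3), (7, 0), (1, 2), (4, 1)]])]⟩,
    ⟨6, [(1, 0), (3, 0), (4, 0), (4, 3), (5, 0), (6, 0), (6, 1), (1, 3), (5, 3), (7, 0), (1, 2), (1, 1), (6, 4), (5, 1), (4, 1), (4, 4), (4, 2), (1, 4), (5, 2), (6, 3), (5, 4), (6, 2), (2, 0), (0, 0)],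
    [(23, [23], []),
    (0, [6], []),
    (22, List.range 24, []),
    (1, List.range 24, [[(1, 0), (3, 0), (1, 3), (1, 2), (1, 1), (1, 4), (2, 0), (0, 0)]]),
    (2, List.range 24, []),
    (4, List.range 24, [[(4, 3), (5, 3), (1, 2), (1, 1), (5, 1), (4, 1), (4, 4), (4, 2)], [(4, 0), (4, 3), (5, 0), (1, 3), (5, 3), (4, 1), (4, 4), (1, 4)], [(1, 0), (4, 0), (5, 0), (5, 3), (1, 2), (5, 1), (4, 4), (5, 2)], [(1, 0), (5, 0), (1, 3), (1, 2), (1, 1), (4, 1), (4, 4), (5, 4)], [(3, 0), (5, 0), (1, 3), (5, 3), (1, 2), (5, 1), (4, 1), (2, 0)]]),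
    (5, List.range 24, [[(1, 0), (3, 0), (4, 0), (4, 3), (5, 0), (1, 3), (1, 2), (6, 4)], [(3, 0), (4, 0), (4, 3), (5, 0), (6, 0), (5, 3), (1, 1), (5, 1)], [(3, 0), (4, 0), (6, 1), (1, 3), (5, 3), (1, 2), (1, 1), (4, 4)], [(1, 0), (4, 3), (5, 0), (6, 0), (5, 3), (1, 2), (4, 1), (6, 3)], [(1, 0), (3, 0), (4, 3), (1, 3), (5, 3), (1, 1), (4, 1), (6, 2)]]),
    (9, List.range 24, [[(1, 0), (3, 0), (6, 0), (6, 1), (1, 3), (7, 0), (1, 2), (4, 1)]])]⟩,
    ⟨12, [(1, 0), (2, 0), (4, 0), (4, 3), (5, 0), (6, 0), (6, 1), (1, 3), (5, 3), (7, 0), (1, 2), (1, 1), (6, 4), (5, 1), (4, 1), (4, 4), (4, 2), (1, 4), (5, 2), (6, 3), (5, 4), (6, 2), (3, 0), (0, 0)],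
    [(23, [23], []),
    (0, [12], []),
    (1, List.range 24, []),
    (22, List.range 24, [[(1, 0), (2, 0), (1, 3), (1, 2), (1, 1), (1, 4), (3, 0), (0, 0)]]),
    (2, List.range 24, []),
    (4, List.range 24, [[(4, 3), (5, 3), (1, 2), (1, 1), (5, 1), (4, 1), (4, 4), (4, 2)], [(4, 0), (4, 3), (5, 0), (1, 3), (5, 3), (4, 1), (4, 4), (1, 4)], [(1, 0), (4, 0), (5, 0), (5, 3), (1, 2), (5, 1), (4, 4), (5, 2)], [(1, 0), (5, 0), (1, 3), (1, 2), (1, 1), (4, 1), (4, 4), (5, 4)], [(2, 0), (5, 0), (1, 3), (5, 3), (1, 2), (5, 1), (4, 1), (3, 0)]]),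
    (5, List.range 24, [[(1, 0), (2, 0), (4, 0), (4, 3), (5, 0), (1, 3), (1, 2), (6, 4)], [(2, 0), (4, 0), (4, 3), (5, 0), (6, 0), (5, 3), (1, 1), (5, 1)], [(2, 0), (4, 0), (6, 1), (1, 3), (5, 3), (1, 2), (1, 1), (4, 4)], [(1, 0), (4, 3), (5, 0), (6, 0), (5, 3), (1, 2), (4, 1), (6, 3)], [(1, 0), (2, 0), (4, 3), (1, 3), (5, 3), (1, 1), (4, 1), (6, 2)]]),
    (9, List.range 24, [[(1, 0), (2, 0), (6, 0), (6, 1), (1, 3), (7, 0), (1, 2), (4, 1)]])]⟩,
    ⟨19, [(1, 0), (3, 0), (4, 0), (4, 3), (5, 0), (6, 0), (6, 1), (1, 3), (5, 3), (7, 0), (1, 2), (1, 1), (6, 4), (5, 1), (4, 1), (4, 4), (4, 2), (1, 4), (5, 2), (6, 3), (5, 4), (6, 2), (2, 0), (0, 0)],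
    [(23, [23], []),
    (0, [19], []),
    (22, List.range 24, []),
    (1, List.range 24, [[(1, 0), (3, 0), (1, 3), (1, 2), (1, 1), (1, 4), (2, 0), (0, 0)]]),
    (2, List.range 24, []),
    (4, List.range 24, [[(4, 3), (5, 3), (1, 2), (1, 1), (5, 1), (4, 1), (4, 4), (4, 2)], [(4, 0), (4, 3), (5, 0), (1, 3), (5, 3), (4, 1), (4, 4), (1, 4)], [(1, 0), (4, 0), (5, 0), (5, 3), (1, 2), (5, 1), (4, 4), (5, 2)], [(1, 0), (5, 0), (1, 3), (1, 2), (1, 1), (4, 1), (4, 4), (5, 4)], [(3, 0), (5, 0), (1, 3), (5, 3), (1, 2), (5, 1), (4, 1), (2, 0)]]),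
    (5, List.range 24, [[(1, 0), (3, 0), (4, 0), (4, 3), (5, 0), (1, 3), (1, 2), (6, 4)], [(3, 0), (4, 0), (4, 3), (5, 0), (6, 0), (5, 3), (1, 1), (5, 1)], [(3, 0), (4, 0), (6, 1), (1, 3), (5, 3), (1, 2), (1, 1), (4, 4)], [(1, 0), (4, 3), (5, 0), (6, 0), (5, 3), (1, 2), (4, 1), (6, 3)], [(1, 0), (3, 0), (4, 3), (1, 3), (5, 3), (1, 1), (4, 1), (6, 2)]]),
    (9, List.range 24, [[(1, 0), (3, 0), (6, 0), (6, 1), (1, 3), (7, 0), (1, 2), (4, 1)]])]⟩,
    ⟨21, [(1, 0), (2, 0), (4, 0), (4, 3), (5, 0), (6, 0), (6, 1), (1, 3), (5, 3), (7, 0), (1, 2), (1, 1), (6, 4), (5, 1), (4, 1), (4, 4), (4, 2), (1, 4), (5, 2), (6, 3), (5, 4), (6, 2), (3, 0), (0, 0)],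
    [(23, [23], []),
    (0, [21], []),
    (1, List.range 24, []),
    (22, List.range 24, [[(1, 0), (2, 0), (1, 3), (1, 2), (1, 1), (1, 4), (3, 0), (0, 0)]]),
    (2, List.range 24, []),
    (4, List.range 24, [[(4, 3), (5, 3), (1, 2), (1, 1), (5, 1), (4, 1), (4, 4), (4, 2)], [(4, 0), (4, 3), (5, 0), (1, 3), (5, 3), (4, 1), (4, 4), (1, 4)], [(1, 0), (4, 0), (5, 0), (5, 3), (1, 2), (5, 1), (4, 4), (5, 2)], [(1, 0), (5, 0), (1, 3), (1, 2), (1, 1), (4, 1), (4, 4), (5, 4)], [(2, 0), (5, 0), (1, 3), (5, 3), (1, 2), (5, 1), (4, 1), (3, 0)]]),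
    (5, List.range 24, [[(1, 0), (2, 0), (4, 0), (4, 3), (5, 0), (1, 3), (1, 2), (6, 4)], [(2, 0), (4, 0), (4, 3), (5, 0), (6, 0), (5, 3), (1, 1), (5, 1)], [(2, 0), (4, 0), (6, 1), (1, 3), (5, 3), (1, 2), (1, 1), (4, 4)], [(1, 0), (4, 3), (5, 0), (6, 0), (5, 3), (1, 2), (4, 1), (6, 3)], [(1, 0), (2, 0), (4, 3), (1, 3), (5, 3), (1, 1), (4, 1), (6, 2)]]),
    (9, List.range 24, [[(1, 0), (2, 0), (6, 0), (6, 1), (1, 3), (7, 0), (1, 2), (4, 1)]])]⟩]

def r3 : Rec where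
  p := 5
  c := 984716542135906806873716780210567211
  a := 980919881567654205651026570971813928
  b := 965159625532602682899747969435056175
  t := [984797447127341707146909419945068583, 984209211073446991271016122242513962, 984818244535754528103549039458486304, 984818244535754528103549039458486304]
  wd := [(1, 0), (7, 0), (5, 0), (5, 3), (4, 0), (3, 0), (3, 1), (1, 3), (4, 3), (2, 0), (1, 2), (1, 1), (3, 4), (4, 1), (5, 1), (5, 4), (5, 2), (1, 4), (4, 2), (3, 3), (4, 4), (3, 2), (6, 0), (0, 0)]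
  sts := [(23, [23], []),
    (0, [0], []),
    (9, List.range 24, []),
    (5, List.range 24, [[(1, 0), (3, 0), (3, 1), (1, 3), (2, 0), (1, 2), (1, 1), (3, 4), (1, 4), (3, 3), (3, 2), (0, 0)]]),
    (4, List.range 24, [[(1, 0), (3, 0), (1, 3), (4, 3), (1, 2), (1, 1), (3, 4), (4, 1)], [(1, 0), (4, 0), (1, 2), (1, 1), (3, 4), (1, 4), (4, 2), (3, 3)], [(3, 0), (3, 1), (1, 3), (1, 2), (1, 1), (1, 4), (4, 2), (4, 4)], [(1, 0), (4, 0), (3, 1), (1, 3), (4, 3), (1, 2), (1, 4), (3, 2)]]),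
    (2, List.range 24, [[(5, 0), (5, 3), (4, 0), (3, 0), (3, 1), (2, 0), (3, 4), (5, 1)], [(1, 0), (5, 3), (4, 0), (3, 1), (4, 3), (1, 1), (3, 4), (5, 4)], [(5, 0), (5, 3), (1, 3), (4, 3), (2, 0), (1, 1), (3, 4), (5, 2)], [(1, 0), (5, 3), (4, 0), (3, 0), (1, 3), (2, 0), (1, 1), (1, 4)], [(1, 0), (5, 0), (5, 3), (3, 0), (3, 1), (1, 3), (4, 3), (4, 2)]]),
    (22, List.range 24, [[(4, 0), (3, 1), (1, 3), (2, 0), (1, 2), (1, 1), (3, 4), (6, 0)]]),
    (1, List.range 24, [[(1, 0), (7, 0), (5, 0), (5, 3), (4, 0), (1, 3), (1, 2), (3, 4)]])]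
  fib := [f3_0]
  n := 15

def r4 : Rec where
  p := 6
  c := 974960402297316522504383265668385292
  a := 973970832820253802060136803982331990
  b := 962537523020131873921418417917181590
  t := [973662324848730782428376625876882528, 962750962403924591264949849251269137, 984818244535754528103549039458486304, 984818244535754528103549039458486304]
  wd := [(4, 0), (4, 2), (5, 0), (4, 4), (3, 0), (2, 0), (6, 0), (2, 4), (6, 2), (2, 5), (6, 1), (7, 0), (4, 1), (7, 1), (2, 1), (2, 3), (4, 3), (4, 5), (5, 1), (3, 1), (1, 0), (5, 2), (2, 2), (0, 0)]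
  sts := [(23, [23], []),
    (20, List.range 24, []),
    (5, List.range 24, []),
    (4, List.range 24, [[(3, 0), (2, 0), (2, 4), (2, 5), (2, 1), (2, 3), (3, 1), (2, 2)]]),
    (0, List.range 24, [[(4, 0), (4, 4), (2, 0), (2, 4), (4, 1), (2, 1), (2, 3), (4, 3)], [(4, 2), (4, 4), (3, 0), (2, 0), (4, 1), (2, 3), (4, 5), (3, 1)], [(4, 4), (3, 0), (2, 4), (2, 5), (4, 1), (2, 3), (1, 0), (0, 0)]]),
    (2, List.range 24, [[(4, 0), (5, 0), (4, 4), (2, 5), (4, 1), (2, 3), (4, 5), (5, 1)], [(4, 2), (5, 0), (4, 4), (3, 0), (2, 5), (4, 3), (4, 5), (1, 0)], [(4, 2), (5, 0), (4, 4), (2, 0), (2, 4), (2, 5), (2, 3), (5, 2)]]),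
    (6, List.range 24, [[(4, 0), (4, 2), (5, 0), (4, 4), (3, 0), (2, 4), (6, 1), (4, 1)], [(4, 0), (4, 2), (2, 0), (6, 0), (2, 4), (2, 5), (6, 1), (2, 1)], [(2, 0), (6, 0), (2, 4), (6, 2), (2, 5), (4, 1), (2, 3), (4, 5)]]),
    (11, List.range 24, [[(4, 2), (5, 0), (4, 4), (3, 0), (2, 0), (6, 2), (7, 0), (7, 1)], [(4, 2), (5, 0), (6, 0), (2, 4), (6, 2), (6, 1), (7, 0), (2, 3)]])]
  fib := []
  n := 12

def r5 : Rec where
  p := 7
  c := 971066846074928915393171660241182897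
  a := 973970668439674135802707796419498153
  b := 984250928590738513807596198569643337
  t := [971424921369417217605746344565671977, 971487533090564739144948512933348436, 961249609213343973663902359623937064, 971018587436970157927913466556948128]
  wd := [(5, 0), (5, 5), (4, 0), (3, 0), (5, 3), (5, 6), (3, 3), (2, 0), (4, 1), (3, 6), (5, 2), (3, 4), (4, 4), (5, 4), (3, 5), (3, 2), (4, 2), (5, 1), (3, 1), (4, 5), (1, 0), (4, 6), (4, 3), (0, 0)]
  sts := [(23, [23], []),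
    (20, List.range 24, []),
    (7, List.range 24, []),
    (3, List.range 24, [[(3, 0), (3, 3), (2, 0), (3, 6), (3, 4), (3, 5), (3, 2), (3, 1)]]),
    (2, List.range 24, [[(4, 0), (3, 0), (2, 0), (4, 1), (3, 6), (3, 4), (4, 4), (4, 2)], [(3, 0), (4, 1), (3, 6), (4, 4), (3, 5), (3, 2), (4, 5), (4, 6)], [(4, 0), (3, 0), (3, 3), (2, 0), (4, 4), (3, 2), (4, 5), (4, 3)], [(4, 0), (3, 0), (3, 3), (4, 1), (3, 4), (3, 5), (4, 5), (0, 0)]]),
    (0, List.range 24, [[(5, 0), (5, 5), (4, 0), (3, 0), (5, 3), (2, 0), (5, 2), (4, 4)], [(5, 5), (4, 0), (3, 0), (5, 3), (5, 6), (4, 1), (3, 4), (5, 4)], [(5, 0), (5, 5), (5, 6), (3, 3), (2, 0), (3, 6), (5, 2), (3, 5)], [(5, 5), (4, 0), (3, 3), (2, 0), (4, 1), (5, 2), (3, 4), (3, 2)], [(5, 0), (3, 0), (5, 3), (5, 6), (2, 0), (3, 6), (3, 4), (5, 1)], [(5, 5), (3, 0), (5, 3), (3, 3), (2, 0), (4, 1), (3, 6), (4, 5)], [(4, 0), (5, 3), (5, 6), (2, 0), (4, 1), (3,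 6), (5, 2), (1, 0)]])]
  fib := []
  n := 14

def r6 : Rec where
  p := 7
  c := 962061302581611087296964346981714028
  a := 971652957898203162755735000520966725
  b := 966236659192549448620931865590088852
  t := [984508778830219929456605401657510068, 976200716883111091929261562901151403, 972445495582756216308708262548605091, 961440133207342336295468481454000480]
  wd := [(3, 0), (4, 0), (1, 0), (4, 1), (5, 0), (5, 4), (5, 2), (4, 5), (3, 3), (3, 4), (5, 1), (4, 6), (3, 1), (3, 2), (5, 5), (3, 6), (3, 5), (4, 4), (4, 2), (4, 3), (2, 0), (5, 6), (5, 3), (0, 0)]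
  sts := [(23, [23], []),
    (2, List.range 24, []),
    (20, List.range 24, []),
    (0, List.range 24, [[(3, 0), (3, 3), (3, 4), (3, 1), (3, 2), (3, 6), (3, 5), (0, 0)]]),
    (1, List.range 24, [[(1, 0), (4, 1), (4, 5), (3, 3), (3, 4), (4, 6), (3, 1), (3, 5)], [(3, 0), (4, 0), (1, 0), (4, 5), (3, 3), (3, 4), (3, 2), (4, 4)], [(4, 0), (4, 1), (4, 5), (3, 3), (3, 1), (3, 2), (3, 6), (4, 2)], [(3, 0), (4, 0), (4, 5), (3, 4), (4, 6), (3, 1), (3, 6), (4, 3)]]),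
    (4, List.range 24, [[(3, 0), (4, 0), (1, 0), (4, 1), (5, 0), (4, 5), (5, 1), (3, 1)], [(4, 0), (1, 0), (4, 1), (5, 0), (5, 4), (3, 3), (4, 6), (3, 2)], [(3, 0), (4, 0), (5, 4), (5, 2), (4, 5), (3, 4), (5, 1), (5, 5)], [(4, 0), (1, 0), (5, 2), (4, 5), (3, 3), (5, 1), (4, 6), (3, 6)], [(1, 0), (5, 0), (5, 4), (4, 5), (3, 3), (3, 4), (5, 1), (2, 0)], [(4, 1), (5, 4), (5, 2), (3, 3), (3, 4), (5, 1), (4, 6), (5, 6)], [(3, 0), (4, 0), (1, 0), (4, 1), (5, 2), (3, 4), (4, 6), (5, 3)]])]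
  fib := []
  n := 14

def r7 : Rec where
  p := 8
  c := 979132756755844017910169606556066003
  a := 964836884573763795133280541652507168
  b := 979449216326116792932273254132156949
  t := [984815711694528072641956329919356096, 975731709539989358034651762477410864, 980290314853698657945701535472436628, 955810314954504996347858201593611350]
  wd := [(2, 0), (3, 0), (4, 0), (2, 3), (1, 0), (4, 2), (3, 1), (2, 5), (4, 1), (3, 3), (3, 5), (2, 4), (3, 4), (2, 6), (4, 3), (3, 7), (2, 7), (2, 2), (5, 0), (2, 1), (3, 6), (3, 2), (5, 1), (0, 0)]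
  sts := [(23, [23], []),
    (4, List.range 24, []),
    (0, List.range 24, []),
    (1, List.range 24, [[(3, 0), (2, 3), (3, 1), (3, 3), (3, 5), (3, 4), (3, 7), (2, 7)], [(2, 0), (3, 1), (3, 3), (3, 5), (2, 4), (2, 6), (3, 7), (2, 2)], [(2, 0), (3, 0), (2, 5), (3, 3), (2, 4), (3, 4), (3, 7), (2, 1)], [(3, 0), (2, 3), (2, 5), (3, 3), (3, 5), (2, 4), (2, 6), (3, 6)], [(2, 0), (2, 3), (3, 1), (2, 5), (3, 3), (3, 4), (2, 6), (3, 2)], [(3, 0), (1, 0), (3, 5), (2, 4), (3, 4), (2, 6), (3, 7), (0, 0)]]),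
    (2, List.range 24, [[(2, 0), (3, 0), (4, 0), (2, 3), (1, 0), (2, 5), (3, 5), (3, 4)], [(3, 0), (4, 0), (2, 3), (1, 0), (4, 2), (4, 1), (2, 4), (2, 6)], [(2, 0), (3, 0), (4, 2), (3, 1), (2, 5), (3, 3), (3, 5), (4, 3)], [(3, 0), (4, 0), (3, 1), (2, 5), (4, 1), (3, 5), (2, 4), (3, 7)]]),
    (18, List.range 24, [[(2, 0), (4, 0), (2, 3), (4, 2), (3, 1), (2, 5), (4, 1), (5, 0)], [(2, 0), (3, 0), (4, 0), (2, 3), (3, 1), (3, 3), (2, 4), (5, 1)]])]
  fib := []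
  n := 8

def r8 : Rec where
  p := 11
  c := 978069831078519570716573740216824083
  a := 964536331447640001117386276469252172
  b := 973742262679888473196957453410241713
  t := [984249892633079618254878707888334889, 971832930776928780156887938769618003, 958206481288439409554689914984060929, 980477927476935019646465791763126318]
  wd := [(2, 0), (2, 2), (2, 4), (3, 0), (2, 10), (3, 9), (1, 0), (2, 7), (2, 3), (2, 9), (3, 2), (3, 3), (2, 5), (3, 10), (3, 1), (3, 8), (2, 6), (3, 5), (3, 6), (2, 1), (2, 8), (3, 7), (3, 4), (0, 0)]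
  sts := [(23, [23], []),
    (6, List.range 24, []),
    (0, List.range 24, [[(2, 0), (2, 2), (2, 4), (2, 10), (2, 7), (2, 3), (2, 9), (2, 5), (2, 6), (2, 1), (2, 8), (0, 0)]]),
    (3, List.range 24, [[(2, 0), (2, 2), (2, 4), (3, 0), (2, 10), (2, 7), (3, 2), (2, 5)], [(2, 2), (2, 4), (3, 0), (2, 10), (3, 9), (2, 3), (3, 3), (3, 10)], [(2, 0), (2, 2), (3, 9), (1, 0), (2, 7), (2, 9), (3, 2), (3, 1)], [(2, 2), (2, 4), (1, 0), (2, 7), (2, 3), (3, 2), (3, 3), (3, 8)], [(2, 0), (2, 2), (2, 10), (2, 3), (2, 9), (3, 2), (3, 3), (2, 6)], [(2, 0), (3, 0), (2, 10), (3, 9), (2, 7), (2, 9), (3, 3), (3, 5)], [(2, 0), (2, 4), (3, 0), (3, 9), (1, 0), (2, 7), (2, 3), (3, 6)], [(2, 2), (3, 0), (2, 10), (1, 0), (2, 7), (2, 3), (2, 9), (2, 1)], [(2, 4), (2, 10), (3, 9), (2, 7), (2, 3), (2, 9), (3, 2), (2, 8)], [(3, 0), (3, 9), (1, 0), (2, 3), (2, 9), (3, 2), (3, 3), (3, 7)], [(2, 0), (2, 2), (2, 4), (3, 0),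 (1, 0), (2, 9), (3, 3), (3, 4)]])]
  fib := []
  n := 11

def r9 : Rec where
  p := 11
  c := 960716361430353610035354410332529868
  a := 964855044677671929351225558991739571
  b := 979611752012320167386922186535221360
  t := [972560815420533050926679905878345760, 984522843555260836636180530290035104, 962744642160703482910780532975537540, 956253005427630607777331571155339798]
  wd := [(3, 0), (3, 7), (2, 0), (2, 9), (3, 10), (1, 0), (3, 8), (2, 3), (2, 4), (2, 1), (2, 10), (2, 2), (3, 1), (3, 6), (2, 5), (2, 7), (3, 4), (3, 5), (3, 3), (3, 2), (2, 6), (2, 8), (3, 9), (0, 0)]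
  sts := [(23, [23], []),
    (5, List.range 24, []),
    (2, List.range 24, [[(2, 0), (2, 9), (2, 3), (2, 4), (2, 1), (2, 10), (2, 2), (2, 5), (2, 7), (2, 6), (2, 8), (0, 0)]]),
    (0, List.range 24, [[(3, 0), (3, 7), (2, 0), (2, 9), (3, 10), (2, 3), (2, 10), (3, 1)], [(3, 7), (2, 0), (2, 9), (3, 10), (1, 0), (2, 4), (2, 2), (3, 6)], [(3, 0), (3, 7), (1, 0), (3, 8), (2, 3), (2, 1), (2, 10), (2, 5)], [(3, 7), (2, 0), (3, 8), (2, 3), (2, 4), (2, 10), (2, 2), (2, 7)], [(3, 0), (3, 7), (3, 10), (2, 4), (2, 1), (2, 10), (2, 2), (3, 4)], [(3, 0), (2, 9), (3, 10), (1, 0), (2, 3), (2, 1), (2, 2), (3, 5)], [(3, 0), (2, 0), (2, 9), (1, 0), (3, 8), (2, 3), (2, 4), (3, 3)], [(3, 7), (2, 9), (3, 10), (3, 8), (2, 3), (2, 4), (2, 1), (3, 2)], [(2, 0), (3, 10), (1, 0), (2, 3), (2, 4), (2, 1), (2, 10), (2, 6)], [(2, 9), (1, 0), (3, 8), (2, 4), (2, 1), (2, 10), (2, 2), (2, 8)], [(3, 0), (3, 7), (2, 0), (2,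 9), (3, 8), (2, 1), (2, 2), (3, 9)]])]
  fib := []
  n := 11

def r10 : Rec where
  p := 14
  c := 976382975643422735591640723023248646
  a := 980475380797684364735611622801134663
  b := 968575591191396692160591848710582852
  t := [981656149524935688967641396208060553, 980072270846951803623400057851717141, 983560734830502988644348912559327275, 971836935019411570634327899960879151]
  wd := [(1, 0), (1, 4), (3, 0), (1, 3), (2, 0), (2, 2), (1, 1), (2, 6), (1, 5), (2, 10), (1, 6), (2, 13), (2, 9), (1, 2), (2, 8), (3, 1), (2, 5), (2, 11), (2, 7), (2, 12), (2, 3), (2, 1), (2, 4), (0, 0)]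
  sts := [(23, [23], []),
    (0, List.range 24, [[(1, 0), (1, 4), (1, 3), (1, 1), (1, 5), (1, 6), (1, 2), (0, 0)]]),
    (4, List.range 24, [[(1, 0), (2, 2), (2, 6), (1, 5), (1, 6), (2, 13), (2, 9), (1, 2)], [(1, 0), (1, 4), (2, 2), (1, 1), (2, 6), (2, 10), (1, 6), (2, 8)], [(1, 0), (1, 4), (2, 0), (1, 5), (2, 10), (1, 6), (2, 13), (2, 5)], [(1, 0), (1, 3), (2, 0), (2, 2), (2, 6), (2, 10), (2, 13), (2, 11)], [(1, 4), (2, 0), (2, 2), (1, 1), (1, 5), (1, 6), (2, 9), (2, 7)], [(1, 4), (1, 3), (2, 0), (1, 1), (2, 6), (1, 5), (2, 10), (2, 12)], [(1, 0), (1, 4), (1, 3), (2, 2), (1, 5), (2, 10), (2, 9), (2, 3)], [(1, 3), (2, 2), (1, 1), (1, 5), (2, 10), (1, 6), (2, 13), (2, 1)], [(2, 0), (1, 1), (2, 6), (2, 10), (1, 6), (2, 13), (2, 9), (2, 4)]]),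
    (2, List.range 24, [[(1, 0), (1, 4), (3, 0), (1, 3), (2, 0), (2, 6), (1, 6), (2, 9)], [(1, 4), (3, 0), (1, 1), (2, 6), (1, 5), (1, 6), (2, 13), (3, 1)]])]
  fib := []
  n := 14

def r11 : Rec where
  p := 14
  c := 979374823669607264849363846196199668
  a := 965010604156786869895520769293340360
  b := 965365709161793944927550355937932362
  t := [960154302143379000665722555663588384, 966645081585541171571917265068853290, 974433650780877274415595883659963648, 972745140205618576797795644940066164]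
  wd := [(2, 0), (2, 9), (2, 13), (3, 0), (1, 0), (2, 4), (1, 2), (2, 10), (2, 3), (2, 5), (1, 5), (3, 1), (2, 6), (1, 6), (2, 2), (2, 8), (2, 12), (1, 1), (1, 4), (2, 11), (2, 1), (2, 7), (1, 3), (0, 0)]
  sts := [(23, [23], []),
    (4, List.range 24, [[(1, 0), (1, 2), (1, 5), (1, 6), (1, 1), (1, 4), (1, 3), (0, 0)]]),
    (0, List.range 24, [[(2, 0), (2, 9), (2, 4), (1, 2), (2, 10), (2, 5), (1, 5), (2, 2)], [(2, 0), (2, 9), (2, 13), (2, 4), (1, 2), (2, 6), (1, 6), (2, 8)], [(2, 9), (1, 0), (2, 4), (2, 10), (2, 5), (2, 6), (1, 6), (2, 12)], [(2, 0), (2, 9), (2, 13), (2, 10), (2, 3), (2, 5), (1, 6), (1, 1)], [(2, 9), (1, 0), (2, 4), (1, 2), (2, 3), (1, 5), (2, 6), (1, 4)], [(2, 0), (2, 13), (1, 2), (2, 3), (2, 5), (1, 5), (2, 6), (2, 11)], [(2, 13), (1, 0), (2, 4), (2, 10), (2, 3), (2, 5), (1, 5), (2, 1)], [(2, 9), (2, 13), (1, 0), (1, 2), (2, 5), (1, 5), (1, 6), (2, 7)], [(2, 0), (1, 0),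 (2, 4), (1, 2), (2, 3), (2, 5), (1, 6), (1, 3)]]),
    (3, List.range 24, [[(2, 0), (2, 9), (2, 13), (3, 0), (1, 0), (2, 10), (1, 5), (2, 6)], [(2, 9), (2, 13), (3, 0), (1, 0), (2, 4), (2, 3), (3, 1), (1, 6)]])]
  fib := []
  n := 14

def r12 : Rec where
  p := 15
  c := 979155369683378504585279639241629221
  a := 981552052220712572300830346463091075
  b := 976572790744148727845475979375196399
  t := [962750373820247208505083556844120096, 984387225999345220897398059297966484, 984199377264667814583612167751711082, 955976638890128102836332977245981238]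
  wd := [(1, 0), (2, 0), (3, 0), (1, 4), (1, 7), (1, 1), (1, 6), (3, 1), (1, 5), (1, 12), (2, 3), (1, 2), (1, 14), (1, 3), (3, 2), (1, 11), (1, 10), (2, 1), (1, 9), (1, 13), (2, 4), (2, 2), (1, 8), (0, 0)]
  sts := [(23, [23], []),
    (0, List.range 24, [[(1, 0), (1, 4), (1, 7), (1, 6), (1, 5), (1, 2), (1, 14), (1, 11)], [(1, 0), (1, 1), (1, 6), (1, 12), (1, 2), (1, 14), (1, 10), (1, 9)], [(1, 4), (1, 1), (1, 6), (1, 5), (1, 14), (1, 3), (1, 10), (1, 13)], [(1, 0), (1, 7), (1, 1), (1, 6), (1, 5), (1, 12), (1, 3), (1, 8)], [(1, 4), (1, 7), (1, 6), (1, 12), (1, 2), (1, 3), (1, 10), (0, 0)]]),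
    (1, List.range 24, [[(1, 0), (2, 0), (1, 7), (1, 5), (1, 12), (2, 3), (1, 2), (1, 10)], [(1, 4), (1, 7), (1, 5), (1, 12), (2, 3), (1, 14), (1, 3), (2, 1)], [(1, 0), (2, 0), (1, 4), (1, 1), (1, 5), (1, 12), (1, 14), (2, 4)], [(1, 4), (1, 1), (1, 6), (1, 5), (1, 12), (2, 3), (1, 2), (2, 2)]]),
    (2, List.range 24, [[(1, 0), (2, 0), (3, 0), (1, 4), (1, 7), (3, 1), (2, 3), (1, 14)], [(2, 0), (3, 0), (1, 4), (1, 7), (1, 1), (1, 5), (1, 2), (1, 3)], [(1, 0), (2, 0), (1, 1), (1, 6), (3, 1), (1, 12), (2, 3), (3, 2)]])]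
  fib := []
  n := 15

def r13 : Rec where
  p := 15
  c := 972833497517399943230256495216677110
  a := 983224352174094705052765941749780995
  b := 980520927723036320956969911535614512
  t := [956257484768810106320453041697202230, 976535332656625866811670459970588704, 981859368533660186592923651902057024, 984475305396832770772846284196105376]
  wd := [(1, 0), (3, 0), (2, 0), (1, 5), (1, 11), (1, 12), (2, 2), (3, 1), (1, 4), (2, 3), (1, 7), (1, 3), (2, 4), (1, 2), (1, 9), (1, 13), (1, 10), (1, 14), (3, 2), (1, 6), (2, 1), (1, 8), (1, 1), (0, 0)]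
  sts := [(23, [23], []),
    (0, List.range 24, [[(1, 5), (1, 4), (1, 7), (1, 3), (1, 2), (1, 9), (1, 13), (1, 10)], [(1, 0), (1, 5), (1, 11), (1, 12), (1, 4), (1, 7), (1, 9), (1, 6)], [(1, 0), (1, 5), (1, 12), (1, 4), (1, 2), (1, 13), (1, 14), (1, 8)], [(1, 11), (1, 12), (1, 4), (1, 7), (1, 3), (1, 13), (1, 14), (1, 1)], [(1, 0), (1, 11), (1, 4), (1, 3), (1, 2), (1, 9), (1, 14), (0, 0)]]),
    (2, List.range 24, [[(2, 0), (1, 5), (1, 11), (1, 12), (2, 2), (2, 3), (2, 4), (1, 9)], [(1, 0), (1, 5), (1, 11), (2, 2), (1, 4), (1, 3), (2, 4), (1, 13)], [(1, 5), (1, 11), (1, 4), (2, 3), (1, 7), (2, 4), (1, 2), (1, 14)], [(1, 0), (2, 0), (1, 11), (2, 3), (1, 3), (2, 4), (1, 2), (2, 1)]]),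
    (1, List.range 24, [[(1, 0), (3, 0), (2, 0), (1, 5), (1, 11), (3, 1), (1, 7), (2, 4)], [(3, 0), (2, 0), (1, 5), (1, 11), (1, 12), (1, 4), (1, 3), (1, 2)], [(1, 0), (2, 0), (1, 5), (1, 12), (2, 2), (3, 1), (1, 4), (3, 2)]])]
  fib := []
  n := 15

def r14 : Rec where
  p := 23
  c := 982252470930009687161553335856700853
  a := 967721164600104800859927159989766689
  b := 970559750778491844696135644104438178
  t := [980252272282723697483369785688870944, 973581295667178295443786016277202997, 958854227292035268240443596167403881, 984230048376954736502601549567334432]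
  wd := [(1, 0), (1, 19), (1, 21), (1, 18), (1, 14), (1, 17), (1, 10), (1, 22), (1, 11), (1, 16), (1, 5), (1, 9), (1, 4), (1, 20), (1, 12), (1, 6), (1, 15), (1, 13), (1, 8), (1, 7), (1, 3), (1, 1), (1, 2), (0, 0)]
  sts := [(23, [23], []),
    (0, List.range 24, [[(1, 0), (1, 19), (1, 21), (1, 18), (1, 14), (1, 22), (1, 5), (1, 4)], [(1, 19), (1, 21), (1, 18), (1, 14), (1, 17), (1, 11), (1, 9), (1, 20)], [(1, 0), (1, 19), (1, 17), (1, 10), (1, 22), (1, 16), (1, 5), (1, 12)], [(1, 19), (1, 21), (1, 10), (1, 22), (1, 11), (1, 5), (1, 9), (1, 6)], [(1, 0), (1, 19), (1, 14), (1, 11), (1, 16), (1, 5), (1, 9), (1, 15)], [(1, 0), (1, 18), (1, 14), (1, 17), (1, 22), (1, 16), (1, 9), (1, 13)], [(1, 0), (1, 21), (1, 18), (1, 17), (1, 10), (1, 22), (1, 11), (1, 8)], [(1, 19), (1, 18), (1, 14), (1, 10), (1, 22), (1, 11), (1, 16), (1, 7)], [(1, 21), (1, 14), (1, 17), (1, 22), (1, 11), (1, 16), (1, 5),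 (1, 3)], [(1, 18), (1, 17), (1, 10), (1, 11), (1, 16), (1, 5), (1, 9), (1, 1)], [(1, 0), (1, 19), (1, 21), (1, 18), (1, 10), (1, 16), (1, 9), (1, 2)], [(1, 0), (1, 21), (1, 14), (1, 17), (1, 10), (1, 5), (1, 9), (0, 0)]])]
  fib := []
  n := 23

def r15 : Rec where
  p := 23
  c := 967486415537473815578637697434492545
  a := 972305891742263716173106675494604811
  b := 957536857536765368074673756872024069
  t := [980300456624277555258171200517441699, 980900055165957088153449875315458690, 984809013255114100245193773546972204, 979522084488580843589042916674359664]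
  wd := [(1, 0), (1, 1), (1, 4), (1, 21), (1, 6), (1, 18), (1, 8), (1, 5), (1, 20), (1, 13), (1, 16), (1, 19), (1, 3), (1, 17), (1, 14), (1, 22), (1, 9), (1, 10), (1, 11), (1, 7), (1, 2), (1, 15), (1, 12), (0, 0)]
  sts := [(23, [23], []),
    (0, List.range 24, [[(1, 0), (1, 1), (1, 4), (1, 21), (1, 6), (1, 5), (1, 16), (1, 3)], [(1, 1), (1, 4), (1, 21), (1, 6), (1, 18), (1, 20), (1, 19), (1, 17)], [(1, 0), (1, 1), (1, 18), (1, 8), (1, 5), (1, 13), (1, 16), (1, 14)], [(1, 1), (1, 4), (1, 8), (1, 5), (1, 20), (1, 16), (1, 19), (1, 22)], [(1, 0), (1, 1), (1, 6), (1, 20), (1, 13), (1, 16), (1, 19), (1, 9)], [(1, 0), (1, 21), (1, 6), (1, 18), (1, 5), (1, 13), (1, 19), (1, 10)], [(1, 0), (1, 4), (1, 21), (1, 18), (1, 8), (1, 5), (1, 20), (1, 11)], [(1, 1), (1, 21), (1, 6), (1, 8), (1, 5), (1, 20), (1, 13), (1, 7)], [(1, 4), (1, 6), (1, 18), (1, 5), (1, 20), (1, 13), (1, 16), (1, 2)], [(1, 21),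 (1, 18), (1, 8), (1, 20), (1, 13), (1, 16), (1, 19), (1, 15)], [(1, 0), (1, 1), (1, 4), (1, 21), (1, 8), (1, 13), (1, 19), (1, 12)], [(1, 0), (1, 4), (1, 6), (1, 18), (1, 8), (1, 16), (1, 19), (0, 0)]])]
  fib := []
  n := 23

def D : List Rec := [r0, r1, r2, r3, r4, r5, r6, r7, r8, r9, r10, r11, r12, r13, r14, r15]

end Cfsg.Agent.H334.Ore.M23Data
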