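import Cfsg.Agent.H334.Ore.M23Chk
import Cfsg.Agent.S0376
import Cfsg.Prelude.Def_Spor_Mathieu

/-!
# The rows `M23`: every element is a commutator, and a product of four involutions
-/

set_option autoImplicit false

namespace Cfsg.Agent.H334.Ore

open Cfsg Cfsg.Agent.H334.Ore.Mat Cfsg.Agent.H729.Trans
open Cfsg.Agent.SporadicStructure.M24El Cfsg.Agent.SporadicA.GolayPerm Cfsg.Agent.SporadicA.GolayBase

namespace M23

open Cfsg.Agent.H334.Ore.M23Data

/-- The inclusion of `M23` in `M24`. -/
def inc23 : Spor.M23 →* M24 where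
  toFun g := ⟨(g : Equiv.Perm GolayPt), g.2.1⟩
  map_one' := rfl
  map_mul' _ _ := rfl

theorem inc23_injective : Function.Injective inc23 := by
  intro a b h
  exact Subtype.ext (congrArg (fun g : M24 => (g : Equiv.Perm GolayPt)) h)

theorem im_none23 (g : Spor.M23) : im (inc23 g) 23 = 23 := by
  have h : (g : Equiv.Perm GolayPt) none = none := g.2.2
  show idx ((g : Equiv.Perm GolayPt) (pt 23)) = 23
  have e : pt 23 = none := by decide
  rw [e, h]
  rfl

/-- `M23` is a point stabiliser in `M24`. -/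
def mulEquiv23 : Spor.M23 ≃* ↥(MulAction.stabilizer M24 (none : GolayPt)) where
  toFun g := ⟨inc23 g, g.2.2⟩
  invFun g := ⟨(g.1 : Equiv.Perm GolayPt), ⟨g.1.2, g.2⟩⟩
  left_inv _ := rfl
  right_inv _ := rfl
  map_mul' _ _ := rfl

theorem card_M23 : Nat.card Spor.M23 = 10200960 := by
  rw [Nat.card_congr mulEquiv23.toEquiv]
  exact Cfsg.Agent.S0376.result none

theorem hF (g : Spor.M23) : ∀ b ∈ F, im (inc23 g) b = b := by
  intro b hb
  simp only [F, List.mem_cons, List.not_mem_nil, or_false] at hb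
  rw [hb]
  exact im_none23 g

theorem hmem (c : ℕ) (hc : ok c = true) (h : ∀ b ∈ F, papp c b = b) : ∃ x : Spor.M23, inc23 x = el c := by
  have h1 : papp c 23 = 23 := h 23 (by simp [F])
  have h3 : (el c : Equiv.Perm GolayPt) none = none := by
    have h := el_smul_pt hc (none : GolayPt)
    have e : idx none = 23 := rfl
    rw [e, h1] at h
    exact h
  exact ⟨⟨(el c : Equiv.Perm GolayPt), ⟨(el c).2, h3⟩⟩, rfl⟩

theorem hA' : ∀ r ∈ D, chkA F r = true := fun r hr => List.all_eq_true.1 hA r hr

theorem cov (g : Spor.M23) : g = 1 ∨ ∃ r ∈ D, ∃ x : Spor.M23, inc23 x = el r.c ∧ IsConj x g := by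
  refine cover_of_data inc23_injective hF hmem D hC hA' hP ?_ g
  rw [card_M23]
  have h : ∑ i : Fin D.length, 10200960 / (D.get i).n = (D.map fun r => 10200960 / r.n).sum := by
    rw [← List.sum_ofFn]
    rfl
  rw [h, hsum]

end M23

/-- **Every element of `M23` is a commutator.** -/
theorem ore_m23 {S : Type*} [Group S] (h : Spor.IsoM23 S) : Cfsg.Agent.H777.Ore.AllC S := by
  obtain ⟨e⟩ := h
  exact Cfsg.Agent.H777.Ore.AllC.congr e.symm
    (allC_of_data M23.inc23_injective M23.hmem M23Data.D M23.hA' M23.cov)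

/-- **Every element of `M23` is a product of four elements with square one.** -/
theorem four_m23 {S : Type*} [Group S] (h : Spor.IsoM23 S) : Cfsg.Agent.H777.Ore.Inv4 S := by
  obtain ⟨e⟩ := h
  exact inv4_congr e.symm (inv4_of_data M23.inc23_injective M23.hmem M23Data.D M23.hA' M23.cov)

end Cfsg.Agent.H334.Ore
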