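import Cfsg.Agent.H334.Ore.M24Chk
import Cfsg.Agent.S0364
import Cfsg.Prelude.Def_Spor_Mathieu

/-!
# The rows `M24`: every element is a commutator, and a product of four involutions
-/

set_option autoImplicit false

namespace Cfsg.Agent.H334.Ore

open Cfsg Cfsg.Agent.H334.Ore.Mat Cfsg.Agent.H729.Trans
open Cfsg.Agent.SporadicStructure.M24El Cfsg.Agent.SporadicA.GolayPerm Cfsg.Agent.SporadicA.GolayBase

namespace M24R

open Cfsg.Agent.H334.Ore.M24Data

theorem id_injective : Function.Injective (MonoidHom.id M24) := fun _ _ h => h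

theorem hF (g : M24) : ∀ b ∈ F, im (MonoidHom.id M24 g) b = b := by
  intro b hb
  simp only [F, List.not_mem_nil] at hb

theorem hmem (c : ℕ) (_ : ok c = true) (_ : ∀ b ∈ F, papp c b = b) : ∃ x : M24, MonoidHom.id M24 x = el c :=
  ⟨el c, rfl⟩

theorem hA' : ∀ r ∈ D, chkA F r = true := fun r hr => List.all_eq_true.1 hA r hr

theorem cov (g : M24) : g = 1 ∨ ∃ r ∈ D, ∃ x : M24, MonoidHom.id M24 x = el r.c ∧ IsConj x g := by
  refine cover_of_data id_injective hF hmem D hC hA' hP ?_ g
  rw [Cfsg.Agent.S0364.result]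
  have h : ∑ i : Fin D.length, 244823040 / (D.get i).n = (D.map fun r => 244823040 / r.n).sum := by
    rw [← List.sum_ofFn]
    rfl
  rw [h, hsum]

end M24R

/-- **Every element of `M24` is a commutator.** -/
theorem ore_m24 {S : Type*} [Group S] (h : Spor.IsoM24 S) : Cfsg.Agent.H777.Ore.AllC S := by
  obtain ⟨e⟩ := h
  exact Cfsg.Agent.H777.Ore.AllC.congr e.symm (allC_of_data M24R.id_injective M24R.hmem M24Data.D M24R.hA' M24R.cov)

/-- **Every element of `M24` is a product of four elements with square one.** -/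
theorem four_m24 {S : Type*} [Group S] (h : Spor.IsoM24 S) : Cfsg.Agent.H777.Ore.Inv4 S := by
  obtain ⟨e⟩ := h
  exact inv4_congr e.symm (inv4_of_data M24R.id_injective M24R.hmem M24Data.D M24R.hA' M24R.cov)

end Cfsg.Agent.H334.Ore
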