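import Cfsg.Agent.H334.Ore.M22
import Cfsg.Agent.H334.Ore.M23
import Cfsg.Agent.H334.Ore.M24
import Cfsg.Agent.H334.Ore.M22Pw
import Cfsg.Agent.H334.Ore.M23Pw
import Cfsg.Agent.H334.Ore.M24Pw

/-!
# The rows `M22`, `M23`, `M24` of S2465
-/

set_option autoImplicit false

namespace Cfsg.Agent.H334.Ore

open Cfsg Cfsg.Agent.H334.Ore.Mat Cfsg.Agent.H334.Ore.PwB Cfsg.Agent.H78.Pw

universe u

theorem mem_of_dvd {n : ℕ} {p : ℕ} (hp : p.Prime) (h5 : 5 ≤ p) {a b c d e : ℕ} (hd : p ∣ 2 ^ a * 3 ^ b * (5 ^ c * (7 * (11 * 23 ^ d))) ^ e)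
    (_ : n = n) : p = 5 ∨ p = 7 ∨ p = 11 ∨ p = 23 := by
  have h23 : ∀ q k : ℕ, q.Prime → p ∣ q ^ k → p = q := fun q k hq h =>
    (Nat.prime_dvd_prime_iff_eq hp hq).1 (hp.dvd_of_dvd_pow h)
  rcases (hp.dvd_mul).1 hd with h | h
  · exfalso
    rcases (hp.dvd_mul).1 h with h | h
    · have := h23 2 a (by norm_num) h; omega
    · have := h23 3 b (by norm_num) h; omega
  · have h := hp.dvd_of_dvd_pow h
    rcases (hp.dvd_mul).1 h with h | h
    · exact Or.inl (h23 5 c (by norm_num) h)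
    · rcases (hp.dvd_mul).1 h with h | h
      · exact Or.inr (Or.inl (h23 7 1 (by norm_num) (by rwa [pow_one])))
      · rcases (hp.dvd_mul).1 h with h | h
        · exact Or.inr (Or.inr (Or.inl (h23 11 1 (by norm_num) (by rwa [pow_one]))))
        · exact Or.inr (Or.inr (Or.inr (h23 23 d (by norm_num) h)))

/-- **The row `M22`.** -/
theorem pw_m22 {S : Type u} [Group S] (h : Spor.IsoM22 S) : Pw S := by
  obtain ⟨e⟩ := h
  refine Pw.congr e.symm (Pw.of ?_ ?_)
  · exact all_of_data Cfsg.Agent.H729.M22Deg.inc_injective M22.hmem M22Data.D 6 M22Pw.hW6 M22.cov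
  · intro p hp h5 hd
    rw [Cfsg.Agent.H729.M22Deg.card_M22] at hd
    rcases mem_of_dvd (n := 0) hp h5 (a := 7) (b := 2) (c := 1) (d := 0) (e := 1) (by norm_num; exact hd) rfl with
      rfl | rfl | rfl | rfl
    · exact all_of_data Cfsg.Agent.H729.M22Deg.inc_injective M22.hmem M22Data.D 5 M22Pw.hW5 M22.cov
    · exact all_of_data Cfsg.Agent.H729.M22Deg.inc_injective M22.hmem M22Data.D 7 M22Pw.hW7 M22.cov
    · exact all_of_data Cfsg.Agent.H729.M22Deg.inc_injective M22.hmem M22Data.D 11 M22Pw.hW11 M22.cov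
    · norm_num at hd

/-- **The row `M23`.** -/
theorem pw_m23 {S : Type u} [Group S] (h : Spor.IsoM23 S) : Pw S := by
  obtain ⟨e⟩ := h
  refine Pw.congr e.symm (Pw.of ?_ ?_)
  · exact all_of_data M23.inc23_injective M23.hmem M23Data.D 6 M23Pw.hW6 M23.cov
  · intro p hp h5 hd
    rw [M23.card_M23] at hd
    rcases mem_of_dvd (n := 0) hp h5 (a := 7) (b := 2) (c := 1) (d := 1) (e := 1) (by norm_num; exact hd) rfl with
      rfl | rfl | rfl | rfl
    · exact all_of_data M23.inc23_injective M23.hmem M23Data.D 5 M23Pw.hW5 M23.cov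
    · exact all_of_data M23.inc23_injective M23.hmem M23Data.D 7 M23Pw.hW7 M23.cov
    · exact all_of_data M23.inc23_injective M23.hmem M23Data.D 11 M23Pw.hW11 M23.cov
    · exact all_of_data M23.inc23_injective M23.hmem M23Data.D 23 M23Pw.hW23 M23.cov

/-- **The row `M24`.** -/
theorem pw_m24 {S : Type u} [Group S] (h : Spor.IsoM24 S) : Pw S := by
  obtain ⟨e⟩ := h
  refine Pw.congr e.symm (Pw.of ?_ ?_)
  · exact all_of_data M24R.id_injective M24R.hmem M24Data.D 6 M24Pw.hW6 M24R.cov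
  · intro p hp h5 hd
    rw [Cfsg.Agent.S0364.result] at hd
    rcases mem_of_dvd (n := 0) hp h5 (a := 10) (b := 3) (c := 1) (d := 1) (e := 1) (by norm_num; exact hd) rfl with
      rfl | rfl | rfl | rfl
    · exact all_of_data M24R.id_injective M24R.hmem M24Data.D 5 M24Pw.hW5 M24R.cov
    · exact all_of_data M24R.id_injective M24R.hmem M24Data.D 7 M24Pw.hW7 M24R.cov
    · exact all_of_data M24R.id_injective M24R.hmem M24Data.D 11 M24Pw.hW11 M24R.cov
    · exact all_of_data M24R.id_injective M24R.hmem M24Data.D 23 M24Pw.hW23 M24R.cov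

end Cfsg.Agent.H334.Ore
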