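import Cfsg.Agent.H334.Ore.M22Chk
import Cfsg.Agent.H729.M22Deg

/-!
# The rows `M22`: every element is a commutator, and a product of four involutions
-/

set_option autoImplicit false

namespace Cfsg.Agent.H334.Ore

open Cfsg Cfsg.Agent.H334.Ore.Mat Cfsg.Agent.H729.Trans
open Cfsg.Agent.SporadicStructure.M24El Cfsg.Agent.SporadicA.GolayPerm

namespace M22

open Cfsg.Agent.H334.Ore.M22Data Cfsg.Agent.H729.M22Deg

theorem hF (g : Spor.M22) : ∀ b ∈ F, im (inc g) b = b := by
  intro b hb
  simp only [F, List.mem_cons, List.not_mem_nil, or_false] at hb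
  rcases hb with rfl | rfl
  · exact im_none g
  · exact im_zero g

theorem hmem (c : ℕ) (hc : ok c = true) (h : ∀ b ∈ F, papp c b = b) : ∃ x : Spor.M22, inc x = el c :=
  exists_el hc (h 23 (by simp [F])) (h 0 (by simp [F]))

theorem hA' : ∀ r ∈ D, chkA F r = true := fun r hr => List.all_eq_true.1 hA r hr

theorem cov (g : Spor.M22) : g = 1 ∨ ∃ r ∈ D, ∃ x : Spor.M22, inc x = el r.c ∧ IsConj x g := by
  refine cover_of_data inc_injective hF hmem D hC hA' hP ?_ g
  rw [card_M22]
  have h : ∑ i : Fin D.length, 443520 / (D.get i).n = (D.map fun r => 443520 / r.n).sum := by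
    rw [← List.sum_ofFn]
    rfl
  rw [h, hsum]

end M22

/-- **Every element of `M22` is a commutator.** -/
theorem ore_m22 {S : Type*} [Group S] (h : Spor.IsoM22 S) : Cfsg.Agent.H777.Ore.AllC S := by
  obtain ⟨e⟩ := h
  exact Cfsg.Agent.H777.Ore.AllC.congr e.symm
    (allC_of_data Cfsg.Agent.H729.M22Deg.inc_injective M22.hmem M22Data.D M22.hA' M22.cov)

/-- **Every element of `M22` is a product of four elements with square one.** -/
theorem four_m22 {S : Type*} [Group S] (h : Spor.IsoM22 S) : Cfsg.Agent.H777.Ore.Inv4 S := by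
  obtain ⟨e⟩ := h
  exact inv4_congr e.symm
    (inv4_of_data Cfsg.Agent.H729.M22Deg.inc_injective M22.hmem M22Data.D M22.hA' M22.cov)

end Cfsg.Agent.H334.Ore
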