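import Cfsg.Agent.H334.Ore.M22Data

/-!
# Checks for the classes of `M22`
-/

set_option autoImplicit false
set_option Elab.async false

namespace Cfsg.Agent.H334.Ore.M22Data

open Cfsg.Agent.H334.Ore.Mat

theorem cC0 : chkC F r0 = true := by decide +kernel

theorem cC1 : chkC F r1 = true := by decide +kernel

theorem cC2 : chkC F r2 = true := by decide +kernel

theorem cC3 : chkC F r3 = true := by decide +kernel

theorem cC4 : chkC F r4 = true := by decide +kernel

theorem cC5 : chkC F r5 = true := by decide +kernel

theorem cC6 : chkC F r6 = true := by decide +kernel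

theorem cC7 : chkC F r7 = true := by decide +kernel

theorem cC8 : chkC F r8 = true := by decide +kernel

theorem cC9 : chkC F r9 = true := by decide +kernel

theorem cC10 : chkC F r10 = true := by decide +kernel

theorem hA : D.all (chkA F) = true := by decide +kernel

theorem pP0 : (D.drop 1).all (chkP F r0) = true := by decide +kernel

theorem pP1 : (D.drop 2).all (chkP F r1) = true := by decide +kernel

theorem pP2 : (D.drop 3).all (chkP F r2) = true := by decide +kernel

theorem pP3 : (D.drop 4).all (chkP F r3) = true := by decide +kernel

theorem pP4 : (D.drop 5).all (chkP F r4) = true := by decide +kernel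

theorem pP5 : (D.drop 6).all (chkP F r5) = true := by decide +kernel

theorem pP6 : (D.drop 7).all (chkP F r6) = true := by decide +kernel

theorem pP7 : (D.drop 8).all (chkP F r7) = true := by decide +kernel

theorem pP8 : (D.drop 9).all (chkP F r8) = true := by decide +kernel

theorem pP9 : (D.drop 10).all (chkP F r9) = true := by decide +kernel

theorem pP10 : (D.drop 11).all (chkP F r10) = true := by decide +kernel

theorem hsum : (1 + (D.map fun r => 443520 / r.n).sum) = 443520 := by decide +kernel

theorem hC : ∀ r ∈ D, chkC F r = true := by
  intro r hr
  simp only [D, List.mem_cons, List.not_mem_nil, or_false] at hr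
  rcases hr with rfl | rfl | rfl | rfl | rfl | rfl | rfl | rfl | rfl | rfl | rfl
  · exact cC0
  · exact cC1
  · exact cC2
  · exact cC3
  · exact cC4
  · exact cC5
  · exact cC6
  · exact cC7
  · exact cC8
  · exact cC9
  · exact cC10

theorem hP : ∀ i j : Fin D.length, i < j → chkP F (D.get i) (D.get j) = true := by
  refine hP_of ?_
  intro i hi
  have hi' : i < 11 := hi
  interval_cases i
  · exact pP0
  · exact pP1
  · exact pP2
  · exact pP3
  · exact pP4
  · exact pP5
  · exact pP6
  · exact pP7
  · exact pP8
  · exact pP9
  · exact pP10

end Cfsg.Agent.H334.Ore.M22Data
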