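import Cfsg.Agent.H334.Ore.M24Data

/-!
# Checks for the classes of `M24`
-/

set_option autoImplicit false
set_option Elab.async false

namespace Cfsg.Agent.H334.Ore.M24Data

open Cfsg.Agent.H334.Ore.Mat Cfsg.Agent.H729.Trans

/-! ### cutting a check into pieces (memory of the kernel) -/

theorem fibOk_cons_of {F : List ℕ} {p c : ℕ} {L : List ℕ} {f : Fib} {fs : List Fib}
    (h1 : decide (f.b ∈ cA p c L f.b f.ex) = true) (h2 : exOk F p c L f = true)
    (h3 : fibOk F p c (f.b :: L) fs = true) : fibOk F p c L (f :: fs) = true := by
  rw [fibOk, h1, h2, h3]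
  rfl

theorem exOk_split {F : List ℕ} {p c : ℕ} {L : List ℕ} {f : Fib} (k : ℕ)
    (h : exOk F p c L ⟨f.b, f.e.take k⟩ = true) (h' : exOk F p c L ⟨f.b, f.e.drop k⟩ = true) : exOk F p c L f = true := by
  unfold exOk at *
  rw [← List.take_append_drop k f.e, List.all_append, Bool.and_eq_true]
  exact ⟨h, h'⟩

theorem cC1_a : (pre r1.p r1.c r1.wd r1.sts && stOk (F ++ pts r1.fib []) r1.sts) = true := by decide +kernel

theorem cC1_b : Nat.ble (fiber r1.p r1.c [] r1.fib * (tl r1.p r1.c r1.c r1.wd r1.sts).length) r1.n = true := by
  decide +kernel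

theorem cC1_c0 : (decide (f1_0.b ∈ cA r1.p r1.c [] f1_0.b f1_0.ex) && exOk F r1.p r1.c [] f1_0) = true := by
  decide +kernel

theorem cC1_d1 : decide (f1_1.b ∈ cA r1.p r1.c [f1_0.b] f1_1.b f1_1.ex) = true := by decide +kernel

theorem cC1_e1 : exOk F r1.p r1.c [f1_0.b] ⟨f1_1.b, f1_1.e.take 1⟩ = true := by decide +kernel

theorem cC1_e2 : exOk F r1.p r1.c [f1_0.b] ⟨f1_1.b, f1_1.e.drop 1⟩ = true := by decide +kernel

theorem cC1_c2 : fibOk F r1.p r1.c [f1_1.b, f1_0.b] [f1_2, f1_3] = true := by decide +kernel

theorem cC0 : chkC F r0 = true := by decide +kernel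

theorem cC1 : chkC F r1 = true := by
  have ha := cC1_a
  have h0 := cC1_c0
  rw [Bool.and_eq_true] at ha h0
  have hf : fibOk F r1.p r1.c [] [f1_0, f1_1, f1_2, f1_3] = true :=
    fibOk_cons_of h0.1 h0.2 (fibOk_cons_of cC1_d1 (exOk_split 1 cC1_e1 cC1_e2) cC1_c2)
  unfold chkC
  rw [ha.1, ha.2, cC1_b]
  exact (congrArg (fun b => true && (true && (b && true))) hf : _)

theorem cC2 : chkC F r2 = true := by decide +kernel

theorem cC3 : chkC F r3 = true := by decide +kernel

theorem cC4 : chkC F r4 = true := by decide +kernel

theorem cC5 : chkC F r5 = true := by decide +kernel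

theorem cC6 : chkC F r6 = true := by decide +kernel

theorem cC7 : chkC F r7 = true := by decide +kernel

theorem cC8 : chkC F r8 = true := by decide +kernel

theorem cC9 : chkC F r9 = true := by decide +kernel

theorem cC10 : chkC F r10 = true := by decide +kernel

theorem cC11 : chkC F r11 = true := by decide +kernel

theorem cC12 : chkC F r12 = true := by decide +kernel

theorem cC13 : chkC F r13 = true := by decide +kernel

theorem cC14 : chkC F r14 = true := by decide +kernel

theorem cC15 : chkC F r15 = true := by decide +kernel

theorem cC16 : chkC F r16 = true := by decide +kernel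

theorem cC17 : chkC F r17 = true := by decide +kernel

theorem cC18 : chkC F r18 = true := by decide +kernel

theorem cC19 : chkC F r19 = true := by decide +kernel

theorem cC20 : chkC F r20 = true := by decide +kernel

theorem cC21 : chkC F r21 = true := by decide +kernel

theorem cC22 : chkC F r22 = true := by decide +kernel

theorem cC23 : chkC F r23 = true := by decide +kernel

theorem cC24 : chkC F r24 = true := by decide +kernel

theorem hA : D.all (chkA F) = true := by decide +kernel

theorem pP0 : (D.drop 1).all (chkP F r0) = true := by decide +kernel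

theorem pP1 : (D.drop 2).all (chkP F r1) = true := by decide +kernel

theorem pP2 : (D.drop 3).all (chkP F r2) = true := by decide +kernel

theorem pP3 : (D.drop 4).all (chkP F r3) = true := by decide +kernel

theorem pP4 : (D.drop 5).all (chkP F r4) = true := by decide +kernel

theorem pP5 : (D.drop 6).all (chkP F r5) = true := by decide +kernel

theorem pP6 : (D.drop 7).all (chkP F r6) = true := by decide +kernel

theorem pP7 : (D.drop 8).all (chkP F r7) = true := by decide +kernel

theorem pP8 : (D.drop 9).all (chkP F r8) = true := by decide +kernel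

theorem pP9 : (D.drop 10).all (chkP F r9) = true := by decide +kernel

theorem pP10 : (D.drop 11).all (chkP F r10) = true := by decide +kernel

theorem pP11 : (D.drop 12).all (chkP F r11) = true := by decide +kernel

theorem pP12 : (D.drop 13).all (chkP F r12) = true := by decide +kernel

theorem pP13 : (D.drop 14).all (chkP F r13) = true := by decide +kernel

theorem pP14 : (D.drop 15).all (chkP F r14) = true := by decide +kernel

theorem pP15 : (D.drop 16).all (chkP F r15) = true := by decide +kernel

theorem pP16 : (D.drop 17).all (chkP F r16) = true := by decide +kernel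

theorem pP17 : (D.drop 18).all (chkP F r17) = true := by decide +kernel

theorem pP18 : (D.drop 19).all (chkP F r18) = true := by decide +kernel

theorem pP19 : (D.drop 20).all (chkP F r19) = true := by decide +kernel

theorem pP20 : (D.drop 21).all (chkP F r20) = true := by decide +kernel

theorem pP21 : (D.drop 22).all (chkP F r21) = true := by decide +kernel

theorem pP22 : (D.drop 23).all (chkP F r22) = true := by decide +kernel

theorem pP23 : (D.drop 24).all (chkP F r23) = true := by decide +kernel

theorem pP24 : (D.drop 25).all (chkP F r24) = true := by decide +kernel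

theorem hsum : (1 + (D.map fun r => 244823040 / r.n).sum) = 244823040 := by decide +kernel

theorem hC : ∀ r ∈ D, chkC F r = true := by
  intro r hr
  simp only [D, List.mem_cons, List.not_mem_nil, or_false] at hr
  rcases hr with rfl | rfl | rfl | rfl | rfl | rfl | rfl | rfl | rfl | rfl | rfl | rfl | rfl | rfl | rfl | rfl | rfl | rfl | rfl | rfl | rfl | rfl | rfl | rfl | rfl
  · exact cC0
  · exact cC1
  · exact cC2
  · exact cC3
  · exact cC4
  · exact cC5
  · exact cC6
  · exact cC7
  · exact cC8
  · exact cC9
  · exact cC10
  · exact cC11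
  · exact cC12
  · exact cC13
  · exact cC14
  · exact cC15
  · exact cC16
  · exact cC17
  · exact cC18
  · exact cC19
  · exact cC20
  · exact cC21
  · exact cC22
  · exact cC23
  · exact cC24

theorem hP : ∀ i j : Fin D.length, i < j → chkP F (D.get i) (D.get j) = true := by
  refine hP_of ?_
  intro i hi
  have hi' : i < 25 := hi
  interval_cases i
  · exact pP0
  · exact pP1
  · exact pP2
  · exact pP3
  · exact pP4
  · exact pP5
  · exact pP6
  · exact pP7
  · exact pP8
  · exact pP9
  · exact pP10
  · exact pP11
  · exact pP12
  · exact pP13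
  · exact pP14
  · exact pP15
  · exact pP16
  · exact pP17
  · exact pP18
  · exact pP19
  · exact pP20
  · exact pP21
  · exact pP22
  · exact pP23
  · exact pP24

end Cfsg.Agent.H334.Ore.M24Data
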