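import Cfsg.Agent.H334.Ore.Mat

/-!
# Representatives of the classes of `M24` (data)
-/

set_option autoImplicit false
set_option Elab.async false

namespace Cfsg.Agent.H334.Ore.M24Data

open Cfsg.Agent.H334.Ore.Mat

def F : List ℕ := []

def f0_0 : Fib where
  b := 2
  e := []

def f0_1 : Fib where
  b := 3
  e := []

def f0_2 : Fib where
  b := 6
  e := []

def f0_3 : Fib where
  b := 0
  e := []

def r0 : Rec where
  p := 2
  c := 817407390404986744204366159001526304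
  a := 3423067014107488704349830906158261
  b := 210316350958302239373777907193882039
  t := [817407390404986744204366159001526304, 984818244535754528103549039458486304, 984818244535754528103549039458486304, 984818244535754528103549039458486304]
  wd := [(0, 0), (12, 0), (3, 0), (2, 0), (14, 0), (13, 0), (1, 0), (7, 0), (3, 1), (7, 1), (8, 0), (2, 1), (5, 0), (15, 0), (1, 1), (11, 0), (5, 1), (9, 0), (11, 1), (4, 0), (6, 0), (10, 0), (10, 1), (4, 1)]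
  sts := [(0, [0], []),
    (6, [6], []),
    (3, [3], []),
    (2, [2], []),
    (19, List.range 24, [[(3, 0), (2, 0), (1, 0), (3, 1), (2, 1), (1, 1), (4, 0), (4, 1)]]),
    (12, List.range 24, []),
    (20, List.range 24, [[(0, 0), (3, 1), (2, 1), (5, 0), (1, 1), (5, 1), (4, 0), (6, 0)]]),
    (7, List.range 24, [[(3, 0), (2, 0), (7, 0), (3, 1), (7, 1), (2, 1), (5, 0), (5, 1)]]),
    (10, List.range 24, [[(0, 0), (3, 0), (1, 0), (3, 1), (7, 1), (8, 0), (5, 0), (4, 0)]]),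
    (17, List.range 24, [[(0, 0), (3, 0), (1, 0), (7, 0), (2, 1), (5, 0), (1, 1), (9, 0)]]),
    (21, List.range 24, [[(3, 0), (1, 0), (7, 0), (3, 1), (7, 1), (1, 1), (10, 0), (10, 1)]]),
    (15, List.range 24, [[(2, 0), (1, 0), (7, 0), (7, 1), (2, 1), (1, 1), (11, 0), (11, 1)], [(0, 0), (3, 0), (2, 0), (1, 0), (8, 0), (1, 1), (11, 0), (10, 0)]]),
    (1, List.range 24, [[(12, 0), (3, 0), (1, 0), (7, 0), (3, 1), (8, 0), (2, 1), (11, 0)]]),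
    (5, List.range 24, [[(0, 0), (12, 0), (13, 0), (1, 0), (7, 0), (7, 1), (8, 0), (1, 1)]]),
    (4, List.range 24, [[(0, 0), (12, 0), (3, 0), (2, 0), (14, 0), (7, 0), (8, 0), (5, 0)]]),
    (13, List.range 24, [[(12, 0), (3, 0), (2, 0), (14, 0), (13, 0), (3, 1), (2, 1), (15, 0)]])]
  fib := [f0_0, f0_1, f0_2, f0_3]
  n := 21504

def f1_0 : Fib where
  b := 0
  e := []

def f1_1 : Fib where
  b := 7
  e := [⟨6, [(0, 0), (5, 0), (4, 0), (6, 0), (7, 0), (0, 1), (3, 0), (1, 0), (5, 1), (4, 1), (8, 0), (9, 0), (8, 1), (10, 0), (7, 1), (11, 0), (1, 1), (3, 1), (11, 1), (9, 1), (2, 0), (2, 1), (6, 1), (10, 1)],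
    [(0, [0], []),
    (7, [6], []),
    (20, List.range 24, []),
    (6, List.range 24, []),
    (2, List.range 24, [[(0, 0), (4, 0), (0, 1), (3, 0), (4, 1), (3, 1), (2, 0), (2, 1)]]),
    (1, List.range 24, []),
    (3, List.range 24, [[(6, 0), (0, 1), (3, 0), (1, 0), (4, 1), (1, 1), (2, 0), (6, 1)]]),
    (4, List.range 24, [[(0, 0), (6, 0), (3, 0), (5, 1), (4, 1), (7, 1), (1, 1), (3, 1)], [(0, 0), (5, 0), (4, 0), (7, 0), (3, 0), (5, 1), (7, 1), (2, 0)]]),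
    (10, List.range 24, [[(0, 0), (5, 0), (4, 0), (6, 0), (7, 0), (1, 0), (8, 0), (8, 1)], [(0, 0), (5, 0), (0, 1), (3, 0), (1, 0), (4, 1), (8, 0), (7, 1)]]),
    (11, List.range 24, [[(0, 0), (5, 0), (7, 0), (5, 1), (4, 1), (8, 0), (9, 0), (1, 1)], [(5, 0), (6, 0), (7, 0), (3, 0), (1, 0), (5, 1), (4, 1), (9, 1)]]),
    (13, List.range 24, [[(5, 0), (4, 0), (6, 0), (7, 0), (0, 1), (5, 1), (9, 0), (10, 0)], [(0, 0), (4, 0), (7, 0), (0, 1), (3, 0), (8, 0), (9, 0), (10, 1)]]),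
    (15, List.range 24, [[(5, 0), (4, 0), (3, 0), (1, 0), (5, 1), (8, 0), (9, 0), (11, 0)], [(0, 0), (4, 0), (6, 0), (0, 1), (3, 0), (1, 0), (5, 1), (11, 1)]])]⟩,
    ⟨17, [(0, 0), (5, 0), (6, 0), (7, 0), (3, 0), (0, 1), (4, 0), (1, 0), (5, 1), (6, 1), (8, 0), (9, 0), (8, 1), (10, 0), (3, 1), (2, 0), (1, 1), (4, 1), (2, 1), (9, 1), (11, 0), (11, 1), (7, 1), (10, 1)],
    [(0, [0], []),
    (7, [17], []),
    (15, List.range 24, []),
    (4, List.range 24, []),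
    (6, List.range 24, [[(0, 0), (3, 0), (0, 1), (4, 0), (3, 1), (2, 0), (4, 1), (2, 1)]]),
    (1, List.range 24, []),
    (2, List.range 24, [[(0, 0), (6, 0), (3, 0), (4, 0), (1, 0), (6, 1), (2, 0), (1, 1)]]),
    (3, List.range 24, [[(6, 0), (7, 0), (3, 0), (1, 0), (5, 1), (3, 1), (2, 0), (4, 1)], [(5, 0), (7, 0), (0, 1), (4, 0), (5, 1), (3, 1), (2, 0), (7, 1)]]),
    (10, List.range 24, [[(0, 0), (5, 0), (6, 0), (7, 0), (3, 0), (1, 0), (8, 0), (8, 1)], [(0, 0), (5, 0), (0, 1), (4, 0), (1, 0), (6, 1), (8, 0), (3, 1)]]),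
    (11, List.range 24, [[(5, 0), (6, 0), (4, 0), (1, 0), (5, 1), (8, 0), (9, 0), (2, 0)], [(5, 0), (7, 0), (3, 0), (4, 0), (1, 0), (5, 1), (6, 1), (9, 1)]]),
    (13, List.range 24, [[(5, 0), (6, 0), (7, 0), (3, 0), (0, 1), (5, 1), (9, 0), (10, 0)], [(0, 0), (6, 0), (3, 0), (0, 1), (4, 0), (8, 0), (9, 0), (10, 1)]]),
    (20, List.range 24, [[(6, 0), (3, 0), (0, 1), (1, 0), (5, 1), (6, 1), (8, 0), (11, 0)], [(7, 0), (0, 1), (4, 0), (5, 1), (6, 1), (8, 0), (9, 0), (11, 1)]])]⟩]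

def f1_2 : Fib where
  b := 6
  e := [⟨1, [(1, 0), (4, 0), (5, 0), (6, 0), (7, 0), (1, 1), (2, 0), (0, 0), (4, 1), (5, 1), (8, 0), (9, 0), (8, 1), (3, 0), (7, 1), (10, 0), (0, 1), (2, 1), (10, 1), (9, 1), (11, 0), (11, 1), (6, 1), (3, 1)],
    [(7, [7], []),
    (0, [0], []),
    (6, [1], []),
    (13, List.range 24, [[(1, 0), (1, 1), (2, 0), (0, 0), (3, 0), (0, 1), (2, 1), (3, 1)]]),
    (1, List.range 24, []),
    (2, List.range 24, [[(1, 0), (4, 0), (5, 0), (0, 0), (4, 1), (5, 1), (3, 0), (2, 1)]]),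
    (3, List.range 24, []),
    (4, List.range 24, [[(4, 0), (5, 0), (6, 0), (2, 0), (0, 0), (3, 0), (7, 1), (0, 1)], [(1, 0), (7, 0), (1, 1), (2, 0), (4, 1), (5, 1), (3, 0), (6, 1)]]),
    (10, List.range 24, [[(1, 0), (4, 0), (5, 0), (6, 0), (7, 0), (0, 0), (8, 0), (8, 1)], [(1, 0), (4, 0), (1, 1), (2, 0), (0, 0), (5, 1), (8, 0), (7, 1)]]),
    (11, List.range 24, [[(4, 0), (5, 0), (6, 0), (7, 0), (1, 1), (4, 1), (9, 0), (3, 0)], [(4, 0), (6, 0), (7, 0), (2, 0), (0, 0), (4, 1), (5, 1), (9, 1)]]),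
    (15, List.range 24, [[(4, 0), (5, 0), (2, 0), (0, 0), (4, 1), (8, 0), (9, 0), (10, 0)], [(1, 0), (5, 0), (6, 0), (1, 1), (2, 0), (0, 0), (4, 1), (10, 1)]]),
    (20, List.range 24, [[(5, 0), (7, 0), (1, 1), (0, 0), (4, 1), (5, 1), (8, 0), (11, 0)], [(6, 0), (1, 1), (2, 0), (4, 1), (5, 1), (8, 0), (9, 0), (11, 1)]])]⟩,
    ⟨2, [(1, 0), (4, 0), (5, 0), (6, 0), (7, 0), (1, 1), (2, 0), (0, 0), (4, 1), (5, 1), (8, 0), (9, 0), (8, 1), (3, 0), (7, 1), (10, 0), (0, 1), (2, 1), (10, 1), (9, 1), (11, 0), (11, 1), (6, 1), (3, 1)],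
    [(7, [7], []),
    (0, [0], []),
    (6, [2], []),
    (13, List.range 24, [[(1, 0), (1, 1), (2, 0), (0, 0), (3, 0), (0, 1), (2, 1), (3, 1)]]),
    (1, List.range 24, []),
    (2, List.range 24, [[(1, 0), (4, 0), (5, 0), (0, 0), (4, 1), (5, 1), (3, 0), (2, 1)]]),
    (3, List.range 24, []),
    (4, List.range 24, [[(4, 0), (5, 0), (6, 0), (2, 0), (0, 0), (3, 0), (7, 1), (0, 1)], [(1, 0), (7, 0), (1, 1), (2, 0), (4, 1), (5, 1), (3, 0), (6, 1)]]),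
    (10, List.range 24, [[(1, 0), (4, 0), (5, 0), (6, 0), (7, 0), (0, 0), (8, 0), (8, 1)], [(1, 0), (4, 0), (1, 1), (2, 0), (0, 0), (5, 1), (8, 0), (7, 1)]]),
    (11, List.range 24, [[(4, 0), (5, 0), (6, 0), (7, 0), (1, 1), (4, 1), (9, 0), (3, 0)], [(4, 0), (6, 0), (7, 0), (2, 0), (0, 0), (4, 1), (5, 1), (9, 1)]]),
    (15, List.range 24, [[(4, 0), (5, 0), (2, 0), (0, 0), (4, 1), (8, 0), (9, 0), (10, 0)], [(1, 0), (5, 0), (6, 0), (1, 1), (2, 0), (0, 0), (4, 1), (10, 1)]]),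
    (20, List.range 24, [[(5, 0), (7, 0), (1, 1), (0, 0), (4, 1), (5, 1), (8, 0), (11, 0)], [(6, 0), (1, 1), (2, 0), (4, 1), (5, 1), (8, 0), (9, 0), (11, 1)]])]⟩,
    ⟨3, [(1, 0), (4, 0), (5, 0), (6, 0), (7, 0), (1, 1), (2, 0), (0, 0), (4, 1), (5, 1), (8, 0), (9, 0), (8, 1), (3, 0), (7, 1), (10, 0), (0, 1), (2, 1), (10, 1), (9, 1), (11, 0), (11, 1), (6, 1), (3, 1)],
    [(7, [7], []),
    (0, [0], []),
    (6, [3], []),
    (13, List.range 24, [[(1, 0), (1, 1), (2, 0), (0, 0), (3, 0), (0, 1), (2, 1), (3, 1)]]),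
    (1, List.range 24, []),
    (2, List.range 24, [[(1, 0), (4, 0), (5, 0), (0, 0), (4, 1), (5, 1), (3, 0), (2, 1)]]),
    (3, List.range 24, []),
    (4, List.range 24, [[(4, 0), (5, 0), (6, 0), (2, 0), (0, 0), (3, 0), (7, 1), (0, 1)], [(1, 0), (7, 0), (1, 1), (2, 0), (4, 1), (5, 1), (3, 0), (6, 1)]]),
    (10, List.range 24, [[(1, 0), (4, 0), (5, 0), (6, 0), (7, 0), (0, 0), (8, 0), (8, 1)], [(1, 0), (4, 0), (1, 1), (2, 0), (0, 0), (5, 1), (8, 0), (7, 1)]]),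
    (11, List.range 24, [[(4, 0), (5, 0), (6, 0), (7, 0), (1, 1), (4, 1), (9, 0), (3, 0)], [(4, 0), (6, 0), (7, 0), (2, 0), (0, 0), (4, 1), (5, 1), (9, 1)]]),
    (15, List.range 24, [[(4, 0), (5, 0), (2, 0), (0, 0), (4, 1), (8, 0), (9, 0), (10, 0)], [(1, 0), (5, 0), (6, 0), (1, 1), (2, 0), (0, 0), (4, 1), (10, 1)]]),
    (20, List.range 24, [[(5, 0), (7, 0), (1, 1), (0, 0), (4, 1), (5, 1), (8, 0), (11, 0)], [(6, 0), (1, 1), (2, 0), (4, 1), (5, 1), (8, 0), (9, 0), (11, 1)]])]⟩,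
    ⟨4, [(1, 0), (4, 0), (5, 0), (6, 0), (7, 0), (1, 1), (2, 0), (0, 0), (4, 1), (5, 1), (8, 0), (9, 0), (8, 1), (3, 0), (7, 1), (10, 0), (0, 1), (2, 1), (10, 1), (9, 1), (11, 0), (11, 1), (6, 1), (3, 1)],
    [(7, [7], []),
    (0, [0], []),
    (6, [4], []),
    (13, List.range 24, [[(1, 0), (1, 1), (2, 0), (0, 0), (3, 0), (0, 1), (2, 1), (3, 1)]]),
    (1, List.range 24, []),
    (2, List.range 24, [[(1, 0), (4, 0), (5, 0), (0, 0), (4, 1), (5, 1), (3, 0), (2, 1)]]),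
    (3, List.range 24, []),
    (4, List.range 24, [[(4, 0), (5, 0), (6, 0), (2, 0), (0, 0), (3, 0), (7, 1), (0, 1)], [(1, 0), (7, 0), (1, 1), (2, 0), (4, 1), (5, 1), (3, 0), (6, 1)]]),
    (10, List.range 24, [[(1, 0), (4, 0), (5, 0), (6, 0), (7, 0), (0, 0), (8, 0), (8, 1)], [(1, 0), (4, 0), (1, 1), (2, 0), (0, 0), (5, 1), (8, 0), (7, 1)]]),
    (11, List.range 24, [[(4, 0), (5, 0), (6, 0), (7, 0), (1, 1), (4, 1), (9, 0), (3, 0)], [(4, 0), (6, 0), (7, 0), (2, 0), (0, 0), (4, 1), (5, 1), (9, 1)]]),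
    (15, List.range 24, [[(4, 0), (5, 0), (2, 0), (0, 0), (4, 1), (8, 0), (9, 0), (10, 0)], [(1, 0), (5, 0), (6, 0), (1, 1), (2, 0), (0, 0), (4, 1), (10, 1)]]),
    (20, List.range 24, [[(5, 0), (7, 0), (1, 1), (0, 0), (4, 1), (5, 1), (8, 0), (11, 0)], [(6, 0), (1, 1), (2, 0), (4, 1), (5, 1), (8, 0), (9, 0), (11, 1)]])]⟩,
    ⟨8, [(1, 0), (4, 0), (5, 0), (6, 0), (7, 0), (1, 1), (2, 0), (0, 0), (4, 1), (5, 1), (8, 0), (9, 0), (8, 1), (3, 0), (7, 1), (10, 0), (0, 1), (2, 1), (10, 1), (9, 1), (11, 0), (11, 1), (6, 1), (3, 1)],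
    [(7, [7], []),
    (0, [0], []),
    (6, [8], []),
    (13, List.range 24, [[(1, 0), (1, 1), (2, 0), (0, 0), (3, 0), (0, 1), (2, 1), (3, 1)]]),
    (1, List.range 24, []),
    (2, List.range 24, [[(1, 0), (4, 0), (5, 0), (0, 0), (4, 1), (5, 1), (3, 0), (2, 1)]]),
    (3, List.range 24, []),
    (4, List.range 24, [[(4, 0), (5, 0), (6, 0), (2, 0), (0, 0), (3, 0), (7, 1), (0, 1)], [(1, 0), (7, 0), (1, 1), (2, 0), (4, 1), (5, 1), (3, 0), (6, 1)]]),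
    (10, List.range 24, [[(1, 0), (4, 0), (5, 0), (6, 0), (7, 0), (0, 0), (8, 0), (8, 1)], [(1, 0), (4, 0), (1, 1), (2, 0), (0, 0), (5, 1), (8, 0), (7, 1)]]),
    (11, List.range 24, [[(4, 0), (5, 0), (6, 0), (7, 0), (1, 1), (4, 1), (9, 0), (3, 0)], [(4, 0), (6, 0), (7, 0), (2, 0), (0, 0), (4, 1), (5, 1), (9, 1)]]),
    (15, List.range 24, [[(4, 0), (5, 0), (2, 0), (0, 0), (4, 1), (8, 0), (9, 0), (10, 0)], [(1, 0), (5, 0), (6, 0), (1, 1), (2, 0), (0, 0), (4, 1), (10, 1)]]),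
    (20, List.range 24, [[(5, 0), (7, 0), (1, 1), (0, 0), (4, 1), (5, 1), (8, 0), (11, 0)], [(6, 0), (1, 1), (2, 0), (4, 1), (5, 1), (8, 0), (9, 0), (11, 1)]])]⟩,
    ⟨9, [(1, 0), (4, 0), (5, 0), (6, 0), (7, 0), (1, 1), (2, 0), (0, 0), (4, 1), (5, 1), (8, 0), (9, 0), (8, 1), (3, 0), (7, 1), (10, 0), (0, 1), (2, 1), (10, 1), (9, 1), (11, 0), (11, 1), (6, 1), (3, 1)],
    [(7, [7], []),
    (0, [0], []),
    (6, [9], []),
    (13, List.range 24, [[(1, 0), (1, 1), (2, 0), (0, 0), (3, 0), (0, 1), (2, 1), (3, 1)]]),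
    (1, List.range 24, []),
    (2, List.range 24, [[(1, 0), (4, 0), (5, 0), (0, 0), (4, 1), (5, 1), (3, 0), (2, 1)]]),
    (3, List.range 24, []),
    (4, List.range 24, [[(4, 0), (5, 0), (6, 0), (2, 0), (0, 0), (3, 0), (7, 1), (0, 1)], [(1, 0), (7, 0), (1, 1), (2, 0), (4, 1), (5, 1), (3, 0), (6, 1)]]),
    (10, List.range 24, [[(1, 0), (4, 0), (5, 0), (6, 0), (7, 0), (0, 0), (8, 0), (8, 1)], [(1, 0), (4, 0), (1, 1), (2, 0), (0, 0), (5, 1), (8, 0), (7, 1)]]),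
    (11, List.range 24, [[(4, 0), (5, 0), (6, 0), (7, 0), (1, 1), (4, 1), (9, 0), (3, 0)], [(4, 0), (6, 0), (7, 0), (2, 0), (0, 0), (4, 1), (5, 1), (9, 1)]]),
    (15, List.range 24, [[(4, 0), (5, 0), (2, 0), (0, 0), (4, 1), (8, 0), (9, 0), (10, 0)], [(1, 0), (5, 0), (6, 0), (1, 1), (2, 0), (0, 0), (4, 1), (10, 1)]]),
    (20, List.range 24, [[(5, 0), (7, 0), (1, 1), (0, 0), (4, 1), (5, 1), (8, 0), (11, 0)], [(6, 0), (1, 1), (2, 0), (4, 1), (5, 1), (8, 0), (9, 0), (11, 1)]])]⟩,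
    ⟨10, [(1, 0), (4, 0), (5, 0), (6, 0), (7, 0), (1, 1), (2, 0), (0, 0), (4, 1), (5, 1), (8, 0), (9, 0), (8, 1), (3, 0), (7, 1), (10, 0), (0, 1), (2, 1), (10, 1), (9, 1), (11, 0), (11, 1), (6, 1), (3, 1)],
    [(7, [7], []),
    (0, [0], []),
    (6, [10], []),
    (13, List.range 24, [[(1, 0), (1, 1), (2, 0), (0, 0), (3, 0), (0, 1), (2, 1), (3, 1)]]),
    (1, List.range 24, []),
    (2, List.range 24, [[(1, 0), (4, 0), (5, 0), (0, 0), (4, 1), (5, 1), (3, 0), (2, 1)]]),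
    (3, List.range 24, []),
    (4, List.range 24, [[(4, 0), (5, 0), (6, 0), (2, 0), (0, 0), (3, 0), (7, 1), (0, 1)], [(1, 0), (7, 0), (1, 1), (2, 0), (4, 1), (5, 1), (3, 0), (6, 1)]]),
    (10, List.range 24, [[(1, 0), (4, 0), (5, 0), (6, 0), (7, 0), (0, 0), (8, 0), (8, 1)], [(1, 0), (4, 0), (1, 1), (2, 0), (0, 0), (5, 1), (8, 0), (7, 1)]]),
    (11, List.range 24, [[(4, 0), (5, 0), (6, 0), (7, 0), (1, 1), (4, 1), (9, 0), (3, 0)], [(4, 0), (6, 0), (7, 0), (2, 0), (0, 0), (4, 1), (5, 1), (9, 1)]]),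
    (15, List.range 24, [[(4, 0), (5, 0), (2, 0), (0, 0), (4, 1), (8, 0), (9, 0), (10, 0)], [(1, 0), (5, 0), (6, 0), (1, 1), (2, 0), (0, 0), (4, 1), (10, 1)]]),
    (20, List.range 24, [[(5, 0), (7, 0), (1, 1), (0, 0), (4, 1), (5, 1), (8, 0), (11, 0)], [(6, 0), (1, 1), (2, 0), (4, 1), (5, 1), (8, 0), (9, 0), (11, 1)]])]⟩,
    ⟨11, [(1, 0), (4, 0), (5, 0), (6, 0), (7, 0), (1, 1), (2, 0), (0, 0), (4, 1), (5, 1), (8, 0), (9, 0), (8, 1), (3, 0), (7, 1), (10, 0), (0, 1), (2, 1), (10, 1), (9, 1), (11, 0), (11, 1), (6, 1), (3, 1)],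
    [(7, [7], []),
    (0, [0], []),
    (6, [11], []),
    (13, List.range 24, [[(1, 0), (1, 1), (2, 0), (0, 0), (3, 0), (0, 1), (2, 1), (3, 1)]]),
    (1, List.range 24, []),
    (2, List.range 24, [[(1, 0), (4, 0), (5, 0), (0, 0), (4, 1), (5, 1), (3, 0), (2, 1)]]),
    (3, List.range 24, []),
    (4, List.range 24, [[(4, 0), (5, 0), (6, 0), (2, 0), (0, 0), (3, 0), (7, 1), (0, 1)], [(1, 0), (7, 0), (1, 1), (2, 0), (4, 1), (5, 1), (3, 0), (6, 1)]]),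
    (10, List.range 24, [[(1, 0), (4, 0), (5, 0), (6, 0), (7, 0), (0, 0), (8, 0), (8, 1)], [(1, 0), (4, 0), (1, 1), (2, 0), (0, 0), (5, 1), (8, 0), (7, 1)]]),
    (11, List.range 24, [[(4, 0), (5, 0), (6, 0), (7, 0), (1, 1), (4, 1), (9, 0), (3, 0)], [(4, 0), (6, 0), (7, 0), (2, 0), (0, 0), (4, 1), (5, 1), (9, 1)]]),
    (15, List.range 24, [[(4, 0), (5, 0), (2, 0), (0, 0), (4, 1), (8, 0), (9, 0), (10, 0)], [(1, 0), (5, 0), (6, 0), (1, 1), (2, 0), (0, 0), (4, 1), (10, 1)]]),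
    (20, List.range 24, [[(5, 0), (7, 0), (1, 1), (0, 0), (4, 1), (5, 1), (8, 0), (11, 0)], [(6, 0), (1, 1), (2, 0), (4, 1), (5, 1), (8, 0), (9, 0), (11, 1)]])]⟩,
    ⟨12, [(1, 0), (4, 0), (5, 0), (6, 0), (7, 0), (1, 1), (2, 0), (0, 0), (4, 1), (5, 1), (8, 0), (9, 0), (8, 1), (3, 0), (7, 1), (10, 0), (0, 1), (2, 1), (10, 1), (9, 1), (11, 0), (11, 1), (6, 1), (3, 1)],
    [(7, [7], []),
    (0, [0], []),
    (6, [12], []),
    (13, List.range 24, [[(1, 0), (1, 1), (2, 0), (0, 0), (3, 0), (0, 1), (2, 1), (3, 1)]]),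
    (1, List.range 24, []),
    (2, List.range 24, [[(1, 0), (4, 0), (5, 0), (0, 0), (4, 1), (5, 1), (3, 0), (2, 1)]]),
    (3, List.range 24, []),
    (4, List.range 24, [[(4, 0), (5, 0), (6, 0), (2, 0), (0, 0), (3, 0), (7, 1), (0, 1)], [(1, 0), (7, 0), (1, 1), (2, 0), (4, 1), (5, 1), (3, 0), (6, 1)]]),
    (10, List.range 24, [[(1, 0), (4, 0), (5, 0), (6, 0), (7, 0), (0, 0), (8, 0), (8, 1)], [(1, 0), (4, 0), (1, 1), (2, 0), (0, 0), (5, 1), (8, 0), (7, 1)]]),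
    (11, List.range 24, [[(4, 0), (5, 0), (6, 0), (7, 0), (1, 1), (4, 1), (9, 0), (3, 0)], [(4, 0), (6, 0), (7, 0), (2, 0), (0, 0), (4, 1), (5, 1), (9, 1)]]),
    (15, List.range 24, [[(4, 0), (5, 0), (2, 0), (0, 0), (4, 1), (8, 0), (9, 0), (10, 0)], [(1, 0), (5, 0), (6, 0), (1, 1), (2, 0), (0, 0), (4, 1), (10, 1)]]),
    (20, List.range 24, [[(5, 0), (7, 0), (1, 1), (0, 0), (4, 1), (5, 1), (8, 0), (11, 0)], [(6, 0), (1, 1), (2, 0), (4, 1), (5, 1), (8, 0), (9, 0), (11, 1)]])]⟩,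
    ⟨13, [(1, 0), (6, 0), (7, 0), (4, 0), (8, 0), (1, 1), (2, 0), (0, 0), (6, 1), (7, 1), (5, 0), (9, 0), (5, 1), (3, 0), (8, 1), (10, 0), (0, 1), (2, 1), (10, 1), (9, 1), (11, 0), (11, 1), (4, 1), (3, 1)],
    [(7, [7], []),
    (0, [0], []),
    (6, [13], []),
    (13, List.range 24, [[(1, 0), (1, 1), (2, 0), (0, 0), (3, 0), (0, 1), (2, 1), (3, 1)]]),
    (3, List.range 24, []),
    (10, List.range 24, [[(1, 0), (4, 0), (1, 1), (2, 0), (5, 0), (5, 1), (2, 1), (4, 1)]]),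
    (1, List.range 24, [[(6, 0), (4, 0), (1, 1), (0, 0), (6, 1), (5, 0), (0, 1), (2, 1)]]),
    (2, List.range 24, [[(1, 0), (7, 0), (4, 0), (1, 1), (7, 1), (5, 0), (3, 0), (0, 1)]]),
    (4, List.range 24, [[(1, 0), (6, 0), (7, 0), (4, 0), (8, 0), (0, 0), (5, 0), (5, 1)], [(1, 0), (6, 0), (1, 1), (2, 0), (0, 0), (7, 1), (5, 0), (8, 1)]]),
    (11, List.range 24, [[(6, 0), (7, 0), (4, 0), (8, 0), (1, 1), (6, 1), (9, 0), (3, 0)], [(6, 0), (4, 0), (8, 0), (2, 0), (0, 0), (6, 1), (7, 1), (9, 1)]]),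
    (15, List.range 24, [[(6, 0), (7, 0), (2, 0), (0, 0), (6, 1), (5, 0), (9, 0), (10, 0)], [(1, 0), (7, 0), (4, 0), (1, 1), (2, 0), (0, 0), (6, 1), (10, 1)]]),
    (20, List.range 24, [[(7, 0), (8, 0), (1, 1), (0, 0), (6, 1), (7, 1), (5, 0), (11, 0)], [(4, 0), (1, 1), (2, 0), (6, 1), (7, 1), (5, 0), (9, 0), (11, 1)]])]⟩,
    ⟨14, [(1, 0), (4, 0), (5, 0), (6, 0), (7, 0), (1, 1), (2, 0), (0, 0), (4, 1), (5, 1), (8, 0), (9, 0), (8, 1), (3, 0), (7, 1), (10, 0), (0, 1), (2, 1), (10, 1), (9, 1), (11, 0), (11, 1), (6, 1), (3, 1)],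
    [(7, [7], []),
    (0, [0], []),
    (6, [14], []),
    (13, List.range 24, [[(1, 0), (1, 1), (2, 0), (0, 0), (3, 0), (0, 1), (2, 1), (3, 1)]]),
    (1, List.range 24, []),
    (2, List.range 24, [[(1, 0), (4, 0), (5, 0), (0, 0), (4, 1), (5, 1), (3, 0), (2, 1)]]),
    (3, List.range 24, []),
    (4, List.range 24, [[(4, 0), (5, 0), (6, 0), (2, 0), (0, 0), (3, 0), (7, 1), (0, 1)], [(1, 0), (7, 0), (1, 1), (2, 0), (4, 1), (5, 1), (3, 0), (6, 1)]]),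
    (10, List.range 24, [[(1, 0), (4, 0), (5, 0), (6, 0), (7, 0), (0, 0), (8, 0), (8, 1)], [(1, 0), (4, 0), (1, 1), (2, 0), (0, 0), (5, 1), (8, 0), (7, 1)]]),
    (11, List.range 24, [[(4, 0), (5, 0), (6, 0), (7, 0), (1, 1), (4, 1), (9, 0), (3, 0)], [(4, 0), (6, 0), (7, 0), (2, 0), (0, 0), (4, 1), (5, 1), (9, 1)]]),
    (15, List.range 24, [[(4, 0), (5, 0), (2, 0), (0, 0), (4, 1), (8, 0), (9, 0), (10, 0)], [(1, 0), (5, 0), (6, 0), (1, 1), (2, 0), (0, 0), (4, 1), (10, 1)]]),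
    (20, List.range 24, [[(5, 0), (7, 0), (1, 1), (0, 0), (4, 1), (5, 1), (8, 0), (11, 0)], [(6, 0), (1, 1), (2, 0), (4, 1), (5, 1), (8, 0), (9, 0), (11, 1)]])]⟩,
    ⟨15, [(1, 0), (4, 0), (5, 0), (6, 0), (7, 0), (1, 1), (2, 0), (0, 0), (4, 1), (5, 1), (8, 0), (9, 0), (8, 1), (3, 0), (7, 1), (10, 0), (0, 1), (2, 1), (10, 1), (9, 1), (11, 0), (11, 1), (6, 1), (3, 1)],
    [(7, [7], []),
    (0, [0], []),
    (6, [15], []),
    (13, List.range 24, [[(1, 0), (1, 1), (2, 0), (0, 0), (3, 0), (0, 1), (2, 1), (3, 1)]]),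
    (1, List.range 24, []),
    (2, List.range 24, [[(1, 0), (4, 0), (5, 0), (0, 0), (4, 1), (5, 1), (3, 0), (2, 1)]]),
    (3, List.range 24, []),
    (4, List.range 24, [[(4, 0), (5, 0), (6, 0), (2, 0), (0, 0), (3, 0), (7, 1), (0, 1)], [(1, 0), (7, 0), (1, 1), (2, 0), (4, 1), (5, 1), (3, 0), (6, 1)]]),
    (10, List.range 24, [[(1, 0), (4, 0), (5, 0), (6, 0), (7, 0), (0, 0), (8, 0), (8, 1)], [(1, 0), (4, 0), (1, 1), (2, 0), (0, 0), (5, 1), (8, 0), (7, 1)]]),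
    (11, List.range 24, [[(4, 0), (5, 0), (6, 0), (7, 0), (1, 1), (4, 1), (9, 0), (3, 0)], [(4, 0), (6, 0), (7, 0), (2, 0), (0, 0), (4, 1), (5, 1), (9, 1)]]),
    (15, List.range 24, [[(4, 0), (5, 0), (2, 0), (0, 0), (4, 1), (8, 0), (9, 0), (10, 0)], [(1, 0), (5, 0), (6, 0), (1, 1), (2, 0), (0, 0), (4, 1), (10, 1)]]),
    (20, List.range 24, [[(5, 0), (7, 0), (1, 1), (0, 0), (4, 1), (5, 1), (8, 0), (11, 0)], [(6, 0), (1, 1), (2, 0), (4, 1), (5, 1), (8, 0), (9, 0), (11, 1)]])]⟩,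
    ⟨18, [(1, 0), (4, 0), (5, 0), (6, 0), (7, 0), (1, 1), (2, 0), (0, 0), (4, 1), (5, 1), (8, 0), (9, 0), (8, 1), (3, 0), (7, 1), (10, 0), (0, 1), (2, 1), (10, 1), (9, 1), (11, 0), (11, 1), (6, 1), (3, 1)],
    [(7, [7], []),
    (0, [0], []),
    (6, [18], []),
    (13, List.range 24, [[(1, 0), (1, 1), (2, 0), (0, 0), (3, 0), (0, 1), (2, 1), (3, 1)]]),
    (1, List.range 24, []),
    (2, List.range 24, [[(1, 0), (4, 0), (5, 0), (0, 0), (4, 1), (5, 1), (3, 0), (2, 1)]]),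
    (3, List.range 24, []),
    (4, List.range 24, [[(4, 0), (5, 0), (6, 0), (2, 0), (0, 0), (3, 0), (7, 1), (0, 1)], [(1, 0), (7, 0), (1, 1), (2, 0), (4, 1), (5, 1), (3, 0), (6, 1)]]),
    (10, List.range 24, [[(1, 0), (4, 0), (5, 0), (6, 0), (7, 0), (0, 0), (8, 0), (8, 1)], [(1, 0), (4, 0), (1, 1), (2, 0), (0, 0), (5, 1), (8, 0), (7, 1)]]),
    (11, List.range 24, [[(4, 0), (5, 0), (6, 0), (7, 0), (1, 1), (4, 1), (9, 0), (3, 0)], [(4, 0), (6, 0), (7, 0), (2, 0), (0, 0), (4, 1), (5, 1), (9, 1)]]),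
    (15, List.range 24, [[(4, 0), (5, 0), (2, 0), (0, 0), (4, 1), (8, 0), (9, 0), (10, 0)], [(1, 0), (5, 0), (6, 0), (1, 1), (2, 0), (0, 0), (4, 1), (10, 1)]]),
    (20, List.range 24, [[(5, 0), (7, 0), (1, 1), (0, 0), (4, 1), (5, 1), (8, 0), (11, 0)], [(6, 0), (1, 1), (2, 0), (4, 1), (5, 1), (8, 0), (9, 0), (11, 1)]])]⟩,
    ⟨19, [(1, 0), (4, 0), (5, 0), (6, 0), (7, 0), (1, 1), (2, 0), (0, 0), (4, 1), (5, 1), (8, 0), (9, 0), (8, 1), (3, 0), (7, 1), (10, 0), (0, 1), (2, 1), (10, 1), (9, 1), (11, 0), (11, 1), (6, 1), (3, 1)],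
    [(7, [7], []),
    (0, [0], []),
    (6, [19], []),
    (13, List.range 24, [[(1, 0), (1, 1), (2, 0), (0, 0), (3, 0), (0, 1), (2, 1), (3, 1)]]),
    (1, List.range 24, []),
    (2, List.range 24, [[(1, 0), (4, 0), (5, 0), (0, 0), (4, 1), (5, 1), (3, 0), (2, 1)]]),
    (3, List.range 24, []),
    (4, List.range 24, [[(4, 0), (5, 0), (6, 0), (2, 0), (0, 0), (3, 0), (7, 1), (0, 1)], [(1, 0), (7, 0), (1, 1), (2, 0), (4, 1), (5, 1), (3, 0), (6, 1)]]),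
    (10, List.range 24, [[(1, 0), (4, 0), (5, 0), (6, 0), (7, 0), (0, 0), (8, 0), (8, 1)], [(1, 0), (4, 0), (1, 1), (2, 0), (0, 0), (5, 1), (8, 0), (7, 1)]]),
    (11, List.range 24, [[(4, 0), (5, 0), (6, 0), (7, 0), (1, 1), (4, 1), (9, 0), (3, 0)], [(4, 0), (6, 0), (7, 0), (2, 0), (0, 0), (4, 1), (5, 1), (9, 1)]]),
    (15, List.range 24, [[(4, 0), (5, 0), (2, 0), (0, 0), (4, 1), (8, 0), (9, 0), (10, 0)], [(1, 0), (5, 0), (6, 0), (1, 1), (2, 0), (0, 0), (4, 1), (10, 1)]]),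
    (20, List.range 24, [[(5, 0), (7, 0), (1, 1), (0, 0), (4, 1), (5, 1), (8, 0), (11, 0)], [(6, 0), (1, 1), (2, 0), (4, 1), (5, 1), (8, 0), (9, 0), (11, 1)]])]⟩,
    ⟨20, [(1, 0), (4, 0), (5, 0), (6, 0), (7, 0), (1, 1), (2, 0), (0, 0), (4, 1), (5, 1), (8, 0), (9, 0), (8, 1), (3, 0), (7, 1), (10, 0), (0, 1), (2, 1), (10, 1), (9, 1), (11, 0), (11, 1), (6, 1), (3, 1)],
    [(7, [7], []),
    (0, [0], []),
    (6, [20], []),
    (13, List.range 24, [[(1, 0), (1, 1), (2, 0), (0, 0), (3, 0), (0, 1), (2, 1), (3, 1)]]),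
    (1, List.range 24, []),
    (2, List.range 24, [[(1, 0), (4, 0), (5, 0), (0, 0), (4, 1), (5, 1), (3, 0), (2, 1)]]),
    (3, List.range 24, []),
    (4, List.range 24, [[(4, 0), (5, 0), (6, 0), (2, 0), (0, 0), (3, 0), (7, 1), (0, 1)], [(1, 0), (7, 0), (1, 1), (2, 0), (4, 1), (5, 1), (3, 0), (6, 1)]]),
    (10, List.range 24, [[(1, 0), (4, 0), (5, 0), (6, 0), (7, 0), (0, 0), (8, 0), (8, 1)], [(1, 0), (4, 0), (1, 1), (2, 0), (0, 0), (5, 1), (8, 0), (7, 1)]]),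
    (11, List.range 24, [[(4, 0), (5, 0), (6, 0), (7, 0), (1, 1), (4, 1), (9, 0), (3, 0)], [(4, 0), (6, 0), (7, 0), (2, 0), (0, 0), (4, 1), (5, 1), (9, 1)]]),
    (15, List.range 24, [[(4, 0), (5, 0), (2, 0), (0, 0), (4, 1), (8, 0), (9, 0), (10, 0)], [(1, 0), (5, 0), (6, 0), (1, 1), (2, 0), (0, 0), (4, 1), (10, 1)]]),
    (20, List.range 24, [[(5, 0), (7, 0), (1, 1), (0, 0), (4, 1), (5, 1), (8, 0), (11, 0)], [(6, 0), (1, 1), (2, 0), (4, 1), (5, 1), (8, 0), (9, 0), (11, 1)]])]⟩,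
    ⟨21, [(1, 0), (4, 0), (5, 0), (6, 0), (7, 0), (1, 1), (2, 0), (0, 0), (4, 1), (5, 1), (8, 0), (9, 0), (8, 1), (3, 0), (7, 1), (10, 0), (0, 1), (2, 1), (10, 1), (9, 1), (11, 0), (11, 1), (6, 1), (3, 1)],
    [(7, [7], []),
    (0, [0], []),
    (6, [21], []),
    (13, List.range 24, [[(1, 0), (1, 1), (2, 0), (0, 0), (3, 0), (0, 1), (2, 1), (3, 1)]]),
    (1, List.range 24, []),
    (2, List.range 24, [[(1, 0), (4, 0), (5, 0), (0, 0), (4, 1), (5, 1), (3, 0), (2, 1)]]),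
    (3, List.range 24, []),
    (4, List.range 24, [[(4, 0), (5, 0), (6, 0), (2, 0), (0, 0), (3, 0), (7, 1), (0, 1)], [(1, 0), (7, 0), (1, 1), (2, 0), (4, 1), (5, 1), (3, 0), (6, 1)]]),
    (10, List.range 24, [[(1, 0), (4, 0), (5, 0), (6, 0), (7, 0), (0, 0), (8, 0), (8, 1)], [(1, 0), (4, 0), (1, 1), (2, 0), (0, 0), (5, 1), (8, 0), (7, 1)]]),
    (11, List.range 24, [[(4, 0), (5, 0), (6, 0), (7, 0), (1, 1), (4, 1), (9, 0), (3, 0)], [(4, 0), (6, 0), (7, 0), (2, 0), (0, 0), (4, 1), (5, 1), (9, 1)]]),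
    (15, List.range 24, [[(4, 0), (5, 0), (2, 0), (0, 0), (4, 1), (8, 0), (9, 0), (10, 0)], [(1, 0), (5, 0), (6, 0), (1, 1), (2, 0), (0, 0), (4, 1), (10, 1)]]),
    (20, List.range 24, [[(5, 0), (7, 0), (1, 1), (0, 0), (4, 1), (5, 1), (8, 0), (11, 0)], [(6, 0), (1, 1), (2, 0), (4, 1), (5, 1), (8, 0), (9, 0), (11, 1)]])]⟩,
    ⟨22, [(1, 0), (4, 0), (5, 0), (6, 0), (7, 0), (1, 1), (2, 0), (0, 0), (4, 1), (5, 1), (8, 0), (9, 0), (8, 1), (3, 0), (7, 1), (10, 0), (0, 1), (2, 1), (10, 1), (9, 1), (11, 0), (11, 1), (6, 1), (3, 1)],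
    [(7, [7], []),
    (0, [0], []),
    (6, [22], []),
    (13, List.range 24, [[(1, 0), (1, 1), (2, 0), (0, 0), (3, 0), (0, 1), (2, 1), (3, 1)]]),
    (1, List.range 24, []),
    (2, List.range 24, [[(1, 0), (4, 0), (5, 0), (0, 0), (4, 1), (5, 1), (3, 0), (2, 1)]]),
    (3, List.range 24, []),
    (4, List.range 24, [[(4, 0), (5, 0), (6, 0), (2, 0), (0, 0), (3, 0), (7, 1), (0, 1)], [(1, 0), (7, 0), (1, 1), (2, 0), (4, 1), (5, 1), (3, 0), (6, 1)]]),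
    (10, List.range 24, [[(1, 0), (4, 0), (5, 0), (6, 0), (7, 0), (0, 0), (8, 0), (8, 1)], [(1, 0), (4, 0), (1, 1), (2, 0), (0, 0), (5, 1), (8, 0), (7, 1)]]),
    (11, List.range 24, [[(4, 0), (5, 0), (6, 0), (7, 0), (1, 1), (4, 1), (9, 0), (3, 0)], [(4, 0), (6, 0), (7, 0), (2, 0), (0, 0), (4, 1), (5, 1), (9, 1)]]),
    (15, List.range 24, [[(4, 0), (5, 0), (2, 0), (0, 0), (4, 1), (8, 0), (9, 0), (10, 0)], [(1, 0), (5, 0), (6, 0), (1, 1), (2, 0), (0, 0), (4, 1), (10, 1)]]),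
    (20, List.range 24, [[(5, 0), (7, 0), (1, 1), (0, 0), (4, 1), (5, 1), (8, 0), (11, 0)], [(6, 0), (1, 1), (2, 0), (4, 1), (5, 1), (8, 0), (9, 0), (11, 1)]])]⟩,
    ⟨23, [(1, 0), (4, 0), (6, 0), (7, 0), (8, 0), (1, 1), (2, 0), (0, 0), (4, 1), (6, 1), (9, 0), (5, 0), (9, 1), (3, 0), (8, 1), (10, 0), (0, 1), (2, 1), (10, 1), (5, 1), (11, 0), (11, 1), (7, 1), (3, 1)],
    [(7, [7], []),
    (0, [0], []),
    (6, [23], []),
    (13, List.range 24, [[(1, 0), (1, 1), (2, 0), (0, 0), (3, 0), (0, 1), (2, 1), (3, 1)]]),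
    (1, List.range 24, []),
    (11, List.range 24, [[(1, 0), (4, 0), (1, 1), (2, 0), (4, 1), (5, 0), (2, 1), (5, 1)]]),
    (2, List.range 24, [[(1, 0), (4, 0), (6, 0), (0, 0), (4, 1), (6, 1), (3, 0), (2, 1)]]),
    (3, List.range 24, [[(1, 0), (4, 0), (6, 0), (7, 0), (2, 0), (6, 1), (5, 0), (7, 1)]]),
    (4, List.range 24, [[(4, 0), (6, 0), (7, 0), (8, 0), (1, 1), (4, 1), (5, 0), (3, 0)], [(8, 0), (1, 1), (2, 0), (0, 0), (4, 1), (5, 0), (8, 1), (0, 1)]]),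
    (10, List.range 24, [[(1, 0), (4, 0), (6, 0), (7, 0), (8, 0), (0, 0), (9, 0), (9, 1)], [(1, 0), (4, 0), (1, 1), (2, 0), (0, 0), (6, 1), (9, 0), (8, 1)]]),
    (15, List.range 24, [[(4, 0), (6, 0), (2, 0), (0, 0), (4, 1), (9, 0), (5, 0), (10, 0)], [(1, 0), (6, 0), (7, 0), (1, 1), (2, 0), (0, 0), (4, 1), (10, 1)]]),
    (20, List.range 24, [[(6, 0), (8, 0), (1, 1), (0, 0), (4, 1), (6, 1), (9, 0), (11, 0)], [(7, 0), (1, 1), (2, 0), (4, 1), (6, 1), (9, 0), (5, 0), (11, 1)]])]⟩]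

def f1_3 : Fib where
  b := 1
  e := [⟨3, [(2, 0), (3, 0), (6, 0), (7, 0), (5, 0), (2, 1), (0, 0), (1, 0), (3, 1), (6, 1), (8, 0), (4, 0), (8, 1), (9, 0), (5, 1), (10, 0), (1, 1), (0, 1), (10, 1), (4, 1), (11, 0), (11, 1), (7, 1), (9, 1)],
    [(6, [6], []),
    (7, [7], []),
    (0, [0], []),
    (1, [3], []),
    (11, List.range 24, [[(2, 0), (3, 0), (2, 1), (0, 0), (3, 1), (4, 0), (0, 1), (4, 1)]]),
    (4, List.range 24, [[(5, 0), (2, 1), (0, 0), (1, 0), (3, 1), (4, 0), (5, 1), (1, 1)]]),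
    (2, List.range 24, []),
    (3, List.range 24, [[(2, 0), (7, 0), (5, 0), (2, 1), (1, 0), (6, 1), (4, 0), (0, 1)], [(2, 0), (3, 0), (6, 0), (7, 0), (0, 0), (6, 1), (4, 0), (7, 1)]]),
    (10, List.range 24, [[(2, 0), (3, 0), (6, 0), (7, 0), (5, 0), (1, 0), (8, 0), (8, 1)], [(2, 0), (3, 0), (2, 1), (0, 0), (1, 0), (6, 1), (8, 0), (5, 1)]]),
    (13, List.range 24, [[(3, 0), (6, 0), (7, 0), (5, 0), (2, 1), (3, 1), (4, 0), (9, 0)], [(2, 0), (6, 0), (5, 0), (2, 1), (0, 0), (8, 0), (4, 0), (9, 1)]]),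
    (15, List.range 24, [[(3, 0), (6, 0), (0, 0), (1, 0), (3, 1), (8, 0), (4, 0), (10, 0)], [(2, 0), (6, 0), (7, 0), (2, 1), (0, 0), (1, 0), (3, 1), (10, 1)]]),
    (20, List.range 24, [[(6, 0), (5, 0), (2, 1), (1, 0), (3, 1), (6, 1), (8, 0), (11, 0)], [(7, 0), (2, 1), (0, 0), (3, 1), (6, 1), (8, 0), (4, 0), (11, 1)]])]⟩,
    ⟨4, [(2, 0), (3, 0), (6, 0), (7, 0), (5, 0), (2, 1), (0, 0), (1, 0), (3, 1), (6, 1), (8, 0), (4, 0), (8, 1), (9, 0), (5, 1), (10, 0), (1, 1), (0, 1), (10, 1), (4, 1), (11, 0), (11, 1), (7, 1), (9, 1)],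
    [(6, [6], []),
    (7, [7], []),
    (0, [0], []),
    (1, [4], []),
    (11, List.range 24, [[(2, 0), (3, 0), (2, 1), (0, 0), (3, 1), (4, 0), (0, 1), (4, 1)]]),
    (4, List.range 24, [[(5, 0), (2, 1), (0, 0), (1, 0), (3, 1), (4, 0), (5, 1), (1, 1)]]),
    (2, List.range 24, []),
    (3, List.range 24, [[(2, 0), (7, 0), (5, 0), (2, 1), (1, 0), (6, 1), (4, 0), (0, 1)], [(2, 0), (3, 0), (6, 0), (7, 0), (0, 0), (6, 1), (4, 0), (7, 1)]]),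
    (10, List.range 24, [[(2, 0), (3, 0), (6, 0), (7, 0), (5, 0), (1, 0), (8, 0), (8, 1)], [(2, 0), (3, 0), (2, 1), (0, 0), (1, 0), (6, 1), (8, 0), (5, 1)]]),
    (13, List.range 24, [[(3, 0), (6, 0), (7, 0), (5, 0), (2, 1), (3, 1), (4, 0), (9, 0)], [(2, 0), (6, 0), (5, 0), (2, 1), (0, 0), (8, 0), (4, 0), (9, 1)]]),
    (15, List.range 24, [[(3, 0), (6, 0), (0, 0), (1, 0), (3, 1), (8, 0), (4, 0), (10, 0)], [(2, 0), (6, 0), (7, 0), (2, 1), (0, 0), (1, 0), (3, 1), (10, 1)]]),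
    (20, List.range 24, [[(6, 0), (5, 0), (2, 1), (1, 0), (3, 1), (6, 1), (8, 0), (11, 0)], [(7, 0), (2, 1), (0, 0), (3, 1), (6, 1), (8, 0), (4, 0), (11, 1)]])]⟩,
    ⟨10, [(2, 0), (3, 0), (5, 0), (6, 0), (7, 0), (2, 1), (0, 0), (1, 0), (3, 1), (5, 1), (8, 0), (9, 0), (8, 1), (4, 0), (7, 1), (10, 0), (1, 1), (0, 1), (10, 1), (9, 1), (11, 0), (11, 1), (6, 1), (4, 1)],
    [(6, [6], []),
    (7, [7], []),
    (0, [0], []),
    (1, [10], []),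
    (13, List.range 24, [[(2, 0), (2, 1), (0, 0), (1, 0), (4, 0), (1, 1), (0, 1), (4, 1)]]),
    (2, List.range 24, [[(2, 0), (3, 0), (5, 0), (1, 0), (3, 1), (5, 1), (4, 0), (0, 1)]]),
    (3, List.range 24, []),
    (4, List.range 24, [[(3, 0), (5, 0), (6, 0), (0, 0), (1, 0), (4, 0), (7, 1), (1, 1)], [(2, 0), (7, 0), (2, 1), (0, 0), (3, 1), (5, 1), (4, 0), (6, 1)]]),
    (10, List.range 24, [[(2, 0), (3, 0), (5, 0), (6, 0), (7, 0), (1, 0), (8, 0), (8, 1)], [(2, 0), (3, 0), (2, 1), (0, 0), (1, 0), (5, 1), (8, 0), (7, 1)]]),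
    (11, List.range 24, [[(3, 0), (5, 0), (6, 0), (7, 0), (2, 1), (3, 1), (9, 0), (4, 0)], [(3, 0), (6, 0), (7, 0), (0, 0), (1, 0), (3, 1), (5, 1), (9, 1)]]),
    (15, List.range 24, [[(3, 0), (5, 0), (0, 0), (1, 0), (3, 1), (8, 0), (9, 0), (10, 0)], [(2, 0), (5, 0), (6, 0), (2, 1), (0, 0), (1, 0), (3, 1), (10, 1)]]),
    (20, List.range 24, [[(5, 0), (7, 0), (2, 1), (1, 0), (3, 1), (5, 1), (8, 0), (11, 0)], [(6, 0), (2, 1), (0, 0), (3, 1), (5, 1), (8, 0), (9, 0), (11, 1)]])]⟩,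
    ⟨12, [(2, 0), (3, 0), (6, 0), (7, 0), (5, 0), (2, 1), (0, 0), (1, 0), (3, 1), (6, 1), (8, 0), (4, 0), (8, 1), (9, 0), (5, 1), (10, 0), (1, 1), (0, 1), (10, 1), (4, 1), (11, 0), (11, 1), (7, 1), (9, 1)],
    [(6, [6], []),
    (7, [7], []),
    (0, [0], []),
    (1, [12], []),
    (11, List.range 24, [[(2, 0), (3, 0), (2, 1), (0, 0), (3, 1), (4, 0), (0, 1), (4, 1)]]),
    (4, List.range 24, [[(5, 0), (2, 1), (0, 0), (1, 0), (3, 1), (4, 0), (5, 1), (1, 1)]]),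
    (2, List.range 24, []),
    (3, List.range 24, [[(2, 0), (7, 0), (5, 0), (2, 1), (1, 0), (6, 1), (4, 0), (0, 1)], [(2, 0), (3, 0), (6, 0), (7, 0), (0, 0), (6, 1), (4, 0), (7, 1)]]),
    (10, List.range 24, [[(2, 0), (3, 0), (6, 0), (7, 0), (5, 0), (1, 0), (8, 0), (8, 1)], [(2, 0), (3, 0), (2, 1), (0, 0), (1, 0), (6, 1), (8, 0), (5, 1)]]),
    (13, List.range 24, [[(3, 0), (6, 0), (7, 0), (5, 0), (2, 1), (3, 1), (4, 0), (9, 0)], [(2, 0), (6, 0), (5, 0), (2, 1), (0, 0), (8, 0), (4, 0), (9, 1)]]),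
    (15, List.range 24, [[(3, 0), (6, 0), (0, 0), (1, 0), (3, 1), (8, 0), (4, 0), (10, 0)], [(2, 0), (6, 0), (7, 0), (2, 1), (0, 0), (1, 0), (3, 1), (10, 1)]]),
    (20, List.range 24, [[(6, 0), (5, 0), (2, 1), (1, 0), (3, 1), (6, 1), (8, 0), (11, 0)], [(7, 0), (2, 1), (0, 0), (3, 1), (6, 1), (8, 0), (4, 0), (11, 1)]])]⟩,
    ⟨13, [(2, 0), (3, 0), (5, 0), (6, 0), (7, 0), (2, 1), (0, 0), (1, 0), (3, 1), (5, 1), (8, 0), (4, 0), (8, 1), (9, 0), (7, 1), (10, 0), (1, 1), (0, 1), (10, 1), (4, 1), (11, 0), (11, 1), (6, 1), (9, 1)],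
    [(6, [6], []),
    (7, [7], []),
    (0, [0], []),
    (1, [13], []),
    (11, List.range 24, [[(2, 0), (3, 0), (2, 1), (0, 0), (3, 1), (4, 0), (0, 1), (4, 1)]]),
    (2, List.range 24, []),
    (3, List.range 24, [[(2, 0), (3, 0), (5, 0), (6, 0), (0, 0), (5, 1), (4, 0), (6, 1)]]),
    (4, List.range 24, [[(7, 0), (2, 1), (0, 0), (1, 0), (3, 1), (4, 0), (7, 1), (1, 1)], [(2, 0), (6, 0), (7, 0), (2, 1), (1, 0), (5, 1), (4, 0), (0, 1)]]),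
    (10, List.range 24, [[(2, 0), (3, 0), (5, 0), (6, 0), (7, 0), (1, 0), (8, 0), (8, 1)], [(2, 0), (3, 0), (2, 1), (0, 0), (1, 0), (5, 1), (8, 0), (7, 1)]]),
    (13, List.range 24, [[(3, 0), (5, 0), (6, 0), (7, 0), (2, 1), (3, 1), (4, 0), (9, 0)], [(2, 0), (5, 0), (7, 0), (2, 1), (0, 0), (8, 0), (4, 0), (9, 1)]]),
    (15, List.range 24, [[(3, 0), (5, 0), (0, 0), (1, 0), (3, 1), (8, 0), (4, 0), (10, 0)], [(2, 0), (5, 0), (6, 0), (2, 1), (0, 0), (1, 0), (3, 1), (10, 1)]]),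
    (20, List.range 24, [[(5, 0), (7, 0), (2, 1), (1, 0), (3, 1), (5, 1), (8, 0), (11, 0)], [(6, 0), (2, 1), (0, 0), (3, 1), (5, 1), (8, 0), (4, 0), (11, 1)]])]⟩,
    ⟨14, [(2, 0), (3, 0), (5, 0), (6, 0), (7, 0), (2, 1), (0, 0), (1, 0), (3, 1), (5, 1), (8, 0), (9, 0), (8, 1), (4, 0), (7, 1), (10, 0), (1, 1), (0, 1), (10, 1), (9, 1), (11, 0), (11, 1), (6, 1), (4, 1)],
    [(6, [6], []),
    (7, [7], []),
    (0, [0], []),
    (1, [14], []),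
    (13, List.range 24, [[(2, 0), (2, 1), (0, 0), (1, 0), (4, 0), (1, 1), (0, 1), (4, 1)]]),
    (2, List.range 24, [[(2, 0), (3, 0), (5, 0), (1, 0), (3, 1), (5, 1), (4, 0), (0, 1)]]),
    (3, List.range 24, []),
    (4, List.range 24, [[(3, 0), (5, 0), (6, 0), (0, 0), (1, 0), (4, 0), (7, 1), (1, 1)], [(2, 0), (7, 0), (2, 1), (0, 0), (3, 1), (5, 1), (4, 0), (6, 1)]]),
    (10, List.range 24, [[(2, 0), (3, 0), (5, 0), (6, 0), (7, 0), (1, 0), (8, 0), (8, 1)], [(2, 0), (3, 0), (2, 1), (0, 0), (1, 0), (5, 1), (8, 0), (7, 1)]]),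
    (11, List.range 24, [[(3, 0), (5, 0), (6, 0), (7, 0), (2, 1), (3, 1), (9, 0), (4, 0)], [(3, 0), (6, 0), (7, 0), (0, 0), (1, 0), (3, 1), (5, 1), (9, 1)]]),
    (15, List.range 24, [[(3, 0), (5, 0), (0, 0), (1, 0), (3, 1), (8, 0), (9, 0), (10, 0)], [(2, 0), (5, 0), (6, 0), (2, 1), (0, 0), (1, 0), (3, 1), (10, 1)]]),
    (20, List.range 24, [[(5, 0), (7, 0), (2, 1), (1, 0), (3, 1), (5, 1), (8, 0), (11, 0)], [(6, 0), (2, 1), (0, 0), (3, 1), (5, 1), (8, 0), (9, 0), (11, 1)]])]⟩,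
    ⟨15, [(2, 0), (3, 0), (6, 0), (7, 0), (5, 0), (2, 1), (0, 0), (1, 0), (3, 1), (6, 1), (8, 0), (4, 0), (8, 1), (9, 0), (5, 1), (10, 0), (1, 1), (0, 1), (10, 1), (4, 1), (11, 0), (11, 1), (7, 1), (9, 1)],
    [(6, [6], []),
    (7, [7], []),
    (0, [0], []),
    (1, [15], []),
    (11, List.range 24, [[(2, 0), (3, 0), (2, 1), (0, 0), (3, 1), (4, 0), (0, 1), (4, 1)]]),
    (4, List.range 24, [[(5, 0), (2, 1), (0, 0), (1, 0), (3, 1), (4, 0), (5, 1), (1, 1)]]),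
    (2, List.range 24, []),
    (3, List.range 24, [[(2, 0), (7, 0), (5, 0), (2, 1), (1, 0), (6, 1), (4, 0), (0, 1)], [(2, 0), (3, 0), (6, 0), (7, 0), (0, 0), (6, 1), (4, 0), (7, 1)]]),
    (10, List.range 24, [[(2, 0), (3, 0), (6, 0), (7, 0), (5, 0), (1, 0), (8, 0), (8, 1)], [(2, 0), (3, 0), (2, 1), (0, 0), (1, 0), (6, 1), (8, 0), (5, 1)]]),
    (13, List.range 24, [[(3, 0), (6, 0), (7, 0), (5, 0), (2, 1), (3, 1), (4, 0), (9, 0)], [(2, 0), (6, 0), (5, 0), (2, 1), (0, 0), (8, 0), (4, 0), (9, 1)]]),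
    (15, List.range 24, [[(3, 0), (6, 0), (0, 0), (1, 0), (3, 1), (8, 0), (4, 0), (10, 0)], [(2, 0), (6, 0), (7, 0), (2, 1), (0, 0), (1, 0), (3, 1), (10, 1)]]),
    (20, List.range 24, [[(6, 0), (5, 0), (2, 1), (1, 0), (3, 1), (6, 1), (8, 0), (11, 0)], [(7, 0), (2, 1), (0, 0), (3, 1), (6, 1), (8, 0), (4, 0), (11, 1)]])]⟩,
    ⟨18, [(2, 0), (3, 0), (5, 0), (6, 0), (7, 0), (2, 1), (0, 0), (1, 0), (3, 1), (5, 1), (8, 0), (9, 0), (8, 1), (4, 0), (7, 1), (10, 0), (1, 1), (0, 1), (10, 1), (9, 1), (11, 0), (11, 1), (6, 1), (4, 1)],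
    [(6, [6], []),
    (7, [7], []),
    (0, [0], []),
    (1, [18], []),
    (13, List.range 24, [[(2, 0), (2, 1), (0, 0), (1, 0), (4, 0), (1, 1), (0, 1), (4, 1)]]),
    (2, List.range 24, [[(2, 0), (3, 0), (5, 0), (1, 0), (3, 1), (5, 1), (4, 0), (0, 1)]]),
    (3, List.range 24, []),
    (4, List.range 24, [[(3, 0), (5, 0), (6, 0), (0, 0), (1, 0), (4, 0), (7, 1), (1, 1)], [(2, 0), (7, 0), (2, 1), (0, 0), (3, 1), (5, 1), (4, 0), (6, 1)]]),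
    (10, List.range 24, [[(2, 0), (3, 0), (5, 0), (6, 0), (7, 0), (1, 0), (8, 0), (8, 1)], [(2, 0), (3, 0), (2, 1), (0, 0), (1, 0), (5, 1), (8, 0), (7, 1)]]),
    (11, List.range 24, [[(3, 0), (5, 0), (6, 0), (7, 0), (2, 1), (3, 1), (9, 0), (4, 0)], [(3, 0), (6, 0), (7, 0), (0, 0), (1, 0), (3, 1), (5, 1), (9, 1)]]),
    (15, List.range 24, [[(3, 0), (5, 0), (0, 0), (1, 0), (3, 1), (8, 0), (9, 0), (10, 0)], [(2, 0), (5, 0), (6, 0), (2, 1), (0, 0), (1, 0), (3, 1), (10, 1)]]),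
    (20, List.range 24, [[(5, 0), (7, 0), (2, 1), (1, 0), (3, 1), (5, 1), (8, 0), (11, 0)], [(6, 0), (2, 1), (0, 0), (3, 1), (5, 1), (8, 0), (9, 0), (11, 1)]])]⟩,
    ⟨22, [(2, 0), (3, 0), (5, 0), (6, 0), (7, 0), (2, 1), (0, 0), (1, 0), (3, 1), (5, 1), (8, 0), (9, 0), (8, 1), (4, 0), (7, 1), (10, 0), (1, 1), (0, 1), (10, 1), (9, 1), (11, 0), (11, 1), (6, 1), (4, 1)],
    [(6, [6], []),
    (7, [7], []),
    (0, [0], []),
    (1, [22], []),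
    (13, List.range 24, [[(2, 0), (2, 1), (0, 0), (1, 0), (4, 0), (1, 1), (0, 1), (4, 1)]]),
    (2, List.range 24, [[(2, 0), (3, 0), (5, 0), (1, 0), (3, 1), (5, 1), (4, 0), (0, 1)]]),
    (3, List.range 24, []),
    (4, List.range 24, [[(3, 0), (5, 0), (6, 0), (0, 0), (1, 0), (4, 0), (7, 1), (1, 1)], [(2, 0), (7, 0), (2, 1), (0, 0), (3, 1), (5, 1), (4, 0), (6, 1)]]),
    (10, List.range 24, [[(2, 0), (3, 0), (5, 0), (6, 0), (7, 0), (1, 0), (8, 0), (8, 1)], [(2, 0), (3, 0), (2, 1), (0, 0), (1, 0), (5, 1), (8, 0), (7, 1)]]),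
    (11, List.range 24, [[(3, 0), (5, 0), (6, 0), (7, 0), (2, 1), (3, 1), (9, 0), (4, 0)], [(3, 0), (6, 0), (7, 0), (0, 0), (1, 0), (3, 1), (5, 1), (9, 1)]]),
    (15, List.range 24, [[(3, 0), (5, 0), (0, 0), (1, 0), (3, 1), (8, 0), (9, 0), (10, 0)], [(2, 0), (5, 0), (6, 0), (2, 1), (0, 0), (1, 0), (3, 1), (10, 1)]]),
    (20, List.range 24, [[(5, 0), (7, 0), (2, 1), (1, 0), (3, 1), (5, 1), (8, 0), (11, 0)], [(6, 0), (2, 1), (0, 0), (3, 1), (5, 1), (8, 0), (9, 0), (11, 1)]])]⟩,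
    ⟨23, [(2, 0), (3, 0), (5, 0), (6, 0), (7, 0), (2, 1), (0, 0), (1, 0), (3, 1), (5, 1), (8, 0), (4, 0), (8, 1), (9, 0), (7, 1), (10, 0), (1, 1), (0, 1), (10, 1), (4, 1), (11, 0), (11, 1), (6, 1), (9, 1)],
    [(6, [6], []),
    (7, [7], []),
    (0, [0], []),
    (1, [23], []),
    (11, List.range 24, [[(2, 0), (3, 0), (2, 1), (0, 0), (3, 1), (4, 0), (0, 1), (4, 1)]]),
    (2, List.range 24, []),
    (3, List.range 24, [[(2, 0), (3, 0), (5, 0), (6, 0), (0, 0), (5, 1), (4, 0), (6, 1)]]),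
    (4, List.range 24, [[(7, 0), (2, 1), (0, 0), (1, 0), (3, 1), (4, 0), (7, 1), (1, 1)], [(2, 0), (6, 0), (7, 0), (2, 1), (1, 0), (5, 1), (4, 0), (0, 1)]]),
    (10, List.range 24, [[(2, 0), (3, 0), (5, 0), (6, 0), (7, 0), (1, 0), (8, 0), (8, 1)], [(2, 0), (3, 0), (2, 1), (0, 0), (1, 0), (5, 1), (8, 0), (7, 1)]]),
    (13, List.range 24, [[(3, 0), (5, 0), (6, 0), (7, 0), (2, 1), (3, 1), (4, 0), (9, 0)], [(2, 0), (5, 0), (7, 0), (2, 1), (0, 0), (8, 0), (4, 0), (9, 1)]]),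
    (15, List.range 24, [[(3, 0), (5, 0), (0, 0), (1, 0), (3, 1), (8, 0), (4, 0), (10, 0)], [(2, 0), (5, 0), (6, 0), (2, 1), (0, 0), (1, 0), (3, 1), (10, 1)]]),
    (20, List.range 24, [[(5, 0), (7, 0), (2, 1), (1, 0), (3, 1), (5, 1), (8, 0), (11, 0)], [(6, 0), (2, 1), (0, 0), (3, 1), (5, 1), (8, 0), (4, 0), (11, 1)]])]⟩]

def r1 : Rec where
  p := 2
  c := 544731467543530313478419418836575493
  a := 554521857895563773173645459245306258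
  b := 729895948495487990452396838237195725
  t := [544731467543530313478419418836575493, 984818244535754528103549039458486304, 984818244535754528103549039458486304, 984818244535754528103549039458486304]
  wd := [(3, 0), (0, 0), (7, 0), (10, 0), (11, 0), (3, 1), (1, 0), (2, 0), (0, 1), (7, 1), (8, 0), (6, 0), (8, 1), (4, 0), (11, 1), (9, 0), (2, 1), (1, 1), (9, 1), (6, 1), (5, 0), (5, 1), (10, 1), (4, 1)]
  sts := [(1, [1], []),
    (6, [6], []),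
    (7, [7], []),
    (0, [0], []),
    (13, List.range 24, [[(3, 0), (3, 1), (1, 0), (2, 0), (4, 0), (2, 1), (1, 1), (4, 1)]]),
    (20, List.range 24, [[(0, 0), (3, 1), (1, 0), (2, 0), (0, 1), (4, 0), (5, 0), (5, 1)]]),
    (11, List.range 24, [[(3, 0), (0, 0), (3, 1), (1, 0), (0, 1), (6, 0), (1, 1), (6, 1)]]),
    (2, List.range 24, [[(3, 0), (0, 0), (7, 0), (2, 0), (0, 1), (7, 1), (4, 0), (1, 1)], [(3, 0), (0, 0), (7, 0), (3, 1), (2, 0), (6, 0), (2, 1), (5, 0)]]),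
    (10, List.range 24, [[(3, 0), (3, 1), (2, 0), (0, 1), (8, 0), (6, 0), (8, 1), (4, 0)]]),
    (15, List.range 24, [[(0, 0), (7, 0), (1, 0), (2, 0), (0, 1), (8, 0), (6, 0), (9, 0)], [(3, 0), (3, 1), (1, 0), (7, 1), (6, 0), (8, 1), (2, 1), (9, 1)]]),
    (3, List.range 24, [[(7, 0), (10, 0), (2, 0), (0, 1), (7, 1), (6, 0), (8, 1), (2, 1)], [(3, 0), (0, 0), (7, 0), (10, 0), (1, 0), (7, 1), (6, 0), (10, 1)]]),
    (4, List.range 24, [[(3, 0), (0, 0), (7, 0), (10, 0), (11, 0), (2, 0), (8, 0), (8, 1)], [(3, 0), (0, 0), (3, 1), (1, 0), (2, 0), (7, 1), (8, 0), (11, 1)]])]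
  fib := [f1_0, f1_1, f1_2, f1_3]
  n := 7680

def f2_0 : Fib where
  b := 1
  e := []

def f2_1 : Fib where
  b := 4
  e := []

def r2 : Rec where
  p := 3
  c := 693793083484272819170454468079749312
  a := 28814073378818928619382926673594891
  b := 275851585736649127260752591860358222
  t := [818417711753696974483914894103088416, 195575887210732589298578593227541696, 984818244535754528103549039458486304, 984818244535754528103549039458486304]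
  wd := [(4, 0), (1, 0), (10, 0), (3, 0), (0, 0), (8, 0), (1, 1), (0, 2), (2, 0), (1, 2), (6, 0), (9, 0), (7, 0), (7, 1), (7, 2), (5, 0), (8, 2), (6, 1), (5, 1), (0, 1), (6, 2), (5, 2), (11, 0), (8, 1)]
  sts := [(4, [4], []),
    (1, [1], []),
    (8, List.range 24, []),
    (3, List.range 24, [[(1, 0), (3, 0), (0, 0), (1, 1), (0, 2), (2, 0), (1, 2), (0, 1)]]),
    (0, List.range 24, []),
    (15, List.range 24, [[(4, 0), (1, 0), (1, 1), (2, 0), (1, 2), (5, 0), (5, 1), (5, 2)]]),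
    (10, List.range 24, [[(1, 0), (0, 0), (0, 2), (1, 2), (6, 0), (5, 0), (6, 1), (5, 1)], [(4, 0), (1, 0), (3, 0), (1, 1), (0, 2), (5, 0), (6, 1), (6, 2)]]),
    (12, List.range 24, [[(4, 0), (1, 0), (3, 0), (0, 0), (1, 2), (7, 1), (7, 2), (5, 0)], [(3, 0), (0, 0), (2, 0), (1, 2), (6, 0), (7, 0), (7, 1), (6, 1)]]),
    (5, List.range 24, [[(4, 0), (1, 0), (8, 0), (1, 1), (0, 2), (1, 2), (6, 0), (7, 2)], [(1, 0), (0, 0), (8, 0), (0, 2), (1, 2), (7, 0), (7, 1), (8, 2)], [(4, 0), (1, 0), (3, 0), (1, 1), (2, 0), (6, 0), (7, 1), (8, 1)]]),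
    (11, List.range 24, [[(4, 0), (8, 0), (0, 2), (2, 0), (6, 0), (9, 0), (7, 0), (7, 1)]]),
    (2, List.range 24, [[(4, 0), (1, 0), (10, 0), (3, 0), (0, 0), (0, 2), (6, 0), (7, 0)]]),
    (22, List.range 24, [[(4, 0), (1, 0), (10, 0), (3, 0), (1, 1), (1, 2), (9, 0), (11, 0)]])]
  fib := [f2_0, f2_1]
  n := 1080

def f3_0 : Fib where
  b := 0
  e := []

def f3_1 : Fib where
  b := 1
  e := [⟨3, [(0, 0), (1, 0), (2, 0), (4, 0), (1, 2), (0, 1), (0, 2), (3, 0), (4, 1), (5, 0), (6, 0), (7, 0), (4, 2), (5, 1), (6, 2), (5, 2), (7, 2), (3, 2), (6, 1), (1, 1), (7, 1), (3, 1), (2, 2), (2, 1)],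
    [(0, [0], []),
    (1, [3], []),
    (2, List.range 24, []),
    (7, List.range 24, [[(1, 0), (2, 0), (1, 2), (0, 1), (0, 2), (3, 0), (3, 2), (2, 2)], [(0, 0), (1, 0), (2, 0), (0, 2), (3, 0), (1, 1), (3, 1), (2, 1)]]),
    (3, List.range 24, [[(1, 0), (2, 0), (4, 0), (0, 2), (4, 1), (4, 2), (3, 2), (3, 1)]]),
    (9, List.range 24, [[(0, 0), (1, 0), (2, 0), (0, 1), (0, 2), (4, 2), (5, 1), (5, 2)], [(0, 0), (1, 0), (2, 0), (3, 0), (4, 1), (5, 0), (5, 1), (3, 2)], [(1, 0), (4, 0), (1, 2), (0, 2), (3, 0), (4, 1), (5, 0), (1, 1)]]),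
    (10, List.range 24, [[(0, 0), (1, 0), (2, 0), (4, 0), (1, 2), (3, 0), (6, 0), (4, 2)], [(0, 0), (1, 0), (0, 1), (0, 2), (3, 0), (5, 0), (6, 0), (6, 2)], [(0, 0), (2, 0), (4, 0), (0, 1), (0, 2), (3, 0), (4, 1), (6, 1)]]),
    (11, List.range 24, [[(1, 0), (2, 0), (4, 0), (1, 2), (0, 1), (4, 1), (7, 0), (5, 1)], [(0, 0), (1, 0), (1, 2), (4, 1), (5, 0), (6, 0), (7, 0), (7, 2)], [(2, 0), (1, 2), (0, 1), (3, 0), (4, 1), (5, 0), (6, 0), (7, 1)]])]⟩,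
    ⟨4, [(0, 0), (1, 0), (3, 0), (4, 0), (1, 2), (0, 1), (0, 2), (2, 0), (4, 1), (5, 0), (6, 0), (7, 0), (4, 2), (5, 1), (6, 2), (5, 2), (7, 2), (2, 2), (6, 1), (1, 1), (7, 1), (2, 1), (3, 2), (3, 1)],
    [(0, [0], []),
    (1, [4], []),
    (7, List.range 24, []),
    (2, List.range 24, [[(1, 0), (3, 0), (1, 2), (0, 1), (0, 2), (2, 0), (2, 2), (3, 2)], [(0, 0), (1, 0), (3, 0), (0, 2), (2, 0), (1, 1), (2, 1), (3, 1)]]),
    (3, List.range 24, [[(1, 0), (3, 0), (4, 0), (0, 2), (4, 1), (4, 2), (2, 2), (2, 1)]]),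
    (9, List.range 24, [[(0, 0), (1, 0), (3, 0), (0, 1), (0, 2), (4, 2), (5, 1), (5, 2)], [(0, 0), (1, 0), (3, 0), (2, 0), (4, 1), (5, 0), (5, 1), (2, 2)], [(1, 0), (4, 0), (1, 2), (0, 2), (2, 0), (4, 1), (5, 0), (1, 1)]]),
    (10, List.range 24, [[(0, 0), (1, 0), (3, 0), (4, 0), (1, 2), (2, 0), (6, 0), (4, 2)], [(0, 0), (1, 0), (0, 1), (0, 2), (2, 0), (5, 0), (6, 0), (6, 2)], [(0, 0), (3, 0), (4, 0), (0, 1), (0, 2), (2, 0), (4, 1), (6, 1)]]),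
    (11, List.range 24, [[(1, 0), (3, 0), (4, 0), (1, 2), (0, 1), (4, 1), (7, 0), (5, 1)], [(0, 0), (1, 0), (1, 2), (4, 1), (5, 0), (6, 0), (7, 0), (7, 2)], [(3, 0), (1, 2), (0, 1), (2, 0), (4, 1), (5, 0), (6, 0), (7, 1)]])]⟩,
    ⟨8, [(0, 0), (1, 0), (2, 0), (4, 0), (1, 2), (0, 1), (0, 2), (3, 0), (4, 1), (5, 0), (6, 0), (7, 0), (4, 2), (5, 1), (6, 2), (5, 2), (7, 2), (3, 2), (6, 1), (1, 1), (7, 1), (3, 1), (2, 2), (2, 1)],
    [(0, [0], []),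
    (1, [8], []),
    (2, List.range 24, []),
    (7, List.range 24, [[(1, 0), (2, 0), (1, 2), (0, 1), (0, 2), (3, 0), (3, 2), (2, 2)], [(0, 0), (1, 0), (2, 0), (0, 2), (3, 0), (1, 1), (3, 1), (2, 1)]]),
    (3, List.range 24, [[(1, 0), (2, 0), (4, 0), (0, 2), (4, 1), (4, 2), (3, 2), (3, 1)]]),
    (9, List.range 24, [[(0, 0), (1, 0), (2, 0), (0, 1), (0, 2), (4, 2), (5, 1), (5, 2)], [(0, 0), (1, 0), (2, 0), (3, 0), (4, 1), (5, 0), (5, 1), (3, 2)], [(1, 0), (4, 0), (1, 2), (0, 2), (3, 0), (4, 1), (5, 0), (1, 1)]]),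
    (10, List.range 24, [[(0, 0), (1, 0), (2, 0), (4, 0), (1, 2), (3, 0), (6, 0), (4, 2)], [(0, 0), (1, 0), (0, 1), (0, 2), (3, 0), (5, 0), (6, 0), (6, 2)], [(0, 0), (2, 0), (4, 0), (0, 1), (0, 2), (3, 0), (4, 1), (6, 1)]]),
    (11, List.range 24, [[(1, 0), (2, 0), (4, 0), (1, 2), (0, 1), (4, 1), (7, 0), (5, 1)], [(0, 0), (1, 0), (1, 2), (4, 1), (5, 0), (6, 0), (7, 0), (7, 2)], [(2, 0), (1, 2), (0, 1), (3, 0), (4, 1), (5, 0), (6, 0), (7, 1)]])]⟩,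
    ⟨10, [(0, 0), (1, 0), (3, 0), (4, 0), (1, 2), (0, 1), (0, 2), (2, 0), (4, 1), (5, 0), (6, 0), (7, 0), (4, 2), (5, 1), (6, 2), (5, 2), (7, 2), (2, 2), (6, 1), (1, 1), (7, 1), (2, 1), (3, 2), (3, 1)],
    [(0, [0], []),
    (1, [10], []),
    (7, List.range 24, []),
    (2, List.range 24, [[(1, 0), (3, 0), (1, 2), (0, 1), (0, 2), (2, 0), (2, 2), (3, 2)], [(0, 0), (1, 0), (3, 0), (0, 2), (2, 0), (1, 1), (2, 1), (3, 1)]]),
    (3, List.range 24, [[(1, 0), (3, 0), (4, 0), (0, 2), (4, 1), (4, 2), (2, 2), (2, 1)]]),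
    (9, List.range 24, [[(0, 0), (1, 0), (3, 0), (0, 1), (0, 2), (4, 2), (5, 1), (5, 2)], [(0, 0), (1, 0), (3, 0), (2, 0), (4, 1), (5, 0), (5, 1), (2, 2)], [(1, 0), (4, 0), (1, 2), (0, 2), (2, 0), (4, 1), (5, 0), (1, 1)]]),
    (10, List.range 24, [[(0, 0), (1, 0), (3, 0), (4, 0), (1, 2), (2, 0), (6, 0), (4, 2)], [(0, 0), (1, 0), (0, 1), (0, 2), (2, 0), (5, 0), (6, 0), (6, 2)], [(0, 0), (3, 0), (4, 0), (0, 1), (0, 2), (2, 0), (4, 1), (6, 1)]]),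
    (11, List.range 24, [[(1, 0), (3, 0), (4, 0), (1, 2), (0, 1), (4, 1), (7, 0), (5, 1)], [(0, 0), (1, 0), (1, 2), (4, 1), (5, 0), (6, 0), (7, 0), (7, 2)], [(3, 0), (1, 2), (0, 1), (2, 0), (4, 1), (5, 0), (6, 0), (7, 1)]])]⟩,
    ⟨11, [(0, 0), (1, 0), (4, 0), (2, 0), (1, 2), (0, 1), (0, 2), (5, 0), (2, 1), (6, 0), (3, 0), (7, 0), (2, 2), (6, 1), (3, 2), (6, 2), (7, 2), (5, 2), (3, 1), (1, 1), (7, 1), (5, 1), (4, 2), (4, 1)],
    [(0, [0], []),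
    (1, [11], []),
    (3, List.range 24, []),
    (10, List.range 24, [[(1, 0), (1, 2), (0, 1), (0, 2), (2, 1), (3, 0), (2, 2), (3, 1)], [(0, 0), (2, 0), (1, 2), (0, 1), (2, 1), (3, 0), (3, 2), (1, 1)]]),
    (2, List.range 24, [[(1, 0), (4, 0), (0, 2), (3, 0), (2, 2), (3, 2), (4, 2), (4, 1)]]),
    (7, List.range 24, [[(0, 0), (1, 0), (4, 0), (2, 0), (1, 2), (5, 0), (3, 0), (2, 2)], [(0, 0), (1, 2), (0, 2), (5, 0), (2, 1), (3, 0), (5, 2), (5, 1)], [(1, 0), (4, 0), (1, 2), (0, 1), (0, 2), (5, 0), (5, 2), (4, 2)]]),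
    (9, List.range 24, [[(0, 0), (1, 0), (0, 1), (0, 2), (5, 0), (6, 0), (3, 0), (3, 2)], [(2, 0), (1, 2), (0, 1), (0, 2), (5, 0), (3, 0), (6, 1), (6, 2)], [(0, 0), (1, 0), (4, 0), (5, 0), (2, 1), (6, 0), (6, 1), (5, 2)]]),
    (11, List.range 24, [[(1, 0), (4, 0), (2, 0), (1, 2), (0, 1), (2, 1), (7, 0), (6, 1)], [(0, 0), (1, 0), (1, 2), (2, 1), (6, 0), (3, 0), (7, 0), (7, 2)], [(4, 0), (1, 2), (0, 1), (5, 0), (2, 1), (6, 0), (3, 0), (7, 1)]])]⟩,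
    ⟨13, [(0, 0), (1, 0), (3, 0), (4, 0), (1, 2), (0, 1), (0, 2), (2, 0), (4, 1), (5, 0), (6, 0), (7, 0), (4, 2), (5, 1), (6, 2), (5, 2), (7, 2), (2, 2), (6, 1), (1, 1), (7, 1), (2, 1), (3, 2), (3, 1)],
    [(0, [0], []),
    (1, [13], []),
    (7, List.range 24, []),
    (2, List.range 24, [[(1, 0), (3, 0), (1, 2), (0, 1), (0, 2), (2, 0), (2, 2), (3, 2)], [(0, 0), (1, 0), (3, 0), (0, 2), (2, 0), (1, 1), (2, 1), (3, 1)]]),
    (3, List.range 24, [[(1, 0), (3, 0), (4, 0), (0, 2), (4, 1), (4, 2), (2, 2), (2, 1)]]),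
    (9, List.range 24, [[(0, 0), (1, 0), (3, 0), (0, 1), (0, 2), (4, 2), (5, 1), (5, 2)], [(0, 0), (1, 0), (3, 0), (2, 0), (4, 1), (5, 0), (5, 1), (2, 2)], [(1, 0), (4, 0), (1, 2), (0, 2), (2, 0), (4, 1), (5, 0), (1, 1)]]),
    (10, List.range 24, [[(0, 0), (1, 0), (3, 0), (4, 0), (1, 2), (2, 0), (6, 0), (4, 2)], [(0, 0), (1, 0), (0, 1), (0, 2), (2, 0), (5, 0), (6, 0), (6, 2)], [(0, 0), (3, 0), (4, 0), (0, 1), (0, 2), (2, 0), (4, 1), (6, 1)]]),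
    (11, List.range 24, [[(1, 0), (3, 0), (4, 0), (1, 2), (0, 1), (4, 1), (7, 0), (5, 1)], [(0, 0), (1, 0), (1, 2), (4, 1), (5, 0), (6, 0), (7, 0), (7, 2)], [(3, 0), (1, 2), (0, 1), (2, 0), (4, 1), (5, 0), (6, 0), (7, 1)]])]⟩,
    ⟨14, [(0, 0), (1, 0), (4, 0), (5, 0), (1, 2), (0, 1), (0, 2), (6, 0), (5, 1), (2, 0), (7, 0), (3, 0), (5, 2), (2, 1), (7, 2), (2, 2), (3, 2), (6, 2), (7, 1), (1, 1), (3, 1), (6, 1), (4, 2), (4, 1)],
    [(0, [0], []),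
    (1, [14], []),
    (9, List.range 24, []),
    (11, List.range 24, [[(0, 0), (1, 2), (0, 1), (3, 0), (2, 1), (2, 2), (3, 2), (1, 1)], [(1, 0), (1, 2), (0, 1), (0, 2), (2, 0), (3, 0), (2, 2), (3, 1)]]),
    (2, List.range 24, [[(0, 0), (1, 0), (4, 0), (1, 2), (2, 1), (3, 2), (4, 2), (4, 1)]]),
    (3, List.range 24, [[(1, 0), (4, 0), (5, 0), (1, 2), (0, 1), (5, 1), (3, 0), (2, 1)], [(0, 0), (5, 0), (1, 2), (0, 2), (5, 1), (3, 0), (5, 2), (2, 2)], [(0, 0), (1, 0), (4, 0), (5, 0), (0, 2), (2, 0), (3, 0), (4, 2)]]),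
    (7, List.range 24, [[(4, 0), (5, 0), (6, 0), (5, 1), (2, 0), (3, 0), (5, 2), (3, 2)], [(0, 0), (5, 0), (1, 2), (0, 1), (6, 0), (2, 0), (3, 0), (6, 2)], [(0, 0), (5, 0), (0, 2), (6, 0), (2, 0), (5, 2), (2, 1), (6, 1)]]),
    (10, List.range 24, [[(0, 0), (1, 0), (4, 0), (5, 0), (1, 2), (6, 0), (7, 0), (5, 2)], [(0, 0), (1, 0), (0, 1), (0, 2), (6, 0), (2, 0), (7, 0), (7, 2)], [(0, 0), (4, 0), (5, 0), (0, 1), (0, 2), (6, 0), (5, 1), (7, 1)]])]⟩,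
    ⟨15, [(0, 0), (1, 0), (3, 0), (4, 0), (1, 2), (0, 1), (0, 2), (2, 0), (4, 1), (5, 0), (6, 0), (7, 0), (4, 2), (5, 1), (6, 2), (5, 2), (7, 2), (2, 2), (6, 1), (1, 1), (7, 1), (2, 1), (3, 2), (3, 1)],
    [(0, [0], []),
    (1, [15], []),
    (7, List.range 24, []),
    (2, List.range 24, [[(1, 0), (3, 0), (1, 2), (0, 1), (0, 2), (2, 0), (2, 2), (3, 2)], [(0, 0), (1, 0), (3, 0), (0, 2), (2, 0), (1, 1), (2, 1), (3, 1)]]),
    (3, List.range 24, [[(1, 0), (3, 0), (4, 0), (0, 2), (4, 1), (4, 2), (2, 2), (2, 1)]]),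
    (9, List.range 24, [[(0, 0), (1, 0), (3, 0), (0, 1), (0, 2), (4, 2), (5, 1), (5, 2)], [(0, 0), (1, 0), (3, 0), (2, 0), (4, 1), (5, 0), (5, 1), (2, 2)], [(1, 0), (4, 0), (1, 2), (0, 2), (2, 0), (4, 1), (5, 0), (1, 1)]]),
    (10, List.range 24, [[(0, 0), (1, 0), (3, 0), (4, 0), (1, 2), (2, 0), (6, 0), (4, 2)], [(0, 0), (1, 0), (0, 1), (0, 2), (2, 0), (5, 0), (6, 0), (6, 2)], [(0, 0), (3, 0), (4, 0), (0, 1), (0, 2), (2, 0), (4, 1), (6, 1)]]),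
    (11, List.range 24, [[(1, 0), (3, 0), (4, 0), (1, 2), (0, 1), (4, 1), (7, 0), (5, 1)], [(0, 0), (1, 0), (1, 2), (4, 1), (5, 0), (6, 0), (7, 0), (7, 2)], [(3, 0), (1, 2), (0, 1), (2, 0), (4, 1), (5, 0), (6, 0), (7, 1)]])]⟩,
    ⟨16, [(0, 0), (1, 0), (2, 0), (4, 0), (1, 2), (0, 1), (0, 2), (3, 0), (4, 1), (5, 0), (6, 0), (7, 0), (4, 2), (5, 1), (6, 2), (5, 2), (7, 2), (3, 2), (6, 1), (1, 1), (7, 1), (3, 1), (2, 2), (2, 1)],
    [(0, [0], []),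
    (1, [16], []),
    (2, List.range 24, []),
    (7, List.range 24, [[(1, 0), (2, 0), (1, 2), (0, 1), (0, 2), (3, 0), (3, 2), (2, 2)], [(0, 0), (1, 0), (2, 0), (0, 2), (3, 0), (1, 1), (3, 1), (2, 1)]]),
    (3, List.range 24, [[(1, 0), (2, 0), (4, 0), (0, 2), (4, 1), (4, 2), (3, 2), (3, 1)]]),
    (9, List.range 24, [[(0, 0), (1, 0), (2, 0), (0, 1), (0, 2), (4, 2), (5, 1), (5, 2)], [(0, 0), (1, 0), (2, 0), (3, 0), (4, 1), (5, 0), (5, 1), (3, 2)], [(1, 0), (4, 0), (1, 2), (0, 2), (3, 0), (4, 1), (5, 0), (1, 1)]]),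
    (10, List.range 24, [[(0, 0), (1, 0), (2, 0), (4, 0), (1, 2), (3, 0), (6, 0), (4, 2)], [(0, 0), (1, 0), (0, 1), (0, 2), (3, 0), (5, 0), (6, 0), (6, 2)], [(0, 0), (2, 0), (4, 0), (0, 1), (0, 2), (3, 0), (4, 1), (6, 1)]]),
    (11, List.range 24, [[(1, 0), (2, 0), (4, 0), (1, 2), (0, 1), (4, 1), (7, 0), (5, 1)], [(0, 0), (1, 0), (1, 2), (4, 1), (5, 0), (6, 0), (7, 0), (7, 2)], [(2, 0), (1, 2), (0, 1), (3, 0), (4, 1), (5, 0), (6, 0), (7, 1)]])]⟩,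
    ⟨17, [(0, 0), (1, 0), (4, 0), (5, 0), (1, 2), (0, 1), (0, 2), (6, 0), (5, 1), (2, 0), (7, 0), (3, 0), (5, 2), (2, 1), (7, 2), (2, 2), (3, 2), (6, 2), (7, 1), (1, 1), (3, 1), (6, 1), (4, 2), (4, 1)],
    [(0, [0], []),
    (1, [17], []),
    (9, List.range 24, []),
    (11, List.range 24, [[(0, 0), (1, 2), (0, 1), (3, 0), (2, 1), (2, 2), (3, 2), (1, 1)], [(1, 0), (1, 2), (0, 1), (0, 2), (2, 0), (3, 0), (2, 2), (3, 1)]]),
    (2, List.range 24, [[(0, 0), (1, 0), (4, 0), (1, 2), (2, 1), (3, 2), (4, 2), (4, 1)]]),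
    (3, List.range 24, [[(1, 0), (4, 0), (5, 0), (1, 2), (0, 1), (5, 1), (3, 0), (2, 1)], [(0, 0), (5, 0), (1, 2), (0, 2), (5, 1), (3, 0), (5, 2), (2, 2)], [(0, 0), (1, 0), (4, 0), (5, 0), (0, 2), (2, 0), (3, 0), (4, 2)]]),
    (7, List.range 24, [[(4, 0), (5, 0), (6, 0), (5, 1), (2, 0), (3, 0), (5, 2), (3, 2)], [(0, 0), (5, 0), (1, 2), (0, 1), (6, 0), (2, 0), (3, 0), (6, 2)], [(0, 0), (5, 0), (0, 2), (6, 0), (2, 0), (5, 2), (2, 1), (6, 1)]]),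
    (10, List.range 24, [[(0, 0), (1, 0), (4, 0), (5, 0), (1, 2), (6, 0), (7, 0), (5, 2)], [(0, 0), (1, 0), (0, 1), (0, 2), (6, 0), (2, 0), (7, 0), (7, 2)], [(0, 0), (4, 0), (5, 0), (0, 1), (0, 2), (6, 0), (5, 1), (7, 1)]])]⟩,
    ⟨19, [(0, 0), (1, 0), (2, 0), (4, 0), (1, 2), (0, 1), (0, 2), (3, 0), (4, 1), (5, 0), (6, 0), (7, 0), (4, 2), (5, 1), (6, 2), (5, 2), (7, 2), (3, 2), (6, 1), (1, 1), (7, 1), (3, 1), (2, 2), (2, 1)],
    [(0, [0], []),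
    (1, [19], []),
    (2, List.range 24, []),
    (7, List.range 24, [[(1, 0), (2, 0), (1, 2), (0, 1), (0, 2), (3, 0), (3, 2), (2, 2)], [(0, 0), (1, 0), (2, 0), (0, 2), (3, 0), (1, 1), (3, 1), (2, 1)]]),
    (3, List.range 24, [[(1, 0), (2, 0), (4, 0), (0, 2), (4, 1), (4, 2), (3, 2), (3, 1)]]),
    (9, List.range 24, [[(0, 0), (1, 0), (2, 0), (0, 1), (0, 2), (4, 2), (5, 1), (5, 2)], [(0, 0), (1, 0), (2, 0), (3, 0), (4, 1), (5, 0), (5, 1), (3, 2)], [(1, 0), (4, 0), (1, 2), (0, 2), (3, 0), (4, 1), (5, 0), (1, 1)]]),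
    (10, List.range 24, [[(0, 0), (1, 0), (2, 0), (4, 0), (1, 2), (3, 0), (6, 0), (4, 2)], [(0, 0), (1, 0), (0, 1), (0, 2), (3, 0), (5, 0), (6, 0), (6, 2)], [(0, 0), (2, 0), (4, 0), (0, 1), (0, 2), (3, 0), (4, 1), (6, 1)]]),
    (11, List.range 24, [[(1, 0), (2, 0), (4, 0), (1, 2), (0, 1), (4, 1), (7, 0), (5, 1)], [(0, 0), (1, 0), (1, 2), (4, 1), (5, 0), (6, 0), (7, 0), (7, 2)], [(2, 0), (1, 2), (0, 1), (3, 0), (4, 1), (5, 0), (6, 0), (7, 1)]])]⟩,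
    ⟨21, [(0, 0), (1, 0), (4, 0), (2, 0), (1, 2), (0, 1), (0, 2), (5, 0), (2, 1), (6, 0), (3, 0), (7, 0), (2, 2), (6, 1), (3, 2), (6, 2), (7, 2), (5, 2), (3, 1), (1, 1), (7, 1), (5, 1), (4, 2), (4, 1)],
    [(0, [0], []),
    (1, [21], []),
    (3, List.range 24, []),
    (10, List.range 24, [[(1, 0), (1, 2), (0, 1), (0, 2), (2, 1), (3, 0), (2, 2), (3, 1)], [(0, 0), (2, 0), (1, 2), (0, 1), (2, 1), (3, 0), (3, 2), (1, 1)]]),
    (2, List.range 24, [[(1, 0), (4, 0), (0, 2), (3, 0), (2, 2), (3, 2), (4, 2), (4, 1)]]),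
    (7, List.range 24, [[(0, 0), (1, 0), (4, 0), (2, 0), (1, 2), (5, 0), (3, 0), (2, 2)], [(0, 0), (1, 2), (0, 2), (5, 0), (2, 1), (3, 0), (5, 2), (5, 1)], [(1, 0), (4, 0), (1, 2), (0, 1), (0, 2), (5, 0), (5, 2), (4, 2)]]),
    (9, List.range 24, [[(0, 0), (1, 0), (0, 1), (0, 2), (5, 0), (6, 0), (3, 0), (3, 2)], [(2, 0), (1, 2), (0, 1), (0, 2), (5, 0), (3, 0), (6, 1), (6, 2)], [(0, 0), (1, 0), (4, 0), (5, 0), (2, 1), (6, 0), (6, 1), (5, 2)]]),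
    (11, List.range 24, [[(1, 0), (4, 0), (2, 0), (1, 2), (0, 1), (2, 1), (7, 0), (6, 1)], [(0, 0), (1, 0), (1, 2), (2, 1), (6, 0), (3, 0), (7, 0), (7, 2)], [(4, 0), (1, 2), (0, 1), (5, 0), (2, 1), (6, 0), (3, 0), (7, 1)]])]⟩,
    ⟨22, [(0, 0), (1, 0), (2, 0), (4, 0), (1, 2), (0, 1), (0, 2), (3, 0), (4, 1), (5, 0), (6, 0), (7, 0), (4, 2), (5, 1), (6, 2), (5, 2), (7, 2), (3, 2), (6, 1), (1, 1), (7, 1), (3, 1), (2, 2), (2, 1)],
    [(0, [0], []),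
    (1, [22], []),
    (2, List.range 24, []),
    (7, List.range 24, [[(1, 0), (2, 0), (1, 2), (0, 1), (0, 2), (3, 0), (3, 2), (2, 2)], [(0, 0), (1, 0), (2, 0), (0, 2), (3, 0), (1, 1), (3, 1), (2, 1)]]),
    (3, List.range 24, [[(1, 0), (2, 0), (4, 0), (0, 2), (4, 1), (4, 2), (3, 2), (3, 1)]]),
    (9, List.range 24, [[(0, 0), (1, 0), (2, 0), (0, 1), (0, 2), (4, 2), (5, 1), (5, 2)], [(0, 0), (1, 0), (2, 0), (3, 0), (4, 1), (5, 0), (5, 1), (3, 2)], [(1, 0), (4, 0), (1, 2), (0, 2), (3, 0), (4, 1), (5, 0), (1, 1)]]),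
    (10, List.range 24, [[(0, 0), (1, 0), (2, 0), (4, 0), (1, 2), (3, 0), (6, 0), (4, 2)], [(0, 0), (1, 0), (0, 1), (0, 2), (3, 0), (5, 0), (6, 0), (6, 2)], [(0, 0), (2, 0), (4, 0), (0, 1), (0, 2), (3, 0), (4, 1), (6, 1)]]),
    (11, List.range 24, [[(1, 0), (2, 0), (4, 0), (1, 2), (0, 1), (4, 1), (7, 0), (5, 1)], [(0, 0), (1, 0), (1, 2), (4, 1), (5, 0), (6, 0), (7, 0), (7, 2)], [(2, 0), (1, 2), (0, 1), (3, 0), (4, 1), (5, 0), (6, 0), (7, 1)]])]⟩,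
    ⟨23, [(0, 0), (1, 0), (4, 0), (5, 0), (1, 2), (0, 1), (0, 2), (6, 0), (5, 1), (2, 0), (7, 0), (3, 0), (5, 2), (2, 1), (7, 2), (2, 2), (3, 2), (6, 2), (7, 1), (1, 1), (3, 1), (6, 1), (4, 2), (4, 1)],
    [(0, [0], []),
    (1, [23], []),
    (9, List.range 24, []),
    (11, List.range 24, [[(0, 0), (1, 2), (0, 1), (3, 0), (2, 1), (2, 2), (3, 2), (1, 1)], [(1, 0), (1, 2), (0, 1), (0, 2), (2, 0), (3, 0), (2, 2), (3, 1)]]),
    (2, List.range 24, [[(0, 0), (1, 0), (4, 0), (1, 2), (2, 1), (3, 2), (4, 2), (4, 1)]]),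
    (3, List.range 24, [[(1, 0), (4, 0), (5, 0), (1, 2), (0, 1), (5, 1), (3, 0), (2, 1)], [(0, 0), (5, 0), (1, 2), (0, 2), (5, 1), (3, 0), (5, 2), (2, 2)], [(0, 0), (1, 0), (4, 0), (5, 0), (0, 2), (2, 0), (3, 0), (4, 2)]]),
    (7, List.range 24, [[(4, 0), (5, 0), (6, 0), (5, 1), (2, 0), (3, 0), (5, 2), (3, 2)], [(0, 0), (5, 0), (1, 2), (0, 1), (6, 0), (2, 0), (3, 0), (6, 2)], [(0, 0), (5, 0), (0, 2), (6, 0), (2, 0), (5, 2), (2, 1), (6, 1)]]),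
    (10, List.range 24, [[(0, 0), (1, 0), (4, 0), (5, 0), (1, 2), (6, 0), (7, 0), (5, 2)], [(0, 0), (1, 0), (0, 1), (0, 2), (6, 0), (2, 0), (7, 0), (7, 2)], [(0, 0), (4, 0), (5, 0), (0, 1), (0, 2), (6, 0), (5, 1), (7, 1)]])]⟩]

def r3 : Rec where
  p := 3
  c := 917150455939460404939281612745760357
  a := 340670547124668978596097019309841123
  b := 345495268953631398292692712137560480
  t := [882331097009847378070907503889565037, 312941897574483570400844489455916553, 984818244535754528103549039458486304, 984818244535754528103549039458486304]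
  wd := [(1, 0), (0, 0), (5, 0), (6, 0), (0, 2), (1, 1), (1, 2), (4, 0), (6, 1), (2, 0), (7, 0), (3, 0), (6, 2), (2, 1), (7, 2), (2, 2), (3, 2), (4, 2), (7, 1), (0, 1), (3, 1), (4, 1), (5, 2), (5, 1)]
  sts := [(1, [1], []),
    (0, [0], []),
    (9, List.range 24, []),
    (11, List.range 24, [[(1, 0), (0, 2), (1, 1), (3, 0), (2, 1), (2, 2), (3, 2), (0, 1)], [(0, 0), (0, 2), (1, 1), (1, 2), (2, 0), (3, 0), (2, 2), (3, 1)]]),
    (7, List.range 24, [[(0, 0), (1, 2), (4, 0), (2, 0), (3, 0), (3, 2), (4, 2), (4, 1)]]),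
    (2, List.range 24, [[(1, 0), (5, 0), (0, 2), (1, 2), (4, 0), (2, 0), (2, 2), (3, 2)], [(0, 0), (5, 0), (0, 2), (1, 1), (1, 2), (4, 0), (4, 2), (5, 2)], [(5, 0), (0, 2), (1, 1), (2, 0), (2, 1), (2, 2), (4, 2), (5, 1)]]),
    (3, List.range 24, [[(0, 0), (5, 0), (6, 0), (0, 2), (1, 1), (6, 1), (3, 0), (2, 1)], [(1, 0), (6, 0), (0, 2), (1, 2), (6, 1), (3, 0), (6, 2), (2, 2)], [(1, 0), (6, 0), (0, 2), (1, 1), (4, 0), (2, 0), (3, 0), (4, 2)]]),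
    (10, List.range 24, [[(1, 0), (0, 0), (5, 0), (6, 0), (0, 2), (4, 0), (7, 0), (6, 2)], [(1, 0), (0, 0), (1, 1), (1, 2), (4, 0), (2, 0), (7, 0), (7, 2)], [(1, 0), (5, 0), (6, 0), (1, 1), (1, 2), (4, 0), (6, 1), (7, 1)]])]
  fib := [f3_0, f3_1]
  n := 504

def f4_0 : Fib where
  b := 1
  e := []

def f4_1 : Fib where
  b := 0
  e := []

def r4 : Rec where
  p := 4
  c := 192613887460257670335523932379526859
  a := 563025918997333186122746917238285555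
  b := 838666237353604715610800945754494066
  t := [515501029353775094361077550756778144, 875853356779646293452674525622262187, 984818244535754528103549039458486304, 984818244535754528103549039458486304]
  wd := [(0, 0), (1, 0), (6, 0), (2, 0), (3, 0), (6, 2), (5, 0), (4, 0), (5, 1), (1, 3), (5, 2), (0, 1), (7, 0), (6, 1), (6, 3), (2, 1), (4, 1), (5, 3), (2, 3), (2, 2), (1, 2), (7, 1), (1, 1), (3, 1)]
  sts := [(0, [0], []),
    (1, [1], []),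
    (3, List.range 24, [[(1, 0), (2, 0), (1, 3), (2, 1), (2, 3), (2, 2), (1, 2), (1, 1)]]),
    (4, List.range 24, [[(0, 0), (1, 0), (2, 0), (3, 0), (0, 1), (2, 2), (1, 2), (3, 1)]]),
    (7, List.range 24, [[(3, 0), (4, 0), (1, 3), (0, 1), (4, 1), (2, 3), (2, 2), (1, 2)]]),
    (6, List.range 24, [[(0, 0), (1, 0), (3, 0), (5, 1), (1, 3), (5, 2), (0, 1), (4, 1)], [(1, 0), (3, 0), (4, 0), (1, 3), (5, 2), (2, 1), (5, 3), (2, 3)], [(1, 0), (2, 0), (3, 0), (5, 0), (4, 0), (5, 1), (1, 3), (2, 2)]]),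
    (2, List.range 24, [[(1, 0), (6, 0), (2, 0), (3, 0), (6, 2), (5, 1), (0, 1), (6, 1)], [(0, 0), (1, 0), (6, 2), (5, 0), (4, 0), (1, 3), (5, 2), (6, 3)], [(1, 0), (6, 0), (5, 0), (4, 0), (5, 1), (5, 2), (0, 1), (2, 1)], [(0, 0), (2, 0), (3, 0), (6, 2), (4, 0), (1, 3), (0, 1), (5, 3)]]),
    (12, List.range 24, [[(0, 0), (1, 0), (6, 0), (2, 0), (3, 0), (4, 0), (5, 2), (7, 0)], [(2, 0), (6, 2), (5, 0), (5, 1), (1, 3), (5, 2), (0, 1), (7, 1)]])]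
  fib := [f4_0, f4_1]
  n := 384

def f5_0 : Fib where
  b := 0
  e := []

def r5 : Rec where
  p := 4
  c := 766078480764522267812074796576527779
  a := 929514995299590413552915581165514192
  b := 640386274143287331986863164665406642
  t := [894023423856696691000174015117805569, 91237147086434376827419659221491048, 984818244535754528103549039458486304, 984818244535754528103549039458486304]
  wd := [(0, 0), (3, 0), (1, 0), (0, 1), (3, 2), (1, 2), (5, 0), (8, 0), (3, 3), (2, 0), (6, 0), (0, 3), (1, 3), (3, 1), (4, 0), (7, 0), (5, 1), (9, 0), (2, 2), (0, 2), (2, 3), (1, 1), (4, 1), (2, 1)]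
  sts := [(0, [0], []),
    (2, List.range 24, [[(0, 0), (1, 0), (0, 1), (1, 2), (0, 3), (1, 3), (0, 2), (1, 1)]]),
    (9, List.range 24, [[(1, 0), (0, 1), (1, 2), (2, 0), (0, 3), (2, 2), (2, 3), (2, 1)]]),
    (1, List.range 24, [[(3, 0), (1, 0), (0, 1), (3, 2), (1, 2), (3, 3), (0, 3), (3, 1)], [(0, 0), (3, 0), (1, 0), (3, 2), (1, 2), (2, 0), (2, 2), (0, 2)], [(0, 0), (3, 0), (0, 1), (1, 2), (3, 3), (2, 0), (1, 3), (2, 3)]]),
    (14, List.range 24, [[(0, 0), (3, 0), (3, 2), (1, 2), (0, 3), (1, 3), (4, 0), (4, 1)]]),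
    (6, List.range 24, [[(1, 0), (0, 1), (3, 2), (1, 2), (5, 0), (2, 0), (1, 3), (4, 0)], [(0, 0), (1, 2), (5, 0), (2, 0), (0, 3), (1, 3), (5, 1), (2, 2)]]),
    (10, List.range 24, [[(0, 0), (3, 0), (3, 2), (3, 3), (2, 0), (6, 0), (0, 3), (5, 1)]]),
    (15, List.range 24, [[(0, 0), (0, 1), (3, 2), (5, 0), (3, 3), (0, 3), (1, 3), (7, 0)]]),
    (7, List.range 24, [[(0, 0), (3, 0), (1, 0), (0, 1), (3, 2), (8, 0), (6, 0), (1, 3)]]),
    (17, List.range 24, [[(0, 0), (0, 1), (3, 2), (1, 2), (8, 0), (2, 0), (0, 3), (9, 0)]])]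
  fib := [f5_0]
  n := 128

def f6_0 : Fib where
  b := 0
  e := []

def r6 : Rec where
  p := 4
  c := 630337107645975966183283128165411569
  a := 433030838196058526560697714132408468
  b := 798866418162995428433870393438276288
  t := [381008218701924633485171803578251409, 818417711753696974483914894103088416, 984818244535754528103549039458486304, 984818244535754528103549039458486304]
  wd := [(0, 0), (4, 0), (3, 0), (3, 2), (5, 0), (2, 0), (1, 0), (2, 2), (1, 2), (5, 3), (3, 1), (2, 1), (1, 1), (1, 3), (3, 3), (4, 2), (4, 3), (0, 1), (0, 2), (5, 2), (0, 3), (5, 1), (2, 3), (4, 1)]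
  sts := [(0, [0], []),
    (6, List.range 24, [[(0, 0), (1, 0), (1, 2), (1, 1), (1, 3), (0, 1), (0, 2), (0, 3)]]),
    (5, List.range 24, []),
    (2, List.range 24, [[(0, 0), (2, 0), (2, 2), (1, 2), (3, 1), (2, 1), (1, 1), (1, 3)], [(0, 0), (3, 0), (1, 0), (2, 2), (2, 1), (1, 1), (3, 3), (0, 1)], [(0, 0), (3, 0), (3, 2), (2, 0), (1, 0), (2, 2), (1, 2), (0, 2)], [(3, 0), (3, 2), (2, 0), (2, 2), (3, 1), (2, 1), (3, 3), (2, 3)]]),
    (1, List.range 24, [[(4, 0), (3, 0), (1, 0), (2, 2), (1, 2), (3, 1), (2, 1), (4, 2)], [(4, 0), (3, 0), (3, 2), (1, 0), (2, 2), (1, 3), (3, 3), (4, 3)], [(4, 0), (3, 2), (2, 0), (1, 0), (2, 2), (2, 1), (1, 1), (4, 1)]]),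
    (4, List.range 24, [[(0, 0), (4, 0), (3, 0), (3, 2), (5, 0), (2, 2), (3, 1), (1, 1)], [(0, 0), (4, 0), (2, 0), (1, 0), (2, 2), (5, 3), (3, 1), (3, 3)], [(4, 0), (3, 2), (5, 0), (1, 0), (2, 2), (1, 2), (5, 3), (5, 2)], [(3, 2), (2, 0), (1, 0), (1, 2), (5, 3), (3, 1), (2, 1), (5, 1)]])]
  fib := [f6_0]
  n := 96

def f7_0 : Fib where
  b := 0
  e := []

def r7 : Rec where
  p := 5
  c := 970531382982415564833320819807602177
  a := 485017634687862308445916566579087689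
  b := 843872967134859417197160370849167044
  t := [971836263857004386005188942625883137, 970531342981781179981564350474324160, 984818244535754528103549039458486304, 984818244535754528103549039458486304]
  wd := [(0, 0), (0, 1), (5, 0), (2, 0), (6, 0), (0, 3), (0, 4), (3, 0), (3, 4), (4, 0), (4, 4), (5, 3), (5, 4), (4, 1), (3, 2), (4, 3), (0, 2), (5, 1), (4, 2), (3, 3), (3, 1), (7, 0), (5, 2), (1, 0)]
  sts := [(0, [0], []),
    (23, List.range 24, []),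
    (3, List.range 24, []),
    (7, List.range 24, [[(0, 0), (0, 1), (2, 0), (0, 3), (0, 4), (3, 0), (3, 4), (3, 2), (0, 2), (3, 3), (3, 1), (1, 0)]]),
    (9, List.range 24, [[(0, 0), (0, 1), (0, 3), (0, 4), (3, 0), (4, 0), (4, 4), (3, 2)], [(0, 4), (3, 0), (3, 4), (4, 0), (4, 4), (4, 1), (0, 2), (4, 2)], [(0, 1), (0, 3), (3, 4), (4, 0), (4, 4), (4, 1), (4, 3), (3, 3)], [(0, 0), (0, 3), (0, 4), (3, 4), (4, 4), (4, 3), (0, 2), (3, 1)]]),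
    (2, List.range 24, [[(0, 0), (0, 3), (3, 0), (3, 4), (4, 4), (5, 3), (5, 4), (4, 1)], [(0, 1), (5, 0), (0, 4), (3, 0), (3, 4), (4, 4), (5, 3), (4, 3)], [(5, 0), (2, 0), (3, 0), (3, 4), (4, 0), (5, 3), (5, 4), (0, 2)], [(0, 1), (5, 0), (0, 3), (4, 0), (4, 4), (5, 3), (5, 4), (5, 1)], [(0, 0), (0, 1), (5, 0), (2, 0), (0, 4), (4, 0), (5, 3), (5, 2)]]),
    (4, List.range 24, [[(0, 0), (0, 1), (5, 0), (2, 0), (6, 0), (3, 0), (4, 4), (5, 4)]]),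
    (21, List.range 24, [[(2, 0), (0, 3), (0, 4), (3, 4), (4, 0), (4, 4), (5, 3), (7, 0)]])]
  fib := [f7_0]
  n := 60

def f8_0 : Fib where
  b := 0
  e := []

def r8 : Rec where
  p := 6
  c := 271787644222412330678682982691407336
  a := 714515385312673756738326051507781042
  b := 920682095242505201370029450842026400
  t := [978975687484598267695364582474554862, 271793938064107129041721664064306216, 984818244535754528103549039458486304, 984818244535754528103549039458486304]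
  wd := [(0, 0), (1, 0), (1, 5), (3, 0), (5, 0), (0, 5), (4, 0), (1, 2), (0, 1), (3, 1), (7, 0), (3, 2), (0, 4), (5, 1), (0, 2), (1, 1), (6, 0), (2, 0), (2, 1), (1, 3), (1, 4), (0, 3), (2, 2), (4, 1)]
  sts := [(0, [0], []),
    (1, List.range 24, [[(1, 0), (1, 5), (0, 5), (1, 2), (0, 1), (0, 4), (0, 2), (1, 3)], [(0, 0), (1, 5), (1, 2), (0, 1), (0, 4), (1, 1), (1, 4), (0, 3)]]),
    (17, List.range 24, [[(1, 0), (1, 5), (0, 5), (0, 1), (1, 1), (2, 0), (2, 1), (1, 4)], [(0, 0), (1, 0), (1, 5), (1, 2), (0, 2), (1, 1), (2, 1), (2, 2)]]),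
    (3, List.range 24, [[(0, 0), (1, 5), (0, 5), (0, 1), (3, 1), (3, 2), (0, 2), (1, 1)], [(3, 0), (0, 5), (0, 1), (3, 2), (0, 4), (0, 2), (2, 0), (2, 1)]]),
    (6, List.range 24, [[(0, 0), (1, 5), (4, 0), (1, 2), (3, 2), (0, 4), (0, 2), (2, 0)], [(1, 0), (3, 0), (0, 5), (4, 0), (1, 2), (3, 2), (0, 4), (4, 1)]]),
    (4, List.range 24, [[(1, 0), (1, 5), (3, 0), (5, 0), (0, 5), (0, 1), (3, 2), (5, 1)], [(1, 5), (3, 0), (5, 0), (0, 5), (4, 0), (3, 1), (0, 4), (0, 2)]]),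
    (16, List.range 24, [[(1, 5), (3, 0), (1, 2), (0, 1), (3, 1), (3, 2), (0, 4), (6, 0)]]),
    (10, List.range 24, [[(0, 0), (1, 0), (1, 5), (3, 0), (5, 0), (1, 2), (7, 0), (0, 4)]])]
  fib := [f8_0]
  n := 24

def r9 : Rec where
  p := 6
  c := 441366995423741609312549231512542638
  a := 509237509362114758229455494980142263
  b := 85321925473636664002689322410713376
  t := [707828527147053429565191113023867599, 844385991642047318116928167390856391, 984818244535754528103549039458486304, 984818244535754528103549039458486304]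
  wd := [(0, 0), (3, 0), (3, 3), (1, 0), (3, 2), (0, 3), (2, 0), (1, 2), (1, 1), (1, 4), (3, 5), (2, 5), (0, 4), (3, 1), (0, 1), (1, 3), (1, 5), (2, 3), (2, 4), (0, 2), (2, 2), (0, 5), (2, 1), (3, 4)]
  sts := [(0, List.range 24, []),
    (3, List.range 24, [[(0, 0), (1, 0), (0, 3), (1, 2), (0, 4), (0, 1), (1, 3), (1, 5)], [(1, 0), (1, 1), (1, 4), (0, 4), (0, 1), (1, 3), (0, 2), (0, 5)]]),
    (6, List.range 24, [[(0, 3), (2, 0), (1, 2), (1, 1), (1, 4), (0, 4), (1, 3), (2, 3)], [(1, 0), (2, 0), (1, 2), (1, 4), (2, 5), (0, 1), (1, 3), (2, 4)], [(1, 0), (0, 3), (1, 2), (1, 1), (2, 5), (1, 3), (0, 2), (2, 2)], [(2, 0), (1, 1), (1, 4), (2, 5), (1, 3), (1, 5), (0, 2), (2, 1)]]),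
    (1, List.range 24, [[(0, 0), (3, 0), (3, 3), (1, 0), (3, 2), (1, 2), (3, 5), (0, 4)], [(3, 0), (3, 3), (1, 0), (3, 2), (0, 3), (1, 1), (2, 5), (3, 1)], [(0, 0), (3, 0), (0, 3), (2, 0), (1, 2), (1, 4), (3, 5), (0, 1)], [(3, 0), (3, 3), (2, 0), (1, 2), (1, 1), (3, 5), (2, 5), (1, 3)], [(3, 0), (1, 0), (3, 2), (2, 0), (1, 2), (1, 1), (1, 4), (0, 2)], [(0, 0), (3, 3), (3, 2), (0, 3), (2, 0), (3, 5), (2, 5), (3, 4)]])]
  fib := []
  n := 24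

def r10 : Rec where
  p := 7
  c := 352520454927167266887859745207964736
  a := 709381249257452662052380795653794304
  b := 466884124671066950842521637686027744
  t := [303329281815052526621607969465414117, 527856823813478175538958207099868288, 956237791629093035645688885649330230, 48678543479395988511252799195024116]
  wd := [(1, 0), (4, 0), (4, 1), (3, 0), (5, 0), (2, 0), (4, 5), (5, 3), (3, 3), (3, 6), (3, 1), (4, 4), (5, 1), (5, 2), (4, 6), (5, 6), (3, 4), (5, 4), (4, 3), (0, 0), (3, 5), (4, 2), (5, 5), (3, 2)]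
  sts := [(19, List.range 24, []),
    (0, List.range 24, []),
    (5, List.range 24, []),
    (3, List.range 24, [[(3, 0), (3, 3), (3, 6), (3, 1), (3, 4), (0, 0), (3, 5), (3, 2)]]),
    (1, List.range 24, [[(4, 0), (4, 1), (3, 0), (3, 3), (3, 6), (3, 1), (4, 6), (4, 3)], [(4, 0), (3, 0), (2, 0), (3, 6), (4, 4), (4, 6), (3, 4), (0, 0)], [(4, 1), (4, 5), (3, 6), (3, 1), (4, 4), (4, 6), (3, 4), (3, 5)], [(3, 0), (2, 0), (4, 5), (3, 3), (3, 6), (3, 1), (4, 4), (4, 2)]]),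
    (4, List.range 24, [[(1, 0), (4, 0), (4, 1), (3, 0), (5, 0), (5, 3), (3, 1), (5, 1)], [(4, 0), (4, 1), (3, 0), (5, 0), (2, 0), (3, 3), (4, 4), (5, 2)], [(1, 0), (4, 0), (2, 0), (4, 5), (5, 3), (3, 6), (3, 1), (4, 6)], [(4, 0), (4, 1), (4, 5), (5, 3), (3, 3), (3, 1), (4, 4), (5, 6)], [(1, 0), (4, 0), (5, 0), (3, 3), (3, 6), (3, 1), (4, 4), (3, 4)], [(1, 0), (3, 0), (5, 0), (2, 0), (5, 3), (3, 6), (4, 4), (5, 4)], [(1, 0), (4, 0), (4, 1), (3, 0), (4, 5), (3, 6), (4, 4), (5, 5)]])]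
  fib := []
  n := 42

def r11 : Rec where
  p := 7
  c := 639394897622536056909024109674466560
  a := 233296461242609331774533678906484871
  b := 186967399071746499731903033298363857
  t := [68380384223414708880136510875377376, 968830635170269449220699549403711939, 710087562216281509967403250585640628, 955546924523204466291697538510949014]
  wd := [(1, 0), (3, 0), (5, 0), (5, 1), (2, 0), (4, 0), (4, 2), (5, 5), (3, 1), (5, 4), (0, 0), (3, 5), (4, 6), (3, 4), (5, 6), (4, 4), (4, 1), (3, 6), (3, 3), (5, 2), (5, 3), (3, 2), (4, 5), (4, 3)]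
  sts := [(10, List.range 24, []),
    (0, List.range 24, []),
    (4, List.range 24, []),
    (1, List.range 24, [[(3, 0), (3, 1), (0, 0), (3, 5), (3, 4), (3, 6), (3, 3), (3, 2)]]),
    (5, List.range 24, [[(3, 0), (2, 0), (4, 2), (3, 1), (3, 4), (4, 4), (4, 1), (3, 6)], [(3, 0), (2, 0), (4, 0), (4, 2), (3, 1), (0, 0), (4, 6), (3, 3)], [(3, 0), (4, 0), (4, 2), (0, 0), (3, 5), (3, 4), (4, 1), (4, 5)], [(3, 0), (2, 0), (0, 0), (3, 5), (4, 6), (3, 4), (4, 4), (4, 3)]]),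
    (2, List.range 24, [[(1, 0), (3, 0), (5, 0), (5, 1), (2, 0), (5, 5), (0, 0), (4, 6)], [(3, 0), (5, 0), (5, 1), (2, 0), (4, 0), (3, 1), (3, 5), (3, 4)], [(1, 0), (3, 0), (4, 0), (4, 2), (5, 5), (5, 4), (0, 0), (5, 6)], [(3, 0), (5, 0), (4, 2), (5, 5), (3, 1), (0, 0), (3, 5), (4, 4)], [(1, 0), (3, 0), (2, 0), (3, 1), (5, 4), (0, 0), (3, 5), (4, 1)], [(3, 0), (5, 1), (2, 0), (4, 2), (5, 5), (3, 1), (5, 4), (5, 2)], [(5, 0), (2, 0), (4, 0), (5, 5), (3, 1), (5, 4), (0, 0), (5, 3)]])]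
  fib := []
  n := 42

def r12 : Rec where
  p := 8
  c := 351844052827762829049910944796316010
  a := 925635426791343710264338254026707365
  b := 684492110646439305711357046244563127
  t := [332492695452263575585375045331289174, 980150876343599078291985322429437037, 984818244535754528103549039458486304, 984818244535754528103549039458486304]
  wd := [(2, 0), (3, 0), (3, 3), (3, 2), (3, 4), (4, 0), (2, 5), (4, 2), (5, 0), (2, 6), (2, 1), (3, 1), (4, 1), (2, 2), (3, 6), (2, 4), (4, 3), (3, 5), (0, 0), (2, 7), (1, 0), (3, 7), (2, 3), (5, 1)]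
  sts := [(18, List.range 24, []),
    (20, List.range 24, []),
    (0, List.range 24, []),
    (1, List.range 24, [[(2, 0), (3, 0), (3, 2), (3, 4), (2, 6), (2, 2), (3, 6), (2, 4)], [(3, 0), (3, 2), (3, 4), (2, 5), (2, 1), (3, 1), (3, 6), (3, 5)], [(2, 0), (3, 0), (3, 3), (2, 1), (3, 1), (2, 2), (3, 6), (2, 7)], [(2, 0), (3, 2), (3, 4), (2, 5), (2, 6), (2, 1), (0, 0), (1, 0)], [(3, 0), (3, 3), (3, 4), (2, 5), (2, 6), (2, 1), (2, 2), (3, 7)], [(2, 0), (3, 0), (3, 3), (3, 2), (2, 5), (2, 6), (3, 1), (2, 3)]]),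
    (5, List.range 24, [[(2, 0), (3, 0), (3, 3), (3, 2), (3, 4), (4, 2), (2, 1), (4, 1)], [(2, 0), (3, 0), (4, 0), (2, 5), (4, 2), (2, 6), (2, 1), (3, 6)], [(2, 0), (3, 3), (3, 2), (4, 0), (2, 6), (2, 1), (2, 2), (4, 3)], [(2, 0), (3, 0), (3, 4), (2, 5), (4, 2), (3, 1), (2, 2), (0, 0)]]),
    (8, List.range 24, [[(3, 0), (3, 3), (3, 2), (3, 4), (4, 0), (5, 0), (3, 1), (2, 2)], [(2, 0), (3, 3), (3, 4), (4, 0), (2, 5), (2, 1), (3, 1), (5, 1)]])]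
  fib := []
  n := 16

def r13 : Rec where
  p := 10
  c := 59958983596740834366188217924985573
  a := 670579770265700861101774157527831658
  b := 885823504351566254638107071176259883
  t := [15962506600968255852156458894605495, 218856910157072230930483217781274625, 984818244535754528103549039458486304, 984818244535754528103549039458486304]
  wd := [(3, 0), (2, 0), (0, 0), (0, 5), (0, 6), (3, 1), (0, 9), (1, 0), (0, 1), (1, 7), (0, 7), (1, 2), (0, 2), (0, 3), (1, 4), (1, 5), (1, 1), (1, 9), (1, 8), (1, 6), (0, 4), (0, 8), (1, 3), (2, 1)]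
  sts := [(2, List.range 24, []),
    (7, List.range 24, [[(0, 0), (1, 0), (1, 7), (0, 7), (0, 2), (0, 3), (1, 4), (1, 5)], [(0, 0), (0, 5), (1, 0), (0, 1), (1, 7), (1, 2), (0, 2), (1, 1)], [(0, 5), (0, 6), (0, 1), (1, 7), (0, 7), (0, 2), (0, 3), (1, 9)], [(0, 0), (0, 5), (0, 9), (0, 7), (1, 2), (0, 2), (0, 3), (1, 8)], [(0, 5), (0, 6), (1, 0), (1, 2), (0, 2), (0, 3), (1, 4), (1, 6)], [(0, 5), (0, 9), (1, 0), (0, 1), (0, 7), (0, 2), (1, 4), (0, 4)], [(0, 0), (0, 6), (0, 1), (0, 7), (1, 2), (0, 2), (1, 4), (0, 8)], [(0, 6), (0, 9), (1, 0), (1, 7), (0, 7), (1, 2), (0, 2), (1, 3)]]),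
    (1, List.range 24, [[(2, 0), (0, 9), (0, 1), (1, 7), (1, 2), (0, 2), (0, 3), (1, 4)], [(0, 0), (0, 6), (0, 9), (1, 0), (0, 1), (0, 2), (0, 3), (2, 1)]]),
    (0, List.range 24, [[(3, 0), (2, 0), (0, 0), (0, 5), (0, 6), (1, 0), (0, 7), (0, 2)], [(2, 0), (0, 0), (0, 5), (0, 6), (3, 1), (0, 1), (1, 2), (0, 3)]])]
  fib := []
  n := 20

def r14 : Rec where
  p := 11
  c := 20384579791191895985424879750235369
  a := 262440742446300154904084778887712265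
  b := 584770435939403734417507007290854049
  t := [750986906162945175395263809584650535, 297344181688718718006828887772386305, 984818244535754528103549039458486304, 984818244535754528103549039458486304]
  wd := [(2, 0), (3, 0), (2, 7), (2, 3), (3, 3), (2, 6), (1, 0), (3, 1), (2, 4), (2, 1), (3, 7), (2, 5), (2, 2), (2, 9), (3, 10), (3, 6), (3, 9), (2, 8), (3, 2), (0, 0), (3, 8), (3, 4), (3, 5), (2, 10)]
  sts := [(19, List.range 24, []),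
    (6, List.range 24, []),
    (0, List.range 24, [[(2, 0), (2, 7), (2, 3), (2, 6), (1, 0), (2, 4), (2, 1), (2, 5), (2, 2), (2, 9), (2, 8), (2, 10)]]),
    (1, List.range 24, [[(2, 0), (3, 0), (2, 7), (2, 3), (3, 3), (3, 1), (3, 7), (2, 2)], [(3, 0), (2, 7), (2, 3), (3, 3), (2, 6), (2, 4), (2, 5), (2, 9)], [(2, 0), (3, 0), (2, 6), (1, 0), (3, 1), (2, 1), (3, 7), (3, 10)], [(3, 0), (2, 7), (1, 0), (3, 1), (2, 4), (3, 7), (2, 5), (3, 6)], [(2, 0), (3, 0), (3, 3), (2, 4), (2, 1), (3, 7), (2, 5), (3, 9)], [(2, 0), (2, 3), (3, 3), (2, 6), (3, 1), (2, 1), (2, 5), (2, 8)], [(2, 0), (2, 7), (2, 3), (2, 6), (1, 0), (3, 1), (2, 4), (3, 2)], [(3, 0), (2, 3), (3, 3), (1, 0), (3, 1), (2, 4), (2, 1), (0, 0)], [(2, 7), (3, 3), (2, 6), (3, 1), (2, 4), (2, 1), (3, 7), (3, 8)], [(2, 3), (2, 6), (1, 0), (2, 4), (2, 1), (3, 7), (2, 5), (3, 4)], [(2, 0), (3, 0), (2, 7), (2, 3), (1, 0), (2,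 1), (2, 5), (3, 5)]])]
  fib := []
  n := 11

def r15 : Rec where
  p := 12
  c := 145797950094761687161608633680418285
  a := 271754756597633162810915701078231145
  b := 837668848924628637798323165962159789
  t := [333793457163354454162440027823508160, 138259206308305717546381475188544069, 984818244535754528103549039458486304, 984818244535754528103549039458486304]
  wd := [(1, 0), (0, 0), (0, 9), (2, 0), (0, 8), (1, 5), (0, 4), (2, 2), (2, 1), (3, 0), (0, 11), (0, 2), (1, 2), (1, 1), (1, 3), (0, 1), (0, 7), (1, 4), (0, 5), (3, 1), (0, 3), (0, 10), (0, 6), (2, 3)]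
  sts := [(1, List.range 24, [[(0, 8), (0, 4), (0, 11), (0, 2), (0, 1), (0, 7), (0, 5), (0, 10)], [(0, 0), (0, 9), (0, 8), (0, 11), (0, 2), (0, 5), (0, 3), (0, 6)]]),
    (0, List.range 24, [[(1, 0), (0, 0), (0, 9), (1, 5), (0, 4), (1, 2), (1, 1), (0, 1)], [(1, 0), (0, 8), (0, 4), (0, 11), (1, 2), (1, 1), (1, 3), (0, 7)], [(0, 0), (0, 9), (0, 8), (1, 2), (1, 1), (1, 3), (1, 4), (0, 5)], [(1, 0), (0, 0), (0, 8), (1, 5), (0, 11), (1, 1), (1, 4), (0, 3)]]),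
    (3, List.range 24, [[(1, 0), (0, 0), (0, 9), (2, 0), (0, 8), (2, 2), (0, 11), (1, 2)], [(0, 0), (0, 9), (2, 0), (0, 8), (1, 5), (2, 1), (0, 2), (1, 1)], [(0, 0), (2, 0), (0, 8), (0, 4), (0, 11), (0, 2), (1, 3), (1, 4)], [(1, 0), (0, 9), (0, 8), (1, 5), (0, 4), (0, 11), (0, 2), (2, 3)]]),
    (9, List.range 24, [[(1, 0), (0, 0), (1, 5), (0, 4), (2, 2), (3, 0), (0, 11), (1, 3)], [(0, 0), (2, 0), (0, 8), (0, 4), (2, 2), (2, 1), (3, 0), (3, 1)]])]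
  fib := []
  n := 12

def r16 : Rec where
  p := 12
  c := 54061143792467787905420018783885681
  a := 20854333537750847301286007685142869
  b := 608165110088430284819294540194842656
  t := [309073592094066467684255788573576336, 182072934483469168970506660205827661, 984818244535754528103549039458486304, 984818244535754528103549039458486304]
  wd := [(0, 0), (0, 5), (1, 0), (0, 11), (1, 10), (0, 2), (1, 1), (1, 11), (0, 10), (1, 7), (0, 7), (0, 6), (0, 8), (1, 2), (0, 9), (1, 8), (1, 3), (0, 1), (1, 9), (0, 3), (1, 5), (1, 4), (1, 6), (0, 4)]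
  sts := [(0, List.range 24, []),
    (2, List.range 24, [[(0, 0), (0, 5), (1, 0), (0, 11), (1, 10), (1, 11), (0, 7), (0, 8)], [(0, 5), (1, 0), (0, 11), (1, 10), (0, 2), (0, 10), (0, 6), (1, 2)], [(0, 0), (0, 5), (0, 2), (1, 1), (1, 11), (1, 7), (0, 7), (0, 9)], [(0, 5), (1, 0), (1, 1), (1, 11), (0, 10), (0, 7), (0, 6), (1, 8)], [(0, 0), (0, 5), (1, 10), (0, 10), (1, 7), (0, 7), (0, 6), (1, 3)], [(0, 0), (0, 11), (1, 10), (0, 2), (1, 11), (1, 7), (0, 6), (0, 1)], [(0, 0), (1, 0), (0, 11), (0, 2), (1, 1), (1, 11), (0, 10), (1, 9)], [(0, 5), (0, 11), (1, 10), (1, 1), (1, 11), (0, 10), (1, 7), (0, 3)], [(1, 0), (1, 10), (0, 2), (1, 11), (0, 10), (1, 7), (0, 7), (1, 5)], [(0, 11), (0, 2), (1, 1), (0, 10), (1, 7), (0, 7), (0, 6), (1, 4)], [(0, 0), (0, 5), (1, 0), (0, 11), (1, 1), (1, 7), (0, 6), (1, 6)], [(0, 0), (1, 0), (1, 10), (0, 2), (1, 1), (0, 7), (0, 6), (0, 4)]])]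
  fib := []
  n := 12

def r17 : Rec where
  p := 14
  c := 296418681862333505317491920136189480
  a := 463778431330176364254329482461284392
  b := 305672456959900215608008708490527170
  t := [153670094990692265731148860388771872, 527187491831585709021315029315716171, 984073525450079024230760901273880623, 464936710940400357336323396040113453]
  wd := [(1, 0), (1, 4), (2, 0), (2, 11), (2, 7), (2, 2), (2, 5), (2, 4), (1, 1), (2, 13), (1, 6), (3, 0), (0, 0), (2, 1), (1, 2), (1, 3), (2, 9), (1, 5), (2, 8), (2, 10), (2, 12), (3, 1), (2, 6), (2, 3)]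
  sts := [(12, List.range 24, []),
    (0, List.range 24, [[(1, 0), (1, 4), (1, 1), (1, 6), (0, 0), (1, 2), (1, 3), (1, 5)]]),
    (2, List.range 24, [[(1, 0), (1, 4), (2, 0), (2, 11), (2, 7), (2, 4), (1, 6), (0, 0)], [(1, 0), (1, 4), (2, 2), (2, 5), (2, 4), (2, 13), (1, 6), (1, 2)], [(2, 11), (2, 7), (2, 2), (2, 5), (2, 4), (1, 6), (2, 1), (1, 3)], [(1, 0), (2, 0), (2, 11), (2, 2), (2, 13), (1, 6), (2, 1), (2, 9)], [(1, 0), (2, 0), (2, 11), (2, 2), (2, 5), (2, 4), (1, 1), (2, 8)], [(1, 4), (2, 11), (2, 7), (2, 5), (2, 4), (1, 1), (2, 13), (2, 10)], [(2, 0), (2, 7), (2, 2), (2, 4), (1, 1), (2, 13), (1, 6), (2, 12)], [(1, 0), (2, 7), (2, 2), (2, 5), (1, 1), (2, 13), (2, 1), (2, 6)], [(1, 0), (1, 4), (2, 11), (2, 5), (1, 1), (1, 6), (2, 1), (2, 3)]]),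
    (11, List.range 24, [[(1, 4), (2, 0), (2, 11), (2, 7), (2, 2), (1, 1), (3, 0), (2, 1)], [(2, 11), (2, 2), (2, 5), (1, 1), (2, 13), (1, 6), (3, 0), (3, 1)]])]
  fib := []
  n := 14

def r18 : Rec where
  p := 14
  c := 692782671643430358498584137066202775
  a := 840322156277576876012564145245717576
  b := 191750195660573457457329988681739587
  t := [983541033092477334639642879912365152, 320178892432022230502278592370676180, 734316369919347688730088774896529611, 235846830393027639217044234336227858]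
  wd := [(2, 0), (2, 11), (2, 5), (0, 0), (2, 10), (1, 0), (2, 4), (1, 1), (2, 3), (1, 5), (1, 2), (2, 8), (1, 3), (2, 13), (2, 7), (2, 9), (2, 2), (2, 6), (1, 4), (1, 6), (2, 12), (3, 0), (3, 1), (2, 1)]
  sts := [(3, List.range 24, []),
    (5, List.range 24, [[(0, 0), (1, 0), (1, 1), (1, 5), (1, 2), (1, 3), (1, 4), (1, 6)]]),
    (0, List.range 24, [[(2, 0), (2, 11), (2, 5), (0, 0), (2, 10), (1, 1), (1, 2), (1, 3)], [(2, 11), (2, 5), (0, 0), (2, 10), (1, 0), (2, 3), (2, 8), (2, 13)], [(2, 0), (2, 11), (1, 0), (2, 4), (1, 1), (1, 5), (1, 2), (2, 7)], [(2, 11), (2, 5), (2, 4), (1, 1), (2, 3), (1, 2), (2, 8), (2, 9)], [(2, 0), (2, 11), (2, 10), (2, 3), (1, 5), (1, 2), (2, 8), (2, 2)], [(2, 0), (0, 0), (2, 10), (1, 0), (1, 1), (1, 5), (2, 8), (2, 6)], [(2, 0), (2, 5), (0, 0), (1, 0), (2, 4), (1, 1), (2, 3), (1, 4)], [(2, 5), (2, 10), (1, 0), (1, 1), (2, 3), (1, 5), (1, 2),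 (2, 12)], [(2, 0), (2, 5), (2, 10), (1, 0), (2, 4), (1, 2), (2, 8), (2, 1)]]),
    (21, List.range 24, [[(0, 0), (1, 0), (2, 4), (2, 3), (1, 5), (1, 2), (2, 8), (3, 0)], [(2, 0), (2, 11), (2, 5), (0, 0), (2, 4), (1, 5), (2, 8), (3, 1)]])]
  fib := []
  n := 14

def r19 : Rec where
  p := 15
  c := 311800539162905419356353909696843884
  a := 583541760887968903696404674821955923
  b := 348334488617819929225136349300556358
  t := [383703471866345648391691286613441044, 443537530837568313646020075618601600, 894013442423456861128116349602181280, 961330782057598839184037241413533730]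
  wd := [(1, 0), (1, 11), (1, 7), (1, 12), (1, 10), (1, 14), (2, 0), (3, 0), (1, 6), (0, 0), (3, 1), (2, 2), (1, 1), (2, 3), (2, 1), (1, 9), (1, 4), (1, 2), (1, 13), (1, 5), (1, 8), (2, 4), (1, 3), (3, 2)]
  sts := [(9, List.range 24, []),
    (0, List.range 24, [[(1, 0), (1, 7), (1, 10), (1, 14), (1, 6), (1, 1), (1, 4), (1, 2)], [(1, 12), (1, 10), (1, 14), (1, 6), (0, 0), (1, 9), (1, 4), (1, 13)], [(1, 0), (1, 11), (1, 7), (1, 12), (1, 6), (1, 9), (1, 4), (1, 5)], [(1, 0), (1, 11), (1, 12), (1, 14), (1, 6), (0, 0), (1, 1), (1, 8)], [(1, 11), (1, 7), (1, 10), (1, 6), (0, 0), (1, 1), (1, 9), (1, 3)]]),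
    (6, List.range 24, [[(1, 11), (1, 7), (1, 12), (1, 10), (1, 14), (1, 6), (2, 2), (2, 3)], [(1, 7), (1, 12), (1, 10), (1, 14), (2, 0), (0, 0), (1, 1), (2, 1)], [(1, 0), (1, 12), (1, 10), (2, 0), (1, 6), (2, 2), (1, 1), (1, 9)], [(1, 0), (1, 11), (1, 12), (1, 10), (1, 14), (2, 0), (1, 4), (2, 4)]]),
    (7, List.range 24, [[(1, 0), (1, 11), (1, 7), (1, 12), (1, 10), (3, 0), (3, 1), (1, 1)], [(1, 0), (1, 11), (1, 10), (1, 6), (0, 0), (3, 1), (2, 2), (1, 4)], [(1, 0), (1, 7), (1, 10), (1, 14), (2, 0), (3, 1), (2, 2), (3, 2)]])]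
  fib := []
  n := 15

def r20 : Rec where
  p := 15
  c := 682877364871969722836355392054863185
  a := 212178338028263872408181108088244914
  b := 811475143099040166422578622670546123
  t := [854446485742843924843503575035617477, 682351328493318360230804514442381344, 307183762473332869755460685079426538, 716116640940482686066117815916738561]
  wd := [(1, 0), (1, 13), (2, 0), (0, 0), (1, 12), (1, 3), (1, 7), (2, 3), (1, 11), (2, 1), (1, 14), (1, 2), (1, 9), (3, 0), (1, 5), (1, 8), (3, 2), (1, 1), (1, 6), (1, 10), (2, 2), (2, 4), (1, 4), (3, 1)]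
  sts := [(3, List.range 24, []),
    (0, List.range 24, [[(1, 0), (0, 0), (1, 12), (1, 7), (1, 11), (1, 2), (1, 9), (1, 8)], [(1, 13), (0, 0), (1, 12), (1, 7), (1, 14), (1, 2), (1, 5), (1, 1)], [(1, 13), (1, 12), (1, 3), (1, 7), (1, 11), (1, 14), (1, 9), (1, 6)], [(1, 0), (0, 0), (1, 12), (1, 3), (1, 11), (1, 14), (1, 5), (1, 10)], [(1, 0), (1, 13), (1, 12), (1, 3), (1, 2), (1, 9), (1, 5), (1, 4)]]),
    (2, List.range 24, [[(1, 0), (1, 13), (2, 0), (0, 0), (1, 12), (2, 3), (1, 14), (1, 9)], [(1, 0), (1, 13), (1, 3), (1, 7), (2, 3), (2, 1), (1, 14), (1, 5)], [(2, 0), (1, 12), (1, 3), (2, 3), (1, 11), (2, 1), (1, 14), (2, 2)], [(0, 0), (1, 3), (1, 7), (1, 11), (2, 1), (1, 14), (1, 2), (2, 4)]]),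
    (13, List.range 24, [[(1, 13), (2, 0), (0, 0), (1, 12), (1, 3), (1, 11), (1, 2), (3, 0)], [(1, 0), (1, 13), (1, 12), (1, 11), (2, 1), (1, 14), (1, 2), (3, 2)], [(1, 0), (2, 0), (1, 12), (1, 3), (1, 7), (1, 14), (1, 2), (3, 1)]])]
  fib := []
  n := 15

def r21 : Rec where
  p := 21
  c := 152660159869748298187992742290470223
  a := 436422604625804141473632881699654701
  b := 112008364550046729086990141290304910
  t := [944207303052495189216999303548016751, 87199546305716872405012105485048882, 57402349206485017715177937827943154, 984796692001594788343095819449810272]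
  wd := [(0, 0), (1, 0), (0, 17), (0, 7), (0, 5), (0, 15), (0, 13), (0, 20), (0, 4), (0, 3), (1, 1), (0, 12), (0, 14), (0, 18), (1, 2), (0, 1), (0, 2), (0, 16), (0, 19), (0, 10), (0, 11), (0, 9), (0, 8), (0, 6)]
  sts := [(0, List.range 24, [[(0, 0), (0, 7), (0, 5), (0, 13), (0, 4), (0, 12), (0, 14), (0, 1)], [(0, 17), (0, 7), (0, 20), (0, 4), (0, 3), (0, 12), (0, 14), (0, 2)], [(0, 0), (0, 7), (0, 5), (0, 15), (0, 20), (0, 3), (0, 12), (0, 16)], [(0, 0), (0, 17), (0, 7), (0, 15), (0, 13), (0, 20), (0, 4), (0, 19)], [(0, 17), (0, 15), (0, 13), (0, 20), (0, 3), (0, 12), (0, 18), (0, 10)], [(0, 0), (0, 17), (0, 5), (0, 3), (0, 12), (0, 14), (0, 18), (0, 11)], [(0, 0), (0, 7), (0, 13), (0, 20), (0, 3), (0, 14), (0, 18), (0, 9)], [(0, 0), (0, 5), (0, 15), (0, 13), (0, 4), (0, 3), (0, 18), (0, 8)], [(0, 17), (0, 5), (0, 13), (0, 20), (0, 4), (0, 14), (0, 18), (0, 6)]]),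
    (1, List.range 24, [[(0, 0), (1, 0), (0, 17), (0, 7), (0, 5), (0, 20), (1, 1), (0, 14)], [(1, 0), (0, 17), (0, 7), (0, 5), (0, 15), (0, 4), (0, 12), (0, 18)], [(0, 0), (1, 0), (0, 15), (0, 13), (0, 20), (0, 3), (1, 1), (1, 2)]])]
  fib := []
  n := 21

def r22 : Rec where
  p := 21
  c := 801752737117678585333135729932738209
  a := 774522344323234925943509561120434435
  b := 487443549229519398876832598309667911
  t := [973110185215742794043001181361510676, 478031323623186745181537996017936689, 506273832920142165805363002687635637, 422342651126977408006835094951084128]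
  wd := [(0, 0), (0, 1), (0, 15), (0, 17), (1, 0), (1, 2), (0, 10), (0, 16), (0, 7), (0, 9), (0, 20), (0, 18), (0, 6), (0, 12), (1, 1), (0, 14), (0, 11), (0, 19), (0, 13), (0, 5), (0, 3), (0, 2), (0, 8), (0, 4)]
  sts := [(0, List.range 24, [[(0, 1), (0, 15), (0, 10), (0, 16), (0, 7), (0, 20), (0, 18), (0, 14)], [(0, 15), (0, 17), (0, 16), (0, 7), (0, 9), (0, 18), (0, 6), (0, 11)], [(0, 0), (0, 1), (0, 15), (0, 16), (0, 7), (0, 9), (0, 12), (0, 19)], [(0, 15), (0, 17), (0, 10), (0, 20), (0, 18), (0, 6), (0, 12), (0, 13)], [(0, 0), (0, 15), (0, 10), (0, 7), (0, 9), (0, 20), (0, 6), (0, 5)], [(0, 1), (0, 17), (0, 16), (0, 9), (0, 20), (0, 18), (0, 12), (0, 3)], [(0, 0), (0, 17), (0, 10), (0, 16), (0, 9), (0, 6), (0, 12), (0, 2)], [(0, 0), (0, 1), (0, 15), (0, 17), (0, 10), (0, 9), (0, 18), (0, 8)], [(0, 0), (0, 1), (0, 17), (0, 10), (0, 7), (0, 20), (0, 12), (0, 4)]]),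
    (4, List.range 24, [[(0, 0), (0, 1), (0, 15), (0, 17), (1, 0), (0, 16), (0, 20), (0, 6)], [(0, 1), (0, 15), (0, 17), (1, 0), (1, 2), (0, 7), (0, 18), (0, 12)], [(0, 0), (0, 1), (1, 2), (0, 10), (0, 16), (0, 9), (0, 20), (1, 1)]])]
  fib := []
  n := 21

def r23 : Rec where
  p := 23
  c := 798750777926542184211457386217854674
  a := 337544081136435300536051494298401456
  b := 64077218252046864031994176416792138
  t := [732993937996320716380316387855411328, 10689520152972537323627906795190775, 978239198764604640668953934463309856, 731654578487116904385084660338007339]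
  wd := [(1, 0), (1, 5), (1, 11), (1, 20), (1, 15), (1, 4), (1, 14), (1, 7), (1, 19), (1, 8), (1, 13), (1, 21), (1, 2), (1, 3), (1, 9), (0, 0), (1, 10), (1, 22), (1, 1), (1, 18), (1, 16), (1, 12), (1, 6), (1, 17)]
  sts := [(15, List.range 24, []),
    (0, List.range 24, [[(1, 0), (1, 5), (1, 11), (1, 20), (1, 15), (1, 7), (1, 13), (1, 2)], [(1, 5), (1, 11), (1, 20), (1, 15), (1, 4), (1, 19), (1, 21), (1, 3)], [(1, 0), (1, 5), (1, 4), (1, 14), (1, 7), (1, 8), (1, 13), (1, 9)], [(1, 5), (1, 11), (1, 14), (1, 7), (1, 19), (1, 13), (1, 21), (0, 0)], [(1, 0), (1, 5), (1, 15), (1, 19), (1, 8), (1, 13), (1, 21), (1, 10)], [(1, 0), (1, 20), (1, 15), (1, 4), (1, 7), (1, 8), (1, 21), (1, 22)], [(1, 0), (1, 11), (1, 20), (1, 4), (1, 14), (1, 7), (1, 19), (1, 1)], [(1, 5), (1, 20), (1, 15), (1, 14), (1, 7), (1, 19), (1, 8), (1, 18)], [(1, 11), (1, 15), (1, 4), (1, 7), (1, 19), (1,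 8), (1, 13), (1, 16)], [(1, 20), (1, 4), (1, 14), (1, 19), (1, 8), (1, 13), (1, 21), (1, 12)], [(1, 0), (1, 5), (1, 11), (1, 20), (1, 14), (1, 8), (1, 21), (1, 6)], [(1, 0), (1, 11), (1, 15), (1, 4), (1, 14), (1, 13), (1, 21), (1, 17)]])]
  fib := []
  n := 23

def r24 : Rec where
  p := 23
  c := 547179429011475480724681305400648085
  a := 149612786828068320871081488285187493
  b := 506540032298527243934442288671939181
  t := [153375631617961069668421869927893620, 569427840398567209661234307758459392, 969240122908570073025834137968740389, 983554386309413812732440819947258065]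
  wd := [(1, 0), (1, 6), (1, 10), (1, 15), (1, 18), (1, 21), (1, 8), (0, 0), (1, 11), (1, 5), (1, 12), (1, 16), (1, 7), (1, 4), (1, 14), (1, 17), (1, 9), (1, 2), (1, 19), (1, 13), (1, 22), (1, 1), (1, 20), (1, 3)]
  sts := [(7, List.range 24, []),
    (0, List.range 24, [[(1, 0), (1, 6), (1, 10), (1, 15), (1, 18), (0, 0), (1, 12), (1, 7)], [(1, 6), (1, 10), (1, 15), (1, 18), (1, 21), (1, 11), (1, 16), (1, 4)], [(1, 0), (1, 6), (1, 21), (1, 8), (0, 0), (1, 5), (1, 12), (1, 14)], [(1, 6), (1, 10), (1, 8), (0, 0), (1, 11), (1, 12), (1, 16), (1, 17)], [(1, 0), (1, 6), (1, 18), (1, 11), (1, 5), (1, 12), (1, 16), (1, 9)], [(1, 0), (1, 15), (1, 18), (1, 21), (0, 0), (1, 5), (1, 16), (1, 2)], [(1, 0), (1, 10), (1, 15), (1, 21), (1, 8), (0, 0), (1, 11), (1, 19)], [(1, 6), (1, 15), (1, 18), (1, 8), (0, 0), (1, 11), (1, 5), (1, 13)], [(1, 10), (1, 18), (1, 21), (0, 0), (1, 11), (1,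 5), (1, 12), (1, 22)], [(1, 15), (1, 21), (1, 8), (1, 11), (1, 5), (1, 12), (1, 16), (1, 1)], [(1, 0), (1, 6), (1, 10), (1, 15), (1, 8), (1, 5), (1, 16), (1, 20)], [(1, 0), (1, 10), (1, 18), (1, 21), (1, 8), (1, 12), (1, 16), (1, 3)]])]
  fib := []
  n := 23

def D : List Rec := [r0, r1, r2, r3, r4, r5, r6, r7, r8, r9, r10, r11, r12, r13, r14, r15, r16, r17, r18, r19, r20, r21, r22, r23, r24]

end Cfsg.Agent.H334.Ore.M24Data
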