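import Cfsg.Agent.H729.Count
import Cfsg.Agent.SmallSimple.Simple168
import Cfsg.Agent.H777.Ore.Base

/-!
# Commutators and products of four involutions in the Mathieu groups `M22`, `M23`, `M24`: the engine

A kernel-checked list of representatives of all conjugacy classes of a group embedded in `M24`.

* `cover` : if the classes of the `x i ≠ 1` are different, `|C(x i)| ≤ n i` and `|G| ≤ 1 + ∑ |G| / n i`, every
  element `≠ 1` is conjugate to some `x i`;
* `Rec`, `chkC`, `chkA`, `chkT`, `chkP` : a representative `c = [a, b] = t₁ t₂ t₃ t₄` with a certificate for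
  `|C(c)| ≤ n` (search of `H729.Trans`); different classes;
* `cover_of_data`, `allC_of_data`, `inv4_of_data`.
-/

set_option autoImplicit false
set_option linter.unusedSectionVars false

namespace Cfsg.Agent.H334.Ore.Mat

open Cfsg Finset
open Cfsg.Agent.SporadicA.GolayBase Cfsg.Agent.SporadicA.GolayPerm
open Cfsg.Agent.SporadicStructure.M24El Cfsg.Agent.H729.Trans Cfsg.Agent.H729.MData Cfsg.Agent.H729.Count

/-! ### covering -/

theorem cover {G : Type*} [Group G] [Finite G] {k : ℕ} (x : Fin k → G) (n : Fin k → ℕ) (hx : ∀ i, x i ≠ 1)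
    (hc : ∀ i, Nat.card (Subgroup.centralizer ({x i} : Set G)) ≤ n i)
    (hne : ∀ i j, IsConj (x i) (x j) → i = j) (hsum : Nat.card G ≤ 1 + ∑ i, Nat.card G / n i) (g : G) :
    g = 1 ∨ ∃ i, IsConj (x i) g := by
  classical
  have : Fintype G := Fintype.ofFinite G
  set S : Fin k → Finset G := fun i => univ.filter fun g => IsConj (x i) g with hS
  have h1 : ∀ i, Nat.card G / n i ≤ (S i).card := by
    intro i
    have h2 := Cfsg.Agent.SmallSimple.Simple168.card_isConj_mul_card_centralizer (x i)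
    have h3 : Nat.card {g : G // IsConj (x i) g} = (S i).card := by
      rw [Nat.card_eq_fintype_card, Fintype.card_subtype]
    rw [h3] at h2
    refine Nat.div_le_of_le_mul ?_
    rw [mul_comm, ← h2]
    exact Nat.mul_le_mul_left _ (hc i)
  have h4 : (univ.biUnion S).card = ∑ i, (S i).card := by
    refine card_biUnion ?_
    intro i _ j _ hij
    rw [Function.onFun, Finset.disjoint_left]
    intro g hg hg'
    rw [hS] at hg hg'
    simp only [mem_filter, mem_univ, true_and] at hg hg'
    exact hij (hne i j (hg.trans hg'.symm))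
  have h0 : (1 : G) ∉ univ.biUnion S := by
    intro h
    obtain ⟨i, -, hi⟩ := mem_biUnion.1 h
    rw [hS] at hi
    simp only [mem_filter, mem_univ, true_and] at hi
    exact hx i (isConj_one_left.1 hi)
  have h5 : Fintype.card G ≤ (insert 1 (univ.biUnion S)).card := by
    rw [card_insert_of_notMem h0, h4, add_comm, ← Nat.card_eq_fintype_card]
    exact hsum.trans (Nat.add_le_add_left (sum_le_sum fun i _ => h1 i) 1)
  have h6 : insert 1 (univ.biUnion S) = univ := by
    rw [← Finset.card_eq_iff_eq_univ]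
    exact le_antisymm (Finset.card_le_univ _) h5
  have h7 : g ∈ insert 1 (univ.biUnion S) := by rw [h6]; exact mem_univ g
  rcases mem_insert.1 h7 with h | h
  · exact Or.inl h
  · obtain ⟨i, -, hi⟩ := mem_biUnion.1 h
    rw [hS] at hi
    simp only [mem_filter, mem_univ, true_and] at hi
    exact Or.inr ⟨i, hi⟩

theorem inv4_congr {G H : Type*} [Group G] [Group H] (e : G ≃* H) (h : Cfsg.Agent.H777.Ore.Inv4 G) :
    Cfsg.Agent.H777.Ore.Inv4 H := by
  intro x
  obtain ⟨a, b, c, d, ha, hb, hc, hd, hx⟩ := h (e.symm x)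
  refine ⟨e a, e b, e c, e d, ?_, ?_, ?_, ?_, ?_⟩
  · rw [← map_mul, ha, map_one]
  · rw [← map_mul, hb, map_one]
  · rw [← map_mul, hc, map_one]
  · rw [← map_mul, hd, map_one]
  · rw [← map_mul, ← map_mul, ← map_mul, ← hx, MulEquiv.apply_symm_apply]

/-! ### images of the points -/

theorem im_mul (g h : M24) (j : ℕ) : im (g * h) j = im g (im h j) := by
  unfold im
  rw [pt_idx]
  rfl

theorem im_one {j : ℕ} (hj : j < 24) : im 1 j = j := by
  show idx (pt j) = j
  exact idx_pt hj

theorem im_el {c : ℕ} (hc : ok c = true) {i : ℕ} (hi : i < 24) : im (el c) i = papp c i := by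
  have h := idx_el_smul hc (pt i)
  rw [idx_pt hi] at h
  exact h

theorem im_el_pow {c : ℕ} (hc : ok c = true) (k : ℕ) {i : ℕ} (hi : i < 24) : im (el c ^ k) i = pw c k i := by
  induction k with
  | zero => rw [pow_zero]; exact im_one hi
  | succ k ih =>
    rw [pow_succ', im_mul, ih, im_el hc (pw_lt hc k hi)]
    rfl

/-! ### invariants -/

/-- number of fixed points -/
def fx (g : M24) : ℕ := (univ.filter fun p => (g : Equiv.Perm GolayPt) p = p).card

theorem fx_conj (c g : M24) : fx (c * g * c⁻¹) = fx g := by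
  unfold fx
  symm
  apply Finset.card_bij (fun p _ => (c : Equiv.Perm GolayPt) p)
  · intro p hp
    rw [Finset.mem_filter] at hp ⊢
    refine ⟨Finset.mem_univ _, ?_⟩
    show (c : Equiv.Perm GolayPt) ((g : Equiv.Perm GolayPt) ((c : Equiv.Perm GolayPt)⁻¹ ((c : Equiv.Perm GolayPt) p))) =
      (c : Equiv.Perm GolayPt) p
    rw [show (c : Equiv.Perm GolayPt)⁻¹ ((c : Equiv.Perm GolayPt) p) = p from Equiv.symm_apply_apply _ p, hp.2]
  · intro p _ q _ h
    exact (c : Equiv.Perm GolayPt).injective h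
  · intro q hq
    rw [Finset.mem_filter] at hq
    refine ⟨(c : Equiv.Perm GolayPt)⁻¹ q, ?_, Equiv.apply_symm_apply _ q⟩
    rw [Finset.mem_filter]
    refine ⟨Finset.mem_univ _, ?_⟩
    have h2 : (c : Equiv.Perm GolayPt) ((g : Equiv.Perm GolayPt) ((c : Equiv.Perm GolayPt)⁻¹ q)) = q := hq.2
    apply (c : Equiv.Perm GolayPt).injective
    rw [h2]
    exact (Equiv.apply_symm_apply (c : Equiv.Perm GolayPt) q).symm

/-- number of fixed points of a power of a table -/
def fc (c k : ℕ) : ℕ := ((List.range 24).filter fun i => Nat.beq (pw c k i) i).length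

theorem fx_pow {c : ℕ} (hc : ok c = true) (k : ℕ) : fx (el c ^ k) = fc c k := by
  unfold fx fc
  rw [← List.toFinset_card_of_nodup ((List.nodup_range).filter _)]
  apply Finset.card_bij (fun p _ => idx p)
  · intro p hp
    rw [Finset.mem_filter] at hp
    rw [List.mem_toFinset, List.mem_filter]
    refine ⟨List.mem_range.2 (idx_lt p), ?_⟩
    rw [← im_el_pow hc k (idx_lt p)]
    unfold im
    rw [pt_idx, hp.2]
    exact Nat.beq_refl _
  · intro p _ q _ h
    exact idx_injective h
  · intro i hi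
    rw [List.mem_toFinset, List.mem_filter] at hi
    have hi24 := List.mem_range.1 hi.1
    refine ⟨pt i, ?_, idx_pt hi24⟩
    rw [Finset.mem_filter]
    refine ⟨Finset.mem_univ _, ?_⟩
    apply idx_injective
    have h := Nat.eq_of_beq_eq_true hi.2
    rw [← im_el_pow hc k hi24] at h
    rw [idx_pt hi24]
    exact h

/-- the invariant of a table -/
def inv (c : ℕ) : List ℕ := (List.range 12).map fun k => fc c (k + 1)

theorem inv_eq {c c' : ℕ} (hc : ok c = true) (hc' : ok c' = true) (h : IsConj (el c) (el c')) : inv c = inv c' := by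
  unfold inv
  apply List.map_congr_left
  intro k _
  obtain ⟨g, hg⟩ := isConj_iff.1 h
  rw [← fx_pow hc, ← fx_pow hc', ← hg, conj_pow, fx_conj]

/-! ### centralizers -/

section

variable {G : Type*} [Group G] [Finite G] (φ : G →* M24)

/-- the elements commuting with `x` and fixing the points of `L` -/
def Hs (x : G) (L : List ℕ) : Subgroup G where
  carrier := {g | g * x = x * g ∧ ∀ b ∈ L, b < 24 → im (φ g) b = b}
  one_mem' := ⟨by rw [one_mul, mul_one], fun b _ hb => by rw [map_one, im_one hb]⟩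
  mul_mem' := by
    rintro a b ⟨ha, ha'⟩ ⟨hb, hb'⟩
    refine ⟨by rw [mul_assoc, hb, ← mul_assoc, ha, mul_assoc], fun i hi hi' => ?_⟩
    rw [map_mul, im_mul, hb' i hi hi', ha' i hi hi']
  inv_mem' := by
    rintro a ⟨ha, ha'⟩
    refine ⟨by rw [inv_mul_eq_iff_eq_mul, ← mul_assoc, ha, mul_inv_cancel_right], fun i hi hi' => ?_⟩
    have h := ha' i hi hi'
    have h1 : im (φ a⁻¹) (im (φ a) i) = i := by rw [← im_mul, ← map_mul, inv_mul_cancel, map_one, im_one hi']
    rwa [h] at h1

/-- An excluded image, with the stages of the search which excludes it. -/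
structure Ex where
  i : ℕ
  wd : List (ℕ × ℕ)
  sts : List (ℕ × List ℕ × List (List (ℕ × ℕ)))

/-- A point whose orbit is counted, with excluded images. -/
structure Fib where
  b : ℕ
  e : List Ex

/-- the excluded images -/
def Fib.ex (f : Fib) : List ℕ := f.e.map Ex.i

/-- the candidates for the image of a point -/
def cA (p c : ℕ) (L : List ℕ) (b : ℕ) (ex : List ℕ) : List ℕ :=
  (List.range 24).filter fun i =>
    ((List.range 12).all fun k => !(Bool.xor (Nat.beq (pw c (k + 1) b) b) (Nat.beq (pw c (k + 1) i) i))) &&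
    ((L.all fun b' => Nat.blt b' 24 && (List.range p).all fun e => !(Nat.beq (pw c e b') i)) &&
      ex.all fun j => !(Nat.beq j i))

theorem mem_cA {p c : ℕ} {L : List ℕ} {b : ℕ} {ex : List ℕ} {i : ℕ} (h : i ∈ cA p c L b ex) : i < 24 ∧
    ∀ b' ∈ L, b' < 24 ∧ ∀ e < p, pw c e b' ≠ i := by
  unfold cA at h
  rw [List.mem_filter, Bool.and_eq_true, Bool.and_eq_true] at h
  refine ⟨List.mem_range.1 h.1, fun b' hb' => ?_⟩
  have h1 := List.all_eq_true.1 h.2.2.1 b' hb'
  rw [Bool.and_eq_true] at h1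
  refine ⟨Nat.blt_eq.mp h1.1, fun e he h2 => ?_⟩
  have h3 := List.all_eq_true.1 h1.2 e (List.mem_range.2 he)
  rw [h2, Nat.beq_refl] at h3
  exact Bool.noConfusion h3

theorem card_step {x : G} {p c : ℕ} (hc : ok c = true) (hx : φ x = el c) {L : List ℕ} {b : ℕ} {ex : List ℕ}
    (hb : b ∈ cA p c L b ex) (hex : ∀ i ∈ ex, ∀ g ∈ Hs φ x L, im (φ g) b ≠ i) :
    Nat.card (Hs φ x L) ≤ (cA p c L b ex).length * Nat.card (Hs φ x (b :: L)) := by
  classical
  have : Fintype G := Fintype.ofFinite G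
  obtain ⟨hb24, hbL⟩ := mem_cA hb
  have hmaps : ∀ g ∈ (univ : Finset (Hs φ x L)), im (φ (g : G)) b ∈ (cA p c L b ex).toFinset := by
    rintro ⟨g, hg1, hg2⟩ -
    rw [List.mem_toFinset]
    unfold cA
    have hcomm : φ g * el c = el c * φ g := by rw [← hx, ← map_mul, ← map_mul, hg1]
    rw [List.mem_filter, Bool.and_eq_true, Bool.and_eq_true]
    refine ⟨List.mem_range.2 (im_lt _ _), ?_, ?_, ?_⟩
    · refine List.all_eq_true.2 fun k _ => ?_
      have h1 := im_pw hc hc (φ g) hcomm (k + 1) hb24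
      have h2 : Nat.beq (pw c (k + 1) b) b = Nat.beq (pw c (k + 1) (im (φ g) b)) (im (φ g) b) := by
        rw [← h1]
        by_cases h : pw c (k + 1) b = b
        · rw [h, Nat.beq_refl, Nat.beq_refl]
        · rw [Bool.eq_false_iff.2 fun h' => h (Nat.eq_of_beq_eq_true h'),
            Bool.eq_false_iff.2 fun h' => h (im_inj (φ g) (pw_lt hc _ hb24) hb24 (Nat.eq_of_beq_eq_true h'))]
      rw [h2, Bool.xor_self, Bool.not_false]
    · refine List.all_eq_true.2 fun b' hb' => ?_
      obtain ⟨h24, hne⟩ := hbL b' hb'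
      rw [Bool.and_eq_true]
      refine ⟨Nat.blt_eq.mpr h24, List.all_eq_true.2 fun e he => ?_⟩
      rw [Bool.not_eq_true', Bool.eq_false_iff]
      intro h
      have h1 : pw c e b' = im (φ g) b := Nat.eq_of_beq_eq_true h
      have h2 := im_pw hc hc (φ g) hcomm e h24
      rw [hg2 b' hb' h24] at h2
      exact hne e (List.mem_range.1 he) (im_inj (φ g) (pw_lt hc e h24) hb24 (h2.trans h1))
    · refine List.all_eq_true.2 fun j hj => ?_
      rw [Bool.not_eq_true', Bool.eq_false_iff]
      intro h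
      exact hex j hj g ⟨hg1, hg2⟩ (Nat.eq_of_beq_eq_true h).symm
  have hfib : ∀ i ∈ (cA p c L b ex).toFinset, ((univ : Finset (Hs φ x L)).filter fun g : Hs φ x L => im (φ (g : G)) b = i).card ≤
      Nat.card (Hs φ x (b :: L)) := by
    intro i _
    rcases ((univ : Finset (Hs φ x L)).filter fun g : Hs φ x L => im (φ (g : G)) b = i).eq_empty_or_nonempty with h | ⟨g₀, h0⟩
    · rw [h, Finset.card_empty]
      exact Nat.zero_le _
    · have h0' : im (φ (g₀ : G)) b = i := (mem_filter.1 h0).2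
      rw [← Fintype.card_coe, ← Nat.card_eq_fintype_card]
      have key : ∀ g : ↥((univ : Finset (Hs φ x L)).filter fun g : Hs φ x L => im (φ (g : G)) b = i),
          ((g₀ : G)⁻¹ * ((g : Hs φ x L) : G)) ∈ Hs φ x (b :: L) := by
        rintro ⟨g, hg⟩
        have hg' : im (φ (g : G)) b = i := (mem_filter.1 hg).2
        have hm : (g₀ : G)⁻¹ * (g : G) ∈ Hs φ x L := (Hs φ x L).mul_mem ((Hs φ x L).inv_mem g₀.2) g.2
        refine ⟨hm.1, fun b' hb' hb'' => ?_⟩
        rcases List.mem_cons.1 hb' with rfl | h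
        · rw [map_mul, im_mul, hg', ← h0', ← im_mul, ← map_mul, inv_mul_cancel, map_one, im_one hb'']
        · exact hm.2 b' h hb''
      refine Nat.card_le_card_of_injective (fun g => (⟨_, key g⟩ : Hs φ x (b :: L))) ?_
      intro g g' h
      have h1 := congrArg Subtype.val h
      exact Subtype.ext (Subtype.ext (mul_left_cancel h1))
  have h1 := Finset.card_le_mul_card_image_of_maps_to hmaps (Nat.card (Hs φ x (b :: L))) hfib
  rw [Finset.card_univ, ← Nat.card_eq_fintype_card] at h1
  refine h1.trans ?_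
  rw [mul_comm]
  exact Nat.mul_le_mul_right _ (List.toFinset_card_le _)

/-- the product of the numbers of candidates -/
def fiber (p c : ℕ) : List ℕ → List Fib → ℕ
  | _, [] => 1
  | L, f :: fs => (cA p c L f.b f.ex).length * fiber p c (f.b :: L) fs

/-- the candidate lists are `0, …, 23` or a single fixed point, or the image `i` for the point `b` -/
def stOk' (F : List ℕ) (b i : ℕ) (sts : List (ℕ × List ℕ × List (List (ℕ × ℕ)))) : Bool :=
  sts.all fun st => (Nat.beq st.1 b && decide (st.2.1 = [i])) ||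
    (decide (st.2.1 = List.range 24) || (decide (st.2.1 = [st.1]) && decide (st.1 ∈ F)))

/-- whether the exclusion of images is justified -/
def exOk (F : List ℕ) (p c : ℕ) (L : List ℕ) (f : Fib) : Bool :=
  f.e.all fun e => pre p c e.wd e.sts && (stOk' (F ++ L) f.b e.i e.sts && (tl p c c e.wd e.sts).isEmpty)

/-- whether the points are admissible -/
def fibOk (F : List ℕ) (p c : ℕ) : List ℕ → List Fib → Bool
  | _, [] => true
  | L, f :: fs => decide (f.b ∈ cA p c L f.b f.ex) && (exOk F p c L f && fibOk F p c (f.b :: L) fs)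

/-- the points of the chain -/
def pts : List Fib → List ℕ → List ℕ
  | [], L => L
  | f :: fs, L => pts fs (f.b :: L)

theorem ne_of_exOk {F : List ℕ} (hF : ∀ g : G, ∀ b ∈ F, im (φ g) b = b) {x : G} {p c : ℕ} (hc : ok c = true)
    (hx : φ x = el c) {L : List ℕ} (hL : ∀ b ∈ L, b < 24) {f : Fib} (h : exOk F p c L f = true) {i : ℕ} (hi : i ∈ f.ex)
    {g : G} (hg : g ∈ Hs φ x L) : im (φ g) f.b ≠ i := by
  intro h0
  obtain ⟨e, he, rfl⟩ := List.mem_map.1 hi
  have h1 := List.all_eq_true.1 h e he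
  rw [Bool.and_eq_true, Bool.and_eq_true] at h1
  obtain ⟨h2, h3, h4⟩ := h1
  have hcomm : φ g * el c = el c * φ g := by rw [← hx, ← map_mul, ← map_mul, hg.1]
  have h5 := packOf_mem_tl h2 hc (φ g) hcomm (by
    intro s hs
    have h6 := List.all_eq_true.1 h3 s hs
    rw [Bool.or_eq_true, Bool.and_eq_true, decide_eq_true_iff, Bool.or_eq_true, Bool.and_eq_true, decide_eq_true_iff,
      decide_eq_true_iff, decide_eq_true_iff] at h6
    rcases h6 with ⟨h6, h7⟩ | h6
    · rw [h7, Nat.eq_of_beq_eq_true h6, h0]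
      exact List.mem_singleton.2 rfl
    · rcases h6 with h6 | ⟨h6, h7⟩
      · rw [h6]
        exact List.mem_range.2 (im_lt _ _)
      · rw [h6]
        rcases List.mem_append.1 h7 with h7 | h7
        · rw [hF g _ h7]
          exact List.mem_singleton.2 rfl
        · rw [hg.2 _ h7 (hL _ h7)]
          exact List.mem_singleton.2 rfl)
  rw [List.isEmpty_iff] at h4
  rw [h4] at h5
  exact List.not_mem_nil h5

theorem card_fiber {F : List ℕ} (hF : ∀ g : G, ∀ b ∈ F, im (φ g) b = b) {x : G} {p c : ℕ} (hc : ok c = true)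
    (hx : φ x = el c) : ∀ (fs : List Fib) (L : List ℕ), (∀ b ∈ L, b < 24) → fibOk F p c L fs = true →
    Nat.card (Hs φ x L) ≤ fiber p c L fs * Nat.card (Hs φ x (pts fs L)) ∧ ∀ b ∈ pts fs L, b < 24 := by
  intro fs
  induction fs with
  | nil => intro L hL _; exact ⟨(one_mul _).ge, hL⟩
  | cons f fs ih =>
    intro L hL h
    unfold fibOk at h
    rw [Bool.and_eq_true, Bool.and_eq_true, decide_eq_true_iff] at h
    obtain ⟨ha, hb, hd⟩ := h
    have h1 := card_step φ hc hx ha (fun i hi g hg => ne_of_exOk φ hF hc hx hL hb hi hg)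
    obtain ⟨h2, h3⟩ := ih (f.b :: L) (by
      intro b hb'
      rcases List.mem_cons.1 hb' with rfl | hb'
      · exact (mem_cA ha).1
      · exact hL b hb') hd
    refine ⟨?_, h3⟩
    show _ ≤ (cA p c L f.b f.ex).length * fiber p c (f.b :: L) fs * _
    rw [mul_assoc]
    exact h1.trans (Nat.mul_le_mul_left _ h2)

/-- the candidate lists are `0, …, 23` or a single fixed point -/
def stOk (F : List ℕ) (sts : List (ℕ × List ℕ × List (List (ℕ × ℕ)))) : Bool :=
  sts.all fun st => decide (st.2.1 = List.range 24) || (decide (st.2.1 = [st.1]) && decide (st.1 ∈ F))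

theorem st_mem {F : List ℕ} {sts : List (ℕ × List ℕ × List (List (ℕ × ℕ)))} (h : stOk F sts = true) {g : M24}
    (hg : ∀ b ∈ F, im g b = b) : ∀ st ∈ sts, im g st.1 ∈ st.2.1 := by
  intro st hst
  have h1 := List.all_eq_true.1 h st hst
  rw [Bool.or_eq_true, Bool.and_eq_true, decide_eq_true_iff, decide_eq_true_iff, decide_eq_true_iff] at h1
  rcases h1 with h1 | ⟨h1, h2⟩
  · rw [h1]
    exact List.mem_range.2 (im_lt _ _)
  · rw [h1, hg _ h2]
    exact List.mem_singleton.2 rfl

variable {φ} (hφ : Function.Injective φ) {F : List ℕ} (hF : ∀ g : G, ∀ b ∈ F, im (φ g) b = b)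

include hφ hF in
theorem card_Hs_le {x : G} {p c : ℕ} {L : List ℕ} {wd : List (ℕ × ℕ)}
    {sts : List (ℕ × List ℕ × List (List (ℕ × ℕ)))} (h : pre p c wd sts = true) (hx : φ x = el c)
    (hL : ∀ b ∈ L, b < 24) (hst : stOk (F ++ L) sts = true) :
    Nat.card (Hs φ x L) ≤ (tl p c c wd sts).length := by
  classical
  have hc := ok_of_pre h
  set T : List ℕ := tl p c c wd sts with hT
  have key : ∀ z : Hs φ x L, packOf (φ z.1 : Equiv.Perm GolayPt) ∈ T.toFinset := by
    rintro ⟨z, hz1, hz2⟩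
    rw [List.mem_toFinset, hT]
    refine packOf_mem_tl h hc (φ z) ?_ (st_mem hst ?_)
    · rw [← hx, ← map_mul, ← map_mul, hz1]
    · intro b hb
      rcases List.mem_append.1 hb with hb | hb
      · exact hF z b hb
      · exact hz2 b hb (hL b hb)
  have h1 : Nat.card (Hs φ x L) ≤ Nat.card T.toFinset := by
    refine Nat.card_le_card_of_injective (fun z => ⟨_, key z⟩) ?_
    intro a b hab
    have h2 := congrArg Subtype.val hab
    exact Subtype.ext (hφ (packOf_inj h2))
  refine h1.trans ?_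
  rw [Nat.card_eq_fintype_card, Fintype.card_coe]
  exact List.toFinset_card_le T

/-- The data of a class: order, representative, `c = [a, b] = t₁ t₂ t₃ t₄`, description of the points, stages of the
search, points whose orbits are counted, bound for the centralizer. -/
structure Rec where
  p : ℕ
  c : ℕ
  a : ℕ
  b : ℕ
  t : List ℕ
  wd : List (ℕ × ℕ)
  sts : List (ℕ × List ℕ × List (List (ℕ × ℕ)))
  fib : List Fib
  n : ℕ

/-- The check of the centralizer. -/
def chkC (F : List ℕ) (r : Rec) : Bool :=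
  pre r.p r.c r.wd r.sts && (stOk (F ++ pts r.fib []) r.sts && (fibOk F r.p r.c [] r.fib &&
    Nat.ble (fiber r.p r.c [] r.fib * (tl r.p r.c r.c r.wd r.sts).length) r.n))

/-- Whether the table is in the group. -/
def inG (F : List ℕ) (a : ℕ) : Bool := ok a && F.all fun x => Nat.beq (papp a x) x

/-- The check of the commutator and of the four involutions. -/
def chkA (F : List ℕ) (r : Rec) : Bool :=
  inG F r.c && (inG F r.a && (inG F r.b && (((List.range 24).any fun i => !(Nat.beq (papp r.c i) i)) &&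
    (Nat.beq (pcomp r.a r.b) (pcomp r.c (pcomp r.b r.a)) && ((r.t.all fun t => inG F t && Nat.beq (pcomp t t) idP) &&
      (Nat.beq r.t.length 4 && Nat.beq (pcomp (pcomp (pcomp (r.t.getD 0 0) (r.t.getD 1 0)) (r.t.getD 2 0)) (r.t.getD 3 0)) r.c))))))

/-- The check of two different classes. -/
def chkP (F : List ℕ) (r s : Rec) : Bool :=
  !(decide (inv r.c = inv s.c)) || (pre r.p r.c r.wd r.sts && (stOk F r.sts && (tl r.p r.c s.c r.wd r.sts).isEmpty))

include hφ hF in
theorem card_cent_le {r : Rec} (h : chkC F r = true) {x : G} (hx : φ x = el r.c) :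
    Nat.card (Subgroup.centralizer ({x} : Set G)) ≤ r.n := by
  unfold chkC at h
  rw [Bool.and_eq_true, Bool.and_eq_true, Bool.and_eq_true, Nat.ble_eq] at h
  obtain ⟨h1, h2, h3, h5⟩ := h
  have hc := ok_of_pre h1
  have h6 : Subgroup.centralizer ({x} : Set G) = Hs φ x [] := by
    ext g
    rw [Subgroup.mem_centralizer_singleton_iff]
    constructor
    · intro h; exact ⟨h, fun b hb => absurd hb List.not_mem_nil⟩
    · intro h; exact h.1
  rw [h6]
  obtain ⟨h7, h8⟩ := card_fiber φ hF hc hx r.fib [] (fun b hb => absurd hb List.not_mem_nil) h3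
  refine h7.trans (le_trans ?_ h5)
  exact Nat.mul_le_mul_left _ (card_Hs_le hφ hF h1 hx h8 h2)

include hF in
theorem not_isConj {r s : Rec} (hr : ok r.c = true) (hs : ok s.c = true) (h : chkP F r s = true) {x y : G}
    (hx : φ x = el r.c) (hy : φ y = el s.c) : ¬ IsConj x y := by
  intro hxy
  unfold chkP at h
  rw [Bool.or_eq_true, Bool.not_eq_true', decide_eq_false_iff_not, Bool.and_eq_true, Bool.and_eq_true] at h
  rcases h with h | ⟨h1, h2, h3⟩
  · apply h
    apply inv_eq hr hs
    rw [← hx, ← hy]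
    obtain ⟨g, rfl⟩ := isConj_iff.1 hxy
    exact isConj_iff.2 ⟨φ g, by rw [map_mul, map_mul, map_inv]⟩
  · obtain ⟨g, hg⟩ := isConj_iff.1 hxy
    have h4 : φ g * el r.c = el s.c * φ g := by
      rw [← hx, ← hy, ← hg, ← map_mul, ← map_mul]
      congr 1
      group
    have h5 := packOf_mem_tl h1 hs (φ g) h4 (st_mem h2 (hF g))
    rw [List.isEmpty_iff] at h3
    rw [h3] at h5
    exact List.not_mem_nil h5

theorem hP_of {F : List ℕ} {D : List Rec}
    (h : ∀ (i : ℕ) (hi : i < D.length), (D.drop (i + 1)).all (chkP F (D.get ⟨i, hi⟩)) = true) (i j : Fin D.length)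
    (hij : i < j) : chkP F (D.get i) (D.get j) = true := by
  refine List.all_eq_true.1 (h i.1 i.2) _ ?_
  rw [List.mem_iff_getElem]
  have hij' : i.1 < j.1 := hij
  refine ⟨j.1 - (i.1 + 1), by rw [List.length_drop]; omega, ?_⟩
  rw [List.getElem_drop]
  show D[i.1 + 1 + (j.1 - (i.1 + 1))]'_ = D[j.1]'_
  congr 1
  omega

theorem inG_iff {F : List ℕ} {a : ℕ} (h : inG F a = true) : ok a = true ∧ ∀ x ∈ F, papp a x = x := by
  unfold inG at h
  rw [Bool.and_eq_true] at h
  exact ⟨h.1, fun x hx => Nat.eq_of_beq_eq_true (List.all_eq_true.1 h.2 x hx)⟩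

include hφ hF in
/-- **The representatives cover the group.** -/
theorem cover_of_data (hmem : ∀ c : ℕ, ok c = true → (∀ b ∈ F, papp c b = b) → ∃ x : G, φ x = el c) (D : List Rec)
    (hC : ∀ r ∈ D, chkC F r = true) (hA : ∀ r ∈ D, chkA F r = true)
    (hP : ∀ i j : Fin D.length, i < j → chkP F (D.get i) (D.get j) = true)
    (hsum : Nat.card G ≤ 1 + ∑ i : Fin D.length, Nat.card G / (D.get i).n) (g : G) :
    g = 1 ∨ ∃ r ∈ D, ∃ x : G, φ x = el r.c ∧ IsConj x g := by
  have hA' : ∀ r ∈ D, ok r.c = true ∧ (∀ x ∈ F, papp r.c x = x) ∧ ∃ i < 24, papp r.c i ≠ i := by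
    intro r hr
    have h := hA r hr
    unfold chkA at h
    rw [Bool.and_eq_true, Bool.and_eq_true, Bool.and_eq_true, Bool.and_eq_true] at h
    obtain ⟨h1, h2, h3, h4, h5⟩ := h
    obtain ⟨i, hi, hi'⟩ := List.any_eq_true.1 h4
    refine ⟨(inG_iff h1).1, (inG_iff h1).2, i, List.mem_range.1 hi, fun h => ?_⟩
    rw [h, Nat.beq_refl] at hi'
    exact Bool.noConfusion hi'
  have hex : ∀ i : Fin D.length, ∃ x : G, φ x = el (D.get i).c := by
    intro i
    obtain ⟨h1, h4, -⟩ := hA' _ (List.get_mem D i)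
    exact hmem _ h1 h4
  choose x hx using hex
  have h1 : ∀ i, x i ≠ 1 := by
    intro i h
    obtain ⟨h1, -, j, hj, hj'⟩ := hA' _ (List.get_mem D i)
    apply hj'
    rw [← im_el h1 hj, ← hx i, h, map_one, im_one hj]
  rcases cover x (fun i => (D.get i).n) h1
    (fun i => card_cent_le hφ hF (hC _ (List.get_mem D i)) (hx i)) (fun i j hij => by
      by_contra hne
      rcases lt_or_gt_of_ne hne with h | h
      · exact not_isConj hF (hA' _ (List.get_mem D i)).1 (hA' _ (List.get_mem D j)).1 (hP i j h) (hx i) (hx j) hij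
      · exact not_isConj hF (hA' _ (List.get_mem D j)).1 (hA' _ (List.get_mem D i)).1 (hP j i h) (hx j) (hx i)
          hij.symm) hsum g with h | ⟨i, hi⟩
  · exact Or.inl h
  · exact Or.inr ⟨D.get i, List.get_mem D i, x i, hx i, hi⟩

include hφ in
/-- **Every element is a commutator.** -/
theorem allC_of_data (hmem : ∀ c : ℕ, ok c = true → (∀ b ∈ F, papp c b = b) → ∃ x : G, φ x = el c) (D : List Rec)
    (hA : ∀ r ∈ D, chkA F r = true) (hcov : ∀ g : G, g = 1 ∨ ∃ r ∈ D, ∃ x : G, φ x = el r.c ∧ IsConj x g) :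
    Cfsg.Agent.H777.Ore.AllC G := by
  intro g
  rcases hcov g with rfl | ⟨r, hr, x, hx, hg⟩
  · exact Cfsg.Agent.H777.Ore.isC_one
  · refine Cfsg.Agent.H777.Ore.IsC.of_isConj ?_ hg
    have h := hA r hr
    unfold chkA at h
    rw [Bool.and_eq_true, Bool.and_eq_true, Bool.and_eq_true, Bool.and_eq_true, Bool.and_eq_true] at h
    obtain ⟨h1, h2, h3, -, h5, -⟩ := h
    have h6 := inG_iff h1
    have h7 := inG_iff h2
    have h8 := inG_iff h3
    obtain ⟨a, ha⟩ := hmem _ h7.1 h7.2
    obtain ⟨b, hb⟩ := hmem _ h8.1 h8.2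
    refine ⟨a, b, ?_⟩
    have h9 : a * b = x * (b * a) := by
      apply hφ
      rw [map_mul, map_mul, map_mul, ha, hb, hx, ← el_pcomp h7.1 h8.1, ← el_pcomp h8.1 h7.1,
        ← el_pcomp h6.1 (ok_pcomp h8.1 h7.1), Nat.eq_of_beq_eq_true h5]
    have h10 : a * b * a⁻¹ * b⁻¹ = x * (b * a) * a⁻¹ * b⁻¹ := by rw [h9]
    rw [h10]
    group

include hφ in
/-- **Every element is a product of four elements with square one.** -/
theorem inv4_of_data (hmem : ∀ c : ℕ, ok c = true → (∀ b ∈ F, papp c b = b) → ∃ x : G, φ x = el c) (D : List Rec)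
    (hA : ∀ r ∈ D, chkA F r = true) (hcov : ∀ g : G, g = 1 ∨ ∃ r ∈ D, ∃ x : G, φ x = el r.c ∧ IsConj x g) :
    Cfsg.Agent.H777.Ore.Inv4 G := by
  intro g
  rcases hcov g with rfl | ⟨r, hr, x, hx, hg⟩
  · exact ⟨1, 1, 1, 1, by simp, by simp, by simp, by simp, by simp⟩
  · have h := hA r hr
    unfold chkA at h
    rw [Bool.and_eq_true, Bool.and_eq_true, Bool.and_eq_true, Bool.and_eq_true, Bool.and_eq_true, Bool.and_eq_true,
      Bool.and_eq_true] at h
    obtain ⟨-, -, -, -, -, h1, h2, h3⟩ := h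
    have h4 : ∀ i < 4, ∃ y : G, φ y = el (r.t.getD i 0) ∧ y * y = 1 ∧ ok (r.t.getD i 0) = true := by
      intro i hi
      have hlen : r.t.length = 4 := Nat.eq_of_beq_eq_true h2
      have h5 : r.t.getD i 0 ∈ r.t := by
        rw [List.getD_eq_getElem _ _ (by omega)]
        exact List.getElem_mem _
      have h6 := List.all_eq_true.1 h1 _ h5
      rw [Bool.and_eq_true] at h6
      have h7 := inG_iff h6.1
      obtain ⟨y, hy⟩ := hmem _ h7.1 h7.2
      refine ⟨y, hy, ?_, h7.1⟩
      apply hφ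
      rw [map_mul, map_one, hy, ← el_pcomp h7.1 h7.1, Nat.eq_of_beq_eq_true h6.2, el_idP]
    obtain ⟨y0, e0, s0, o0⟩ := h4 0 (by norm_num)
    obtain ⟨y1, e1, s1, o1⟩ := h4 1 (by norm_num)
    obtain ⟨y2, e2, s2, o2⟩ := h4 2 (by norm_num)
    obtain ⟨y3, e3, s3, o3⟩ := h4 3 (by norm_num)
    have h5 : x = y0 * y1 * y2 * y3 := by
      apply hφ
      rw [map_mul, map_mul, map_mul, e0, e1, e2, e3, hx, ← el_pcomp o0 o1, ← el_pcomp (ok_pcomp o0 o1) o2,
        ← el_pcomp (ok_pcomp (ok_pcomp o0 o1) o2) o3, Nat.eq_of_beq_eq_true h3]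
    obtain ⟨u, hu⟩ := isConj_iff.1 hg
    have hs : ∀ y : G, y * y = 1 → (u * y * u⁻¹) * (u * y * u⁻¹) = 1 := by
      intro y hy
      have : (u * y * u⁻¹) * (u * y * u⁻¹) = u * (y * y) * u⁻¹ := by group
      rw [this, hy]
      group
    refine ⟨_, _, _, _, hs _ s0, hs _ s1, hs _ s2, hs _ s3, ?_⟩
    rw [← hu, h5]
    group

end

end Cfsg.Agent.H334.Ore.Mat
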