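import Cfsg.Agent.H334.Ore.Mat
import Cfsg.Agent.H78.Pw.Base

/-!
# Products of two elements of order prime to `n` in the Mathieu groups (S2465): the engine
-/

set_option autoImplicit false
set_option linter.unusedSectionVars false

namespace Cfsg.Agent.H334.Ore.PwB

open Cfsg Cfsg.Agent.H334.Ore.Mat Cfsg.Agent.H729.Trans Cfsg.Agent.H78.Pw
open Cfsg.Agent.SporadicStructure.M24El Cfsg.Agent.SporadicA.GolayPerm Cfsg.Agent.SporadicA.GolayBase

/-- packed powers -/
def ppw (c : ℕ) : ℕ → ℕ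
  | 0 => idP
  | k + 1 => pcomp c (ppw c k)

theorem el_ppw {c : ℕ} (hc : ok c = true) (k : ℕ) : ok (ppw c k) = true ∧ el (ppw c k) = el c ^ k := by
  induction k with
  | zero => exact ⟨ok_idP, by rw [pow_zero]; exact el_idP⟩
  | succ k ih =>
    refine ⟨ok_pcomp hc ih.1, ?_⟩
    show el (pcomp c (ppw c k)) = _
    rw [el_pcomp hc ih.1, ih.2, pow_succ']

/-- The check of a factorisation into two elements of order prime to `n`. -/
def chkW (F : List ℕ) (n : ℕ) (r : Rec) (w : ℕ × ℕ × ℕ × ℕ) : Bool :=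
  Nat.beq (pcomp w.1 w.2.2.1) r.c && (inG F w.1 && (inG F w.2.2.1 && (Nat.beq (ppw w.1 w.2.1) idP &&
    (Nat.beq (ppw w.2.2.1 w.2.2.2) idP && (Nat.beq (Nat.gcd w.2.1 n) 1 && Nat.beq (Nat.gcd w.2.2.2 n) 1)))))

/-- The check of a list of factorisations. -/
def chkAll (F : List ℕ) (n : ℕ) : List Rec → List (ℕ × ℕ × ℕ × ℕ) → Bool
  | [], [] => true
  | r :: D, w :: W => chkW F n r w && chkAll F n D W
  | _, _ => false

theorem exists_chkW {F : List ℕ} {n : ℕ} : ∀ {D : List Rec} {W : List (ℕ × ℕ × ℕ × ℕ)}, chkAll F n D W = true →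
    ∀ r ∈ D, ∃ w, chkW F n r w = true := by
  intro D
  induction D with
  | nil => intro W _ r hr; exact absurd hr List.not_mem_nil
  | cons r D ih =>
    intro W h s hs
    cases W with
    | nil => exact Bool.noConfusion h
    | cons w W =>
      have h1 : chkW F n r w = true ∧ chkAll F n D W = true := by
        have h2 : (chkW F n r w && chkAll F n D W) = true := h
        rwa [Bool.and_eq_true] at h2
      rcases List.mem_cons.1 hs with rfl | hs
      · exact ⟨w, h1.1⟩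
      · exact ih h1.2 s hs

theorem all_of_data {G : Type*} [Group G] [Finite G] {φ : G →* M24} (hφ : Function.Injective φ) {F : List ℕ}
    (hmem : ∀ c : ℕ, ok c = true → (∀ b ∈ F, papp c b = b) → ∃ x : G, φ x = el c) (D : List Rec) (n : ℕ)
    {W : List (ℕ × ℕ × ℕ × ℕ)} (hW : chkAll F n D W = true)
    (hcov : ∀ g : G, g = 1 ∨ ∃ r ∈ D, ∃ x : G, φ x = el r.c ∧ IsConj x g) : All n G := by
  intro g
  rcases hcov g with rfl | ⟨r, hr, x, hx, hg⟩
  · exact Pr.one n
  · refine Pr.of_isConj ?_ hg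
    obtain ⟨w, hw⟩ := exists_chkW hW r hr
    unfold chkW at hw
    rw [Bool.and_eq_true, Bool.and_eq_true, Bool.and_eq_true, Bool.and_eq_true, Bool.and_eq_true, Bool.and_eq_true] at hw
    obtain ⟨h1, h2, h3, h4, h5, h6, h7⟩ := hw
    have h8 := inG_iff h2
    have h9 := inG_iff h3
    obtain ⟨a, ha⟩ := hmem _ h8.1 h8.2
    obtain ⟨b, hb⟩ := hmem _ h9.1 h9.2
    have hpow : ∀ (y : G) (c k : ℕ), ok c = true → φ y = el c → Nat.beq (ppw c k) idP = true → y ^ k = 1 := by
      intro y c k hc hy h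
      apply hφ
      rw [map_pow, hy, ← (el_ppw hc k).2, Nat.eq_of_beq_eq_true h, el_idP, map_one]
    refine ⟨a, b, ?_, ?_, ?_⟩
    · apply hφ
      rw [map_mul, ha, hb, hx, ← el_pcomp h8.1 h9.1, Nat.eq_of_beq_eq_true h1]
    · exact Nat.Coprime.of_dvd_left (orderOf_dvd_of_pow_eq_one (hpow a _ _ h8.1 ha h4)) (Nat.eq_of_beq_eq_true h6)
    · exact Nat.Coprime.of_dvd_left (orderOf_dvd_of_pow_eq_one (hpow b _ _ h9.1 hb h5)) (Nat.eq_of_beq_eq_true h7)

end Cfsg.Agent.H334.Ore.PwB
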